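import Cfsg.Agent.H716.FC.ExZ
import Cfsg.Agent.H563.FC.MT
import Cfsg.Agent.H786.FC.Parts
import Cfsg.Agent.H412.FC.Lang
import Mathlib
import Cfsg.Agent.S4374
import Cfsg.Agent.H412.FC.BBridge
import Cfsg.Agent.H578.PermCol
import Cfsg.Agent.H499.FC.EichC1
set_option linter.all false

-- part: H716/FC/C6x
section
/-!
# S5764, L-C6x (helper716)
-/

set_option autoImplicit false

namespace Cfsg.Agent.H716.FC
open Cfsg.Agent.H198.FC Module

universe u v

variable {K : Type u} [Field K] {V : Type v} [AddCommGroup V] [Module K V]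

theorem rk_le_one [Module.Finite K V] {Z : R K V} (h : ∀ Y : R K V, ∃ t : K, Z * Y * Z = t • Z) : rk Z ≤ 1 := by
  by_cases hZ : Z = 0
  · rw [hZ]
    unfold rk
    rw [LinearMap.range_zero, finrank_bot]
    exact Nat.zero_le _
  · have h1 : ∃ v : V, Z v ≠ 0 := by
      by_contra hcon
      push Not at hcon
      exact hZ (LinearMap.ext hcon)
    obtain ⟨v, hv⟩ := h1
    unfold rk
    have h2 : LinearMap.range Z ≤ Submodule.span K {Z v} := by
      rintro _ ⟨x, rfl⟩
      obtain ⟨ψ, hψ⟩ := Module.Projective.exists_dual_eq_one K hv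
      obtain ⟨t, ht⟩ := h (ψ.smulRight x)
      have h3 := congrArg (fun Y : R K V => Y v) ht
      change Z (ψ (Z v) • x) = t • Z v at h3
      rw [hψ, one_smul] at h3
      rw [h3]
      exact Submodule.smul_mem _ _ (Submodule.mem_span_singleton_self _)
    exact (Submodule.finrank_mono h2).trans (finrank_span_le_card {Z v} |>.trans (by simp))

namespace Dat

variable {A : Subgroup (Equiv.Perm (R K V))} {r a : ℕ}

/-- elements of small rank in the normalizer -/
theorem eq_one_of_rk [Module.Finite K V] (h : Dat A r a) (hn : finrank K V = 7 ∨ 9 ≤ finrank K V) {g : (R K V)ˣ}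
    (hg : ∀ α ∈ A, cj K V g * α * (cj K V g)⁻¹ ∈ A) (hrk : rk ((g : R K V) - 1) ≤ 2) : g = 1 := by
  haveI := h.nontriv
  have h7 : ∀ ε : K, ε ≠ 1 → ε ^ r = 1 → finrank K V = 7 → ε ^ 2 ≠ 1 := by
    intro ε h1 h2 h3 h4
    apply h1
    have hr7 : r = 7 := by
      have h5 : r ∣ 7 := by
        rw [← h3, h.hn]
        exact dvd_pow_self r (by have := h.ha; omega)
      rcases (Nat.dvd_prime (by norm_num)).1 h5 with h6 | h6
      · exact absurd h6 h.pr.one_lt.ne'
      · exact h6
    rw [hr7] at h2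
    calc ε = ε ^ 7 * ((ε ^ 2) ^ 3)⁻¹ := by
            rw [h4, one_pow, inv_one, mul_one]
            calc ε = ε * (ε ^ 2) ^ 3 := by rw [h4]; ring
              _ = ε ^ 7 := by ring
      _ = 1 := by rw [h2, h4]; simp
  have hu : ∀ u ∈ Lf A, g * u * g⁻¹ * u⁻¹ ∈ Lf A := by
    intro u hu
    refine mul_mem ?_ (inv_mem hu)
    have := hg _ hu
    rw [mem_Lf, map_mul, map_mul, map_inv]
    exact this
  by_cases hall : ∀ u ∈ Lf A, ∃ s : K, ((g * u * g⁻¹ * u⁻¹ : (R K V)ˣ) : R K V) = s • (1 : R K V)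
  · by_cases hs : ∃ s : K, (g : R K V) = s • (1 : R K V)
    · obtain ⟨s, hs⟩ := hs
      by_cases hs1 : s = 1
      · apply Units.ext
        rw [hs, hs1, one_smul]
        rfl
      · exfalso
        have h1 : (g : R K V) - 1 = (s - 1) • (1 : R K V) := by rw [hs, sub_smul, one_smul]
        rw [h1, rk_smul_one (sub_ne_zero.2 hs1)] at hrk
        omega
    · exfalso
      have hc : ∀ v ∈ Lf A, ∃ ε : K, (v : R K V) * g = ε • ((g : R K V) * v) := by
        intro v hv
        obtain ⟨s, hs⟩ := hall v⁻¹ (inv_mem hv)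
        refine ⟨s, ?_⟩
        have h2 := congrArg (fun Z : R K V => ((g * v * g⁻¹ : (R K V)ˣ) : R K V) * Z * (g : R K V)) hs
        have h3 : ((g * v * g⁻¹ : (R K V)ˣ) : R K V) * ((g * v⁻¹ * g⁻¹ * v⁻¹⁻¹ : (R K V)ˣ) : R K V) * (g : R K V) =
            ((v * g : (R K V)ˣ) : R K V) := by
          rw [← Units.val_mul, ← Units.val_mul]
          congr 1
          group
        rw [h3, mul_smul_comm, smul_mul_assoc, mul_one] at h2
        rw [← Units.val_mul, h2]
        simp [mul_assoc]
      obtain ⟨v, hv, ε, hε, hε1⟩ := h.exists_eps hs hc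
      exact not_rk hε hε1 (h7 ε hε1 (h.eps_pow hv hε)) hn (hrk.trans (by norm_num))
  · push Not at hall
    obtain ⟨u, hu1, hu2⟩ := hall
    exfalso
    obtain ⟨v, hv, ε, hε, hε1⟩ := h.exists_eps (X := ((g * u * g⁻¹ * u⁻¹ : (R K V)ˣ) : R K V))
      (by push Not; exact hu2) (fun v hv => h.comm hv (hu u hu1))
    apply not_rk hε hε1 (h7 ε hε1 (h.eps_pow hv hε)) hn
    have h1 : ((g * u * g⁻¹ * u⁻¹ : (R K V)ˣ) : R K V) - 1 =
        ((g : R K V) - 1) * ((u : R K V) * ((g⁻¹ : (R K V)ˣ) : R K V) * ((u⁻¹ : (R K V)ˣ) : R K V)) +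
          -((u : R K V) * (((g : R K V) - 1) * ((g⁻¹ : (R K V)ˣ) : R K V)) * ((u⁻¹ : (R K V)ˣ) : R K V)) := by
      simp only [Units.val_mul, sub_mul, mul_sub, one_mul, mul_one, mul_assoc, Units.mul_inv]
      abel
    rw [h1]
    have h2 := rk_mul_right ((g : R K V) - 1) ((u : R K V) * ((g⁻¹ : (R K V)ˣ) : R K V) * ((u⁻¹ : (R K V)ˣ) : R K V))
    have h3 : rk (-((u : R K V) * (((g : R K V) - 1) * ((g⁻¹ : (R K V)ˣ) : R K V)) * ((u⁻¹ : (R K V)ˣ) : R K V))) ≤ 2 :=
      (rk_neg _).trans ((rk_mul_right _ _).trans ((rk_mul_left _ _).trans ((rk_mul_right _ _).trans hrk)))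
    have h4 := rk_add (((g : R K V) - 1) * ((u : R K V) * ((g⁻¹ : (R K V)ˣ) : R K V) * ((u⁻¹ : (R K V)ˣ) : R K V)))
      (-((u : R K V) * (((g : R K V) - 1) * ((g⁻¹ : (R K V)ˣ) : R K V)) * ((u⁻¹ : (R K V)ˣ) : R K V)))
    omega

/-- `n = 8` -/
theorem eq_one_eight [Module.Finite K V] (h : Dat A r a) (hn : finrank K V = 8) {g : (R K V)ˣ}
    (hg : ∀ α ∈ A, cj K V g * α * (cj K V g)⁻¹ ∈ A) {z z' X Y X' Y' : R K V}
    (h1 : (g : R K V) - 1 = z * X + z' * Y) (h2 : (g : R K V) - 1 = X' * z + Y' * z')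
    (hz : rk z ≤ 1) (hz' : rk z' ≤ 1)
    (hc : ∀ c ∈ Lf A, (c : R K V) * z = z * c → ∃ s : K, (c : R K V) = s • (1 : R K V)) : g = 1 := by
  haveI := h.nontriv
  have hr2 : r = 2 := by
    have h5 : r ∣ 2 ^ 3 := by
      have : (2 : ℕ) ^ 3 = r ^ a := by rw [← h.hn, hn]; norm_num
      rw [this]
      exact dvd_pow_self r (by have := h.ha; omega)
    have h6 := h.pr.dvd_of_dvd_pow h5
    rcases (Nat.dvd_prime Nat.prime_two).1 h6 with h7 | h7
    · exact absurd h7 h.pr.one_lt.ne'
    · exact h7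
  set N : R K V := (g : R K V) - 1 with hN
  have hrkN : rk N ≤ 2 := by
    rw [h1]
    have := rk_add (z * X) (z' * Y)
    have a1 := (rk_mul_right z X).trans hz
    have a2 := (rk_mul_right z' Y).trans hz'
    omega
  -- two ranks
  have htwo : ∀ {c v : (R K V)ˣ} {ε : K}, (v : R K V) * c = ε • ((c : R K V) * v) → ε ≠ 1 →
      4 ≤ rk ((c : R K V) - 1) := by
    intro c v ε hvc hε
    have hε0 : ε ≠ 0 := by
      rintro rfl
      rw [zero_smul] at hvc
      exact (v * c).ne_zero (by simpa using hvc)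
    have e1 : v * ((c : R K V) - 1) * ((v⁻¹ : (R K V)ˣ) : R K V) = ε • (c : R K V) - 1 := by
      rw [mul_sub, sub_mul, hvc]
      simp [mul_assoc]
    have e2 : rk (ε • (c : R K V) - 1) ≤ rk ((c : R K V) - 1) := by
      rw [← e1]
      exact (rk_mul_right _ _).trans (rk_mul_left _ _)
    have e3 : (ε - 1) • (1 : R K V) = (ε • (c : R K V) - 1) + -(ε • ((c : R K V) - 1)) := by
      rw [smul_sub, sub_smul, one_smul]
      abel
    have e4 := rk_add (ε • (c : R K V) - 1) (-(ε • ((c : R K V) - 1)))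
    rw [← e3, rk_smul_one (sub_ne_zero.2 hε), hn] at e4
    have e5 := (rk_neg (ε • ((c : R K V) - 1))).trans (rk_smul ε _)
    omega
  have hu : ∀ u ∈ Lf A, g * u * g⁻¹ * u⁻¹ ∈ Lf A := by
    intro u hu
    refine mul_mem ?_ (inv_mem hu)
    have := hg _ hu
    rw [mem_Lf, map_mul, map_mul, map_inv]
    exact this
  by_cases hall : ∀ u ∈ Lf A, ∃ s : K, ((g * u * g⁻¹ * u⁻¹ : (R K V)ˣ) : R K V) = s • (1 : R K V)
  · by_cases hs : ∃ s : K, (g : R K V) = s • (1 : R K V)
    · obtain ⟨s, hs⟩ := hs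
      by_cases hs1 : s = 1
      · apply Units.ext
        rw [hs, hs1, one_smul]
        rfl
      · exfalso
        have h1 : N = (s - 1) • (1 : R K V) := by rw [hN, hs, sub_smul, one_smul]
        rw [h1, rk_smul_one (sub_ne_zero.2 hs1)] at hrkN
        omega
    · exfalso
      obtain ⟨v, hv, ε, hε, hε1⟩ := h.exists_eps hs (fun v hv => by
        obtain ⟨s, hs⟩ := hall v⁻¹ (inv_mem hv)
        refine ⟨s, ?_⟩
        have h2 := congrArg (fun Z : R K V => ((g * v * g⁻¹ : (R K V)ˣ) : R K V) * Z * (g : R K V)) hs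
        have h3 : ((g * v * g⁻¹ : (R K V)ˣ) : R K V) * ((g * v⁻¹ * g⁻¹ * v⁻¹⁻¹ : (R K V)ˣ) : R K V) * (g : R K V) =
            ((v * g : (R K V)ˣ) : R K V) := by
          rw [← Units.val_mul, ← Units.val_mul]
          congr 1
          group
        rw [h3, mul_smul_comm, smul_mul_assoc, mul_one] at h2
        rw [← Units.val_mul, h2]
        simp [mul_assoc])
      have h5 : 4 ≤ rk N := htwo hε hε1
      omega
  · push Not at hall
    obtain ⟨u, hu1, hu2⟩ := hall
    exfalso
    set c : (R K V)ˣ := g * u * g⁻¹ * u⁻¹ with hcdef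
    have hcA : c ∈ Lf A := hu u hu1
    obtain ⟨v, hv, ε, hε, hε1⟩ := h.exists_eps (X := (c : R K V)) (by push Not; exact hu2)
      (fun v hv => h.comm hv hcA)
    have h4c := htwo hε hε1
    -- the range
    have hrange : LinearMap.range ((c : R K V) - 1) ≤
        LinearMap.range N ⊔ (LinearMap.range N).map (u : R K V) := by
      have e1 : (c : R K V) - 1 =
          N * ((u : R K V) * ((g⁻¹ : (R K V)ˣ) : R K V) * ((u⁻¹ : (R K V)ˣ) : R K V)) -
            (u : R K V) * (N * (((g⁻¹ : (R K V)ˣ) : R K V) * ((u⁻¹ : (R K V)ˣ) : R K V))) := by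
        rw [hN, hcdef]
        simp only [Units.val_mul, sub_mul, mul_sub, one_mul, mul_assoc]
        rw [← mul_assoc (g : R K V) ((g⁻¹ : (R K V)ˣ) : R K V)]
        simp only [Units.mul_inv, one_mul]
        abel
      rw [e1]
      rintro _ ⟨x, rfl⟩
      rw [LinearMap.sub_apply]
      refine sub_mem ?_ ?_
      · exact Submodule.mem_sup_left ⟨_, rfl⟩
      · exact Submodule.mem_sup_right ⟨_, ⟨_, rfl⟩, rfl⟩
    have hle4 : finrank K ↥(LinearMap.range N ⊔ (LinearMap.range N).map (u : R K V)) ≤ rk N + rk N :=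
      (Submodule.finrank_add_le_finrank_add_finrank _ _).trans
        (Nat.add_le_add_left (Submodule.finrank_map_le _ _) _)
    have hc4 : rk ((c : R K V) - 1) ≤ finrank K ↥(LinearMap.range N ⊔ (LinearMap.range N).map (u : R K V)) :=
      Submodule.finrank_mono hrange
    have hN2 : rk N = 2 := by omega
    have hc4' : rk ((c : R K V) - 1) = 4 := by omega
    have hreq : LinearMap.range ((c : R K V) - 1) = LinearMap.range N ⊔ (LinearMap.range N).map (u : R K V) := by
      apply Submodule.eq_of_le_of_finrank_eq hrange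
      change rk ((c : R K V) - 1) = _
      omega
    have hNz : LinearMap.range N = LinearMap.range z ⊔ LinearMap.range z' := by
      have e1 : LinearMap.range N ≤ LinearMap.range z ⊔ LinearMap.range z' := by
        rw [h1]
        rintro _ ⟨x, rfl⟩
        exact Submodule.add_mem_sup ⟨_, rfl⟩ ⟨_, rfl⟩
      apply Submodule.eq_of_le_of_finrank_eq e1
      have e2 := Submodule.finrank_mono e1
      have e3 := Submodule.finrank_add_le_finrank_add_finrank (LinearMap.range z) (LinearMap.range z')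
      change rk N = _
      change rk N ≤ _ at e2
      change _ ≤ rk z + rk z' at e3
      omega
    -- the kernel
    have hkc : finrank K (LinearMap.ker ((c : R K V) - 1)) = 4 := by
      have := LinearMap.finrank_range_add_finrank_ker ((c : R K V) - 1)
      change rk ((c : R K V) - 1) + _ = _ at this
      omega
    have hkN : finrank K (LinearMap.ker N) = 6 := by
      have := LinearMap.finrank_range_add_finrank_ker N
      change rk N + _ = _ at this
      omega
    have hkN' : finrank K ((LinearMap.ker N).map (u : R K V)) = 6 := by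
      have hinj : Function.Injective (u : R K V) := by
        intro x y hxy
        have e1 : ((u⁻¹ : (R K V)ˣ) : R K V) ((u : R K V) x) = ((u⁻¹ : (R K V)ˣ) : R K V) ((u : R K V) y) := by
          rw [hxy]
        rwa [← Module.End.mul_apply, ← Module.End.mul_apply, Units.inv_mul] at e1
      rw [← (Submodule.equivMapOfInjective (u : R K V) hinj (LinearMap.ker N)).finrank_eq, hkN]
    have hker : LinearMap.ker N ⊓ (LinearMap.ker N).map (u : R K V) = LinearMap.ker ((c : R K V) - 1) := by
      have e1 : LinearMap.ker N ⊓ (LinearMap.ker N).map (u : R K V) ≤ LinearMap.ker ((c : R K V) - 1) := by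
        rintro x ⟨hx1, ⟨y, hy, rfl⟩⟩
        have f1 : (g : R K V) ((u : R K V) y) = (u : R K V) y := by
          have : N ((u : R K V) y) = 0 := hx1
          rw [hN, LinearMap.sub_apply, Module.End.one_apply, sub_eq_zero] at this
          exact this
        have f2 : (g : R K V) y = y := by
          have : N y = 0 := hy
          rw [hN, LinearMap.sub_apply, Module.End.one_apply, sub_eq_zero] at this
          exact this
        have f3 : ((g⁻¹ : (R K V)ˣ) : R K V) y = y := by
          conv_lhs => rw [← f2]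
          rw [← Module.End.mul_apply, Units.inv_mul, Module.End.one_apply]
        have f4 : ((u⁻¹ : (R K V)ˣ) : R K V) ((u : R K V) y) = y := by
          rw [← Module.End.mul_apply, Units.inv_mul, Module.End.one_apply]
        rw [LinearMap.mem_ker, LinearMap.sub_apply, Module.End.one_apply, sub_eq_zero]
        change (g : R K V) ((u : R K V) (((g⁻¹ : (R K V)ˣ) : R K V) (((u⁻¹ : (R K V)ˣ) : R K V) ((u : R K V) y)))) = _
        rw [f4, f3, f1]
      apply Submodule.eq_of_le_of_finrank_eq e1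
      have e2 := Submodule.finrank_mono e1
      have e3 := Submodule.finrank_sup_add_finrank_inf_eq (LinearMap.ker N) ((LinearMap.ker N).map (u : R K V))
      have e4 := Submodule.finrank_le (LinearMap.ker N ⊔ (LinearMap.ker N).map (u : R K V))
      omega
    have hkz : LinearMap.ker z ⊓ LinearMap.ker z' = LinearMap.ker N := by
      have e1 : LinearMap.ker z ⊓ LinearMap.ker z' ≤ LinearMap.ker N := by
        rintro x ⟨hx1, hx2⟩
        have f1 : z x = 0 := hx1
        have f2 : z' x = 0 := hx2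
        rw [LinearMap.mem_ker, h2, LinearMap.add_apply, Module.End.mul_apply, Module.End.mul_apply, f1, f2,
          map_zero, map_zero, add_zero]
      apply Submodule.eq_of_le_of_finrank_eq e1
      have e2 := Submodule.finrank_mono e1
      have e3 := Submodule.finrank_sup_add_finrank_inf_eq (LinearMap.ker z) (LinearMap.ker z')
      have e4 := Submodule.finrank_le (LinearMap.ker z ⊔ LinearMap.ker z')
      have e5 := LinearMap.finrank_range_add_finrank_ker z
      have e6 := LinearMap.finrank_range_add_finrank_ker z'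
      change rk z + _ = _ at e5
      change rk z' + _ = _ at e6
      omega
    -- `c² = 1`
    have hc2 : (c : R K V) * c = 1 := by
      obtain ⟨s, hs⟩ := h.pow_sc hcA
      rw [hr2, sq] at hs
      have e1 : (LinearMap.ker ((c : R K V) - 1)) ≠ ⊥ := by
        intro e2
        rw [e2, finrank_bot] at hkc
        omega
      obtain ⟨x, hx, hx0⟩ := (Submodule.ne_bot_iff _).1 e1
      have e3 : (c : R K V) x = x := by
        rw [LinearMap.mem_ker, LinearMap.sub_apply, Module.End.one_apply, sub_eq_zero] at hx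
        exact hx
      have e4 := congrArg (fun Z : R K V => Z x) hs
      change (c : R K V) ((c : R K V) x) = s • x at e4
      rw [e3, e3] at e4
      have e5 : (1 - s) • x = 0 := by rw [sub_smul, one_smul, ← e4, sub_self]
      rcases smul_eq_zero.1 e5 with e6 | e6
      · rw [hs, ← sub_eq_zero.1 e6, one_smul]
      · exact absurd e6 hx0
    have hcz : (c : R K V) * z = -z := by
      apply LinearMap.ext
      intro x
      have e1 : z x ∈ LinearMap.range ((c : R K V) - 1) := by
        rw [hreq, hNz]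
        exact Submodule.mem_sup_left (Submodule.mem_sup_left ⟨x, rfl⟩)
      obtain ⟨y, hy⟩ := e1
      change (c : R K V) (z x) = -(z x)
      rw [← hy, LinearMap.sub_apply, Module.End.one_apply, map_sub, ← Module.End.mul_apply, hc2,
        Module.End.one_apply]
      abel
    have hzc : z * (c : R K V) = -z := by
      apply LinearMap.ext
      intro x
      have e1 : (c : R K V) x + x ∈ LinearMap.ker z := by
        have e2 : (c : R K V) x + x ∈ LinearMap.ker ((c : R K V) - 1) := by
          rw [LinearMap.mem_ker, LinearMap.sub_apply, Module.End.one_apply, map_add, ← Module.End.mul_apply, hc2,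
            Module.End.one_apply]
          abel
        rw [← hker] at e2
        have e3 := e2.1
        rw [← hkz] at e3
        exact e3.1
      change z ((c : R K V) x) = -(z x)
      rw [LinearMap.mem_ker, map_add] at e1
      exact eq_neg_of_add_eq_zero_left e1
    obtain ⟨s, hs⟩ := hc c hcA (by rw [hcz, hzc])
    exact hu2 s hs

/-- `n ≥ 7` -/
theorem eq_one_gen [Module.Finite K V] (h : Dat A r a) (hn : 7 ≤ finrank K V) {g : (R K V)ˣ}
    (hg : ∀ α ∈ A, cj K V g * α * (cj K V g)⁻¹ ∈ A) {z z' X Y X' Y' : R K V}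
    (h1 : (g : R K V) - 1 = z * X + z' * Y) (h2 : (g : R K V) - 1 = X' * z + Y' * z')
    (hz : rk z ≤ 1) (hz' : rk z' ≤ 1)
    (hc : ∀ c ∈ Lf A, (c : R K V) * z = z * c → ∃ s : K, (c : R K V) = s • (1 : R K V)) : g = 1 := by
  by_cases h8 : finrank K V = 8
  · exact h.eq_one_eight h8 hg h1 h2 hz hz' hc
  · apply h.eq_one_of_rk (by omega) hg
    rw [h1]
    have := rk_add (z * X) (z' * Y)
    have a1 := (rk_mul_right z X).trans hz
    have a2 := (rk_mul_right z' Y).trans hz'
    omega

end Dat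

/-- the image of a rank one map -/
theorem rk_image [Module.Finite K V] {f : Equiv.Perm (R K V)} (hf : f ∈ RA K V) {σ : K →+* K}
    (hσ : ∀ (s : K) (X : R K V), f (s • X) = σ s • f X) (w : V) (φ : Module.Dual K V) :
    rk (f (φ.smulRight w)) ≤ 1 := by
  apply rk_le_one
  intro Y
  obtain ⟨X, rfl⟩ := f.surjective Y
  refine ⟨σ (φ (X w)), ?_⟩
  rw [← hσ, ← zXz]
  rcases hf.2 with h | h
  · rw [h, h]
  · rw [h, h, mul_assoc]

/-- **L-C6x**: a transvection `x` with `C_S(A) ∩ S^x = 1` -/
theorem c6x [Finite K] [Module.Finite K V] {S A : Subgroup (Equiv.Perm (R K V))} {r a : ℕ} (hS : S ≤ RA K V)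
    (hC : C6Data S A r a) (hn : 7 ≤ finrank K V) :
    ∃ x : (R K V)ˣ, LinearMap.det (x : R K V) = 1 ∧
      (∀ f ∈ S, (∀ g ∈ A, f * g = g * f) → cj K V x * f * (cj K V x)⁻¹ ∈ S → f = 1) ∧
      ∀ f ∈ S, (∀ g ∈ A, f * g = g * f) → (cj K V x)⁻¹ * f * cj K V x ∈ S → f = 1 := by
  have h : Dat A r a := Dat.of hC
  have hnorm : ∀ g ∈ S, ∀ f ∈ A, g * f * g⁻¹ ∈ A := hC.2.2.2.2.2.2.2.2.2.1
  haveI := h.nontriv
  obtain ⟨w, φ, hφw, hz0, hpos, hneg⟩ := h.exists_z (by omega)
  set z : R K V := φ.smulRight w with hz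
  have hcz : ∀ c ∈ Lf A, (c : R K V) * z = z * c → ∃ s : K, (c : R K V) = s • (1 : R K V) := by
    intro c hc hcomm
    apply cj_eq_one
    apply hpos _ (RP_le_RA (IN_le_RP (h.hIN hc)))
    · intro g hg
      exact h.hcomm _ hc _ hg
    · exact (cj_mem_RP c).2
    · rw [cj_apply, hcomm, mul_assoc, Units.mul_inv, mul_one]
  have hzz : z * z = 0 := by
    apply LinearMap.ext
    intro v
    change φ (φ v • w) • w = 0
    rw [map_smul, hφw, smul_zero, zero_smul]
  -- the general statement for `t • z`, `t = ± 1`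
  have key : ∀ t : K, (t = 1 ∨ t = -1) → ∀ x : (R K V)ˣ, (x : R K V) = 1 + t • z →
      ((x⁻¹ : (R K V)ˣ) : R K V) = 1 - t • z →
      ∀ f ∈ S, (∀ g ∈ A, f * g = g * f) → cj K V x * f * (cj K V x)⁻¹ ∈ S → f = 1 := by
    intro t ht x hx hxi f hfS hfA hfx
    have hf := hS hfS
    have hf1 := RA_one hf
    obtain ⟨σ, hσ⟩ := exists_sig hf
    have ht0 : t ≠ 0 := by
      rcases ht with rfl | rfl
      · exact one_ne_zero
      · exact neg_ne_zero.2 one_ne_zero
    have hσt : σ t = t := by
      rcases ht with rfl | rfl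
      · exact map_one σ
      · rw [map_neg, map_one]
    have hfz : rk (f z) ≤ 1 := rk_image hf hσ w φ
    have hz1 : rk z ≤ 1 := rk_smulRight φ w
    have hfzz : f z * f z = 0 := by
      rcases hf.2 with hm | hm
      · rw [← hm, hzz, RA_zero hf]
      · rw [← hm, hzz, RA_zero hf]
    have hd : cj K V x * f * (cj K V x)⁻¹ * f⁻¹ ∈ S := mul_mem hfx (inv_mem hfS)
    have hfsub : ∀ X Y : R K V, f (X - Y) = f X - f Y := by
      intro X Y
      rw [eq_sub_iff_add_eq, ← hf.1, sub_add_cancel]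
    have hfx1 : f (x : R K V) = 1 + t • f z := by rw [hx, hf.1, hf1, hσ, hσt]
    have hfx2 : f ((x⁻¹ : (R K V)ˣ) : R K V) = 1 - t • f z := by rw [hxi, hfsub, hf1, hσ, hσt]
    have hci : (cj K V x)⁻¹ = cj K V x⁻¹ := (map_inv _ _).symm
    rcases hf.2 with hm | hm
    · -- automorphism
      let y : (R K V)ˣ := ⟨1 + t • f z, 1 - t • f z, by
        rw [← hfx1, ← hfx2, ← hm, Units.mul_inv, hf1], by
        rw [← hfx1, ← hfx2, ← hm, Units.inv_mul, hf1]⟩
      have hg : cj K V (x * y⁻¹) = cj K V x * f * (cj K V x)⁻¹ * f⁻¹ := by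
        apply Equiv.ext
        intro Y
        obtain ⟨X, rfl⟩ := f.surjective Y
        rw [hci]
        change ((x * y⁻¹ : (R K V)ˣ) : R K V) * f X * (((x * y⁻¹)⁻¹ : (R K V)ˣ) : R K V) =
          x * f ((cj K V x⁻¹) ((f⁻¹ : Equiv.Perm (R K V)) (f X))) * ((x⁻¹ : (R K V)ˣ) : R K V)
        rw [show (f⁻¹ : Equiv.Perm (R K V)) (f X) = X from f.symm_apply_apply X, cj_apply, hm, hm, inv_inv, hfx1, hfx2, mul_inv_rev, inv_inv, Units.val_mul,
          Units.val_mul]
        simp only [mul_assoc]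
        rfl
      have h1 : x * y⁻¹ = 1 := by
        apply h.eq_one_gen hn (z := z) (z' := f z) (X := t • (1 - t • f z)) (Y := (-t) • 1) (X' := t • 1)
          (Y' := -(t • (1 + t • z))) _ _ _ hz1 hfz hcz
        · intro α hα
          rw [hg]
          exact hnorm _ hd α hα
        · rw [Units.val_mul, hx]
          change (1 + t • z) * (1 - t • f z) - 1 = _
          rw [add_mul, one_mul, mul_smul_comm, mul_smul_comm, mul_one, neg_smul, smul_mul_assoc]
          abel
        · rw [Units.val_mul, hx]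
          change (1 + t • z) * (1 - t • f z) - 1 = _
          rw [mul_sub, mul_one, mul_smul_comm, smul_mul_assoc, one_mul, neg_mul, smul_mul_assoc]
          abel
      have h2 : x = y := mul_inv_eq_one.1 h1
      have h3 : (1 : R K V) + t • z = 1 + t • f z := by
        rw [← hx, h2]
      have h4 : t • f z = t • z := (add_left_cancel h3).symm
      exact hpos f hf hfA hm (smul_right_injective _ ht0 h4)
    · -- anti-automorphism
      exfalso
      let y : (R K V)ˣ := ⟨1 + t • f z, 1 - t • f z, by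
        rw [← hfx1, ← hfx2, ← hm, Units.inv_mul, hf1], by
        rw [← hfx1, ← hfx2, ← hm, Units.mul_inv, hf1]⟩
      have hg : cj K V (x * y) = cj K V x * f * (cj K V x)⁻¹ * f⁻¹ := by
        apply Equiv.ext
        intro Y
        obtain ⟨X, rfl⟩ := f.surjective Y
        rw [hci]
        change ((x * y : (R K V)ˣ) : R K V) * f X * (((x * y)⁻¹ : (R K V)ˣ) : R K V) =
          x * f ((cj K V x⁻¹) ((f⁻¹ : Equiv.Perm (R K V)) (f X))) * ((x⁻¹ : (R K V)ˣ) : R K V)
        rw [show (f⁻¹ : Equiv.Perm (R K V)) (f X) = X from f.symm_apply_apply X, cj_apply, hm, hm, inv_inv, hfx1, hfx2, mul_inv_rev, Units.val_mul,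
          Units.val_mul]
        simp only [mul_assoc]
        rfl
      have h1 : x * y = 1 := by
        apply h.eq_one_gen hn (z := z) (z' := f z) (X := t • (1 + t • f z)) (Y := t • 1) (X' := t • 1)
          (Y' := t • (1 + t • z)) _ _ _ hz1 hfz hcz
        · intro α hα
          rw [hg]
          exact hnorm _ hd α hα
        · rw [Units.val_mul, hx]
          change (1 + t • z) * (1 + t • f z) - 1 = _
          rw [add_mul, one_mul, mul_smul_comm, mul_smul_comm, mul_one, smul_mul_assoc]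
          abel
        · rw [Units.val_mul, hx]
          change (1 + t • z) * (1 + t • f z) - 1 = _
          rw [mul_add, mul_one, mul_smul_comm, smul_mul_assoc, one_mul, smul_mul_assoc]
          abel
      have h2 : y = x⁻¹ := eq_inv_of_mul_eq_one_right h1
      have h3 : (1 : R K V) + t • f z = 1 - t • z := by
        rw [← hxi, ← h2]
      have h4 : t • f z = t • (-z) := by
        rw [smul_neg]
        have h5 : (1 : R K V) + t • f z = 1 + -(t • z) := by rw [h3, sub_eq_add_neg]
        exact add_left_cancel h5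
      exact hneg f hf hfA hm (smul_right_injective _ ht0 h4)
  have e1 : (1 + z) * (1 - z) = 1 := by
    rw [add_mul, mul_sub, mul_sub, hzz]
    simp
  have e2 : (1 - z) * (1 + z) = 1 := by
    rw [sub_mul, mul_add, mul_add, hzz]
    simp
  let x : (R K V)ˣ := ⟨1 + z, 1 - z, e1, e2⟩
  refine ⟨x, ?_, ?_, ?_⟩
  · change LinearMap.det (1 + z) = 1
    have h1 : (1 + z : R K V) = LinearMap.transvection φ w := by
      apply LinearMap.ext
      intro v
      rw [LinearMap.transvection.apply]
      rfl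
    rw [h1, LinearMap.transvection.det, hφw, add_zero]
  · apply key 1 (Or.inl rfl) x
    · rw [one_smul]
    · rw [one_smul]
      rfl
  · intro f hf hfA hfx
    apply key (-1) (Or.inr rfl) x⁻¹ _ _ f hf hfA
    · rw [map_inv, inv_inv]; exact hfx
    · rw [neg_smul, one_smul, ← sub_eq_add_neg]
      rfl
    · rw [inv_inv, neg_smul, one_smul, sub_neg_eq_add]

end Cfsg.Agent.H716.FC
end

-- part: H716/FC/C6Seven
section
/-!
# S5764: extraspecial type normalizers, `n ≥ 7` (helper716)
-/

set_option autoImplicit false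

namespace Cfsg.Agent.H716.FC
open Cfsg.Agent.H198.FC Module

universe u v

/-- **`StmtC6` for `n ≥ 7`** -/
theorem stmtC6_ge7 : Cfsg.Agent.H786.FC.StmtC6On.{u, v} (fun n => 7 ≤ n) := by
  intro K _ _ V _ _ _ S hSR _ hS A r a hD hn
  obtain ⟨x, hx1, hx, -⟩ := c6x hSR hD hn
  exact Cfsg.Agent.H563.FC.mtL hD hS x hx1 hx

end Cfsg.Agent.H716.FC
end

-- part: H57/FC/Trv
section
/-!
# S5764, symplectic C1 / C2: the transvection lemma (helper57)

`Blk b U`: `V` is the orthogonal sum of the subspaces `U i`; `Pm U g π`: `g` permutes the `U i` by `π`.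
`trv_lemma`: if `g` and its conjugate by the transvection with centre `w = ∑ w i` (all `w i ≠ 0`) permute the blocks then
`g (w i) = c i • w (π i)` with `c i * c l = μ` for `i ≠ l`.
-/

set_option autoImplicit false

namespace Cfsg.Agent.H57.FC

open Subgroup Cfsg.Agent.H198.FC Cfsg.Agent.H412.FC

universe u v w

variable {K : Type u} [Field K] {V : Type v} [AddCommGroup V] [Module K V] {ι : Type w}

/-! ### basic facts on symplectic forms -/

section form

variable {b : Cl K V} (hb : b.IsSp)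

theorem B_zero_left (b : Cl K V) (w : V) : b.B 0 w = 0 := by
  have h := b.smul_left 0 (0 : V) w
  rwa [zero_smul, zero_mul] at h

theorem B_zero_right (b : Cl K V) (w : V) : b.B w 0 = 0 := by
  have h := b.smul_right 0 w (0 : V)
  rwa [zero_smul, map_zero, zero_mul] at h

theorem B_neg_left (b : Cl K V) (v w : V) : b.B (-v) w = -b.B v w := by
  have h := b.smul_left (-1) v w
  rwa [neg_one_smul, neg_one_mul] at h

theorem B_neg_right (b : Cl K V) (v w : V) : b.B v (-w) = -b.B v w := by
  have h := b.smul_right (-1) v w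
  rwa [neg_one_smul, map_neg, map_one, neg_one_mul] at h

theorem B_sub_left (b : Cl K V) (v v' w : V) : b.B (v - v') w = b.B v w - b.B v' w := by
  rw [sub_eq_add_neg, b.add_left, B_neg_left, ← sub_eq_add_neg]

theorem B_sub_right (b : Cl K V) (v w w' : V) : b.B v (w - w') = b.B v w - b.B v w' := by
  rw [sub_eq_add_neg, b.add_right, B_neg_right, ← sub_eq_add_neg]

theorem B_sum_right (b : Cl K V) (v : V) (s : Finset ι) (f : ι → V) :
    b.B v (∑ i ∈ s, f i) = ∑ i ∈ s, b.B v (f i) := by
  classical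
  induction s using Finset.induction_on with
  | empty => simpa using B_zero_right b v
  | insert a s ha ih => rw [Finset.sum_insert ha, Finset.sum_insert ha, b.add_right, ih]

include hb in
theorem B_smul_right (a : K) (v w : V) : b.B v (a • w) = a * b.B v w := by
  rw [b.smul_right, hb.1]

include hb in
theorem B_anti (v w : V) : b.B w v = -b.B v w := by
  have h := hb.2 (v + w)
  rw [b.add_left, b.add_right, b.add_right, hb.2, hb.2, zero_add, add_zero] at h
  exact (neg_eq_of_add_eq_zero_right h).symm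

include hb in
theorem B_zero_symm {v w : V} (h : b.B v w = 0) : b.B w v = 0 := by
  rw [B_anti hb, h, neg_zero]

end form

/-! ### blocks -/

/-- `V` is the orthogonal sum of the subspaces `U i` -/
structure Blk (b : Cl K V) (U : ι → Submodule K V) : Prop where
  ort : ∀ i j, i ≠ j → ∀ v ∈ U i, ∀ w ∈ U j, b.B v w = 0
  top : ⨆ i, U i = ⊤

/-- `g` permutes the `U i` by `π` -/
def Pm (U : ι → Submodule K V) (g : Equiv.Perm V) (π : Equiv.Perm ι) : Prop := ∀ i v, g v ∈ U (π i) ↔ v ∈ U i

theorem Blk.nondeg {b : Cl K V} {U : ι → Submodule K V} (h : Blk b U) {i : ι} {v : V} (hv : v ∈ U i)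
    (h0 : ∀ u ∈ U i, b.B v u = 0) : v = 0 := by
  classical
  apply b.nondeg
  intro w
  have hw : w ∈ ⨆ i, U i := by rw [h.top]; trivial
  induction hw using Submodule.iSup_induction' with
  | mem j x hx =>
    by_cases hj : i = j
    · subst hj
      exact h0 x hx
    · exact h.ort i j hj v hv x hx
  | zero => exact B_zero_right b v
  | add x y _ _ hx hy => rw [b.add_right, hx, hy, add_zero]

theorem Blk.exists_one {b : Cl K V} (hb : b.IsSp) {U : ι → Submodule K V} (h : Blk b U) {i : ι} {v : V}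
    (hv : v ∈ U i) (hv0 : v ≠ 0) : ∃ u ∈ U i, b.B u v = 1 := by
  by_contra hcon
  push Not at hcon
  apply hv0
  refine h.nondeg hv fun u hu => ?_
  by_contra hne
  have h1 : b.B u v ≠ 0 := fun h1 => hne (B_zero_symm hb h1)
  apply hcon ((b.B u v)⁻¹ • u) ((U i).smul_mem _ hu)
  rw [b.smul_left, inv_mul_cancel₀ h1]

theorem Blk.B_sum [Fintype ι] {b : Cl K V} {U : ι → Submodule K V} (h : Blk b U) {w : ι → V}
    (hw : ∀ i, w i ∈ U i) {i : ι} {u : V} (hu : u ∈ U i) : b.B u (∑ j, w j) = b.B u (w i) := by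
  classical
  rw [B_sum_right]
  refine Finset.sum_eq_single i (fun j _ hj => h.ort i j (Ne.symm hj) u hu (w j) (hw j)) fun hi => ?_
  exact absurd (Finset.mem_univ i) hi

/-- **The transvection lemma.** -/
theorem trv_lemma [Fintype ι] [Nontrivial ι] {b : Cl K V} (hb : b.IsSp) {U : ι → Submodule K V} (h : Blk b U)
    {g g' : Equiv.Perm V} {σ σ' : K ≃+* K} {μ μ' : K} (hg : IsSim b g σ μ) (hg' : IsSim b g' σ' μ')
    {π π' : Equiv.Perm ι} (hπ : Pm U g π) (hπ' : Pm U g' π') {w : ι → V} (hw : ∀ i, w i ∈ U i)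
    (hw0 : ∀ i, w i ≠ 0)
    (hx : ∀ v, g' (v + b.B v (∑ i, w i) • ∑ i, w i) = g v + b.B (g v) (∑ i, w i) • ∑ i, w i) :
    ∃ c : ι → K, (∀ i, g (w i) = c i • w (π i)) ∧ ∀ i l, i ≠ l → c i * c l = μ := by
  classical
  set W : V := ∑ i, w i with hW
  have hBW : ∀ {i : ι} {u : V}, u ∈ U i → b.B u W = b.B u (w i) := fun hu => h.B_sum hw hu
  -- vectors perpendicular to `w i`
  have h1 : ∀ i v, v ∈ U i → b.B v (w i) = 0 → b.B (g v) (w (π i)) = 0 ∧ g' v = g v := by
    intro i v hv hv0
    have hgv : g v ∈ U (π i) := (hπ i v).2 hv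
    have hgv' : g' v ∈ U (π' i) := (hπ' i v).2 hv
    have e1 : g' v = g v + b.B (g v) (w (π i)) • W := by
      have := hx v
      rw [hBW hv, hv0, zero_smul, add_zero, hBW hgv] at this
      exact this
    have h0 : b.B (g v) (w (π i)) = 0 := by
      by_cases hp : π' i = π i
      · obtain ⟨j, hj⟩ := exists_ne (π i)
        obtain ⟨u, hu, hu1⟩ := h.exists_one hb (hw j) (hw0 j)
        have e2 := congrArg (b.B u) e1
        rw [b.add_right, h.ort j (π' i) (by rw [hp]; exact hj) u hu _ hgv', h.ort j (π i) hj u hu _ hgv,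
          B_smul_right hb, hBW hu, hu1, mul_one, zero_add] at e2
        exact e2.symm
      · have e2 := congrArg (b.B (w (π i))) e1
        rw [b.add_right, h.ort (π i) (π' i) (Ne.symm hp) _ (hw _) _ hgv', B_smul_right hb, hBW (hw _),
          hb.2, mul_zero, add_zero] at e2
        exact B_zero_symm hb e2.symm
    refine ⟨h0, ?_⟩
    rw [e1, h0, zero_smul, add_zero]
  have h2 : ∀ i, g' (w i) = g (w i) := fun i => (h1 i (w i) (hw i) (hb.2 _)).2
  choose v hv hv1 using fun i => h.exists_one hb (hw i) (hw0 i)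
  -- `w (π i)` is a multiple of `g (w i)`
  have h3 : ∀ i, w (π i) = (b.B (g (v i)) (w (π i)) * μ⁻¹) • g (w i) := by
    intro i
    rw [← sub_eq_zero]
    have hgw : g (w i) ∈ U (π i) := (hπ i (w i)).2 (hw i)
    refine h.nondeg (Submodule.sub_mem _ (hw _) (Submodule.smul_mem _ _ hgw)) fun u hu => ?_
    apply B_zero_symm hb
    obtain ⟨t, rfl⟩ := g.surjective u
    have ht : t ∈ U i := (hπ i t).1 hu
    have h4 := (h1 i (t - b.B t (w i) • v i) ((U i).sub_mem ht ((U i).smul_mem _ (hv i))) (by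
      rw [B_sub_left, b.smul_left, hv1, mul_one, sub_self])).1
    rw [hg.map_sub, hg.smul, B_sub_left, b.smul_left, sub_eq_zero] at h4
    rw [B_sub_right, B_smul_right hb, hg.form, h4]
    field_simp [hg.ne]
    ring
  have hne : ∀ i, b.B (g (v i)) (w (π i)) ≠ 0 := by
    intro i h0
    apply hw0 (π i)
    rw [h3 i, h0, zero_mul, zero_smul]
  have h4 : ∀ i, g (w i) = (μ * (b.B (g (v i)) (w (π i)))⁻¹) • w (π i) := by
    intro i
    have e := h3 i
    have e2 : (μ * (b.B (g (v i)) (w (π i)))⁻¹) • w (π i) =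
        (μ * (b.B (g (v i)) (w (π i)))⁻¹) • ((b.B (g (v i)) (w (π i)) * μ⁻¹) • g (w i)) := by
      rw [← e]
    rw [e2, smul_smul]
    have e3 : μ * (b.B (g (v i)) (w (π i)))⁻¹ * (b.B (g (v i)) (w (π i)) * μ⁻¹) = 1 := by
      have := hne i
      have := hg.ne
      field_simp
    rw [e3, one_smul]
  refine ⟨fun i => μ * (b.B (g (v i)) (w (π i)))⁻¹, h4, fun i l hil => ?_⟩
  -- the component at `π l`
  have h5 : (μ * (b.B (g (v l)) (w (π l)))⁻¹) = b.B (g (v i)) (w (π i)) := by
    have hgv : g (v i) ∈ U (π i) := (hπ i _).2 (hv i)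
    obtain ⟨u, hu, hu1⟩ := h.exists_one hb (hw (π l)) (hw0 (π l))
    have hne' : π l ≠ π i := fun h => hil (π.injective h).symm
    have hπ'i : ∀ i, π' i = π i := by
      intro i
      by_contra hcon
      have a1 : g (w i) ∈ U (π i) := (hπ i _).2 (hw i)
      have a2 : g (w i) ∈ U (π' i) := by
        rw [← h2]
        exact (hπ' i _).2 (hw i)
      have a3 : g (w i) = 0 := h.nondeg a1 fun u hu =>
        B_zero_symm hb (h.ort _ _ (Ne.symm hcon) u hu _ a2)
      apply hw0 i
      apply g.injective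
      rw [a3, hg.map_zero]
    have hgv' : g' (v i) ∈ U (π i) := by
      rw [← hπ'i]
      exact (hπ' i _).2 (hv i)
    have e := hx (v i)
    rw [hBW (hv i), hv1, one_smul, hg'.add, hBW hgv] at e
    have e' := congrArg (b.B u) e
    rw [b.add_right, b.add_right, h.ort _ _ hne' u hu _ hgv', h.ort _ _ hne' u hu _ hgv, zero_add, zero_add,
      B_smul_right hb, hBW hu, hu1, mul_one, hW, hg'.map_sum, B_sum_right] at e'
    rw [Finset.sum_eq_single l] at e'
    · rw [h2, h4 l, B_smul_right hb, hu1, mul_one] at e'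
      exact e'
    · intro j _ hj
      rw [h2]
      exact h.ort (π l) (π j) (fun hh => hj (π.injective hh).symm) u hu _ ((hπ j _).2 (hw j))
    · intro hl
      exact absurd (Finset.mem_univ l) hl
  change μ * (b.B (g (v i)) (w (π i)))⁻¹ * (μ * (b.B (g (v l)) (w (π l)))⁻¹) = μ
  rw [h5, mul_assoc, inv_mul_cancel₀ (hne i), mul_one]

end Cfsg.Agent.H57.FC
end

-- part: H57/FC/Quad
section
/-!
# S5764, symplectic C1 / C2: quadruples of vectors (helper57)

`typ w t`: the `t`-th pair of the quadruple `w` is proportional.  `quad_type`: quadruples of each of the six types with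
span containing three given vectors; `quad_special`: a rigid quadruple, not of the first five types.
-/

set_option autoImplicit false

namespace Cfsg.Agent.H57.FC

universe u v

variable {K : Type u} [Field K] {V : Type v} [AddCommGroup V] [Module K V]

/-- the six pairs -/
def pr : Fin 6 → Fin 4 × Fin 4 := ![(0, 1), (0, 2), (0, 3), (1, 2), (1, 3), (2, 3)]

variable (K) in
/-- the `t`-th pair is proportional -/
def typ (w : Fin 4 → V) (t : Fin 6) : Prop := ∃ s : K, w (pr t).2 = s • w (pr t).1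

variable (K) in
/-- independent pairs -/
def Ind (x y : V) : Prop := ∀ s t : K, s • x + t • y = 0 → s = 0 ∧ t = 0

theorem Ind.ne_left {x y : V} (h : Ind K x y) : x ≠ 0 := by
  rintro rfl
  have := (h 1 0 (by simp)).1
  exact one_ne_zero this

theorem Ind.ne_right {x y : V} (h : Ind K x y) : y ≠ 0 := by
  rintro rfl
  have := (h 0 1 (by simp)).2
  exact one_ne_zero this

theorem Ind.not_smul {x y : V} (h : Ind K x y) : ∀ s : K, y ≠ s • x := by
  rintro s rfl
  have := (h s (-1) (by simp)).2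
  exact one_ne_zero (neg_eq_zero.1 this)

theorem Ind.not_smul' {x y : V} (h : Ind K x y) : ∀ s : K, x ≠ s • y := by
  rintro s rfl
  have := (h (-1) s (by simp)).1
  exact one_ne_zero (neg_eq_zero.1 this)

/-- two vectors in a plane -/
theorem exists_plane {U : Submodule K V} (h2 : ∃ x ∈ U, ∃ y ∈ U, Ind K x y) {x y : V} (hx : x ∈ U) (hy : y ∈ U) :
    ∃ e ∈ U, ∃ f ∈ U, Ind K e f ∧ x ∈ Submodule.span K {e, f} ∧ y ∈ Submodule.span K {e, f} := by
  classical
  have one : ∀ z ∈ U, z ≠ 0 → ∃ f ∈ U, Ind K z f := by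
    intro z hz hz0
    obtain ⟨p, hp, q, hq, hpq⟩ := h2
    by_contra hcon
    push Not at hcon
    have key : ∀ f ∈ U, ∃ s : K, f = s • z := by
      intro f hf
      have h := hcon f hf
      simp only [Ind] at h
      push Not at h
      obtain ⟨s, t, hst, h⟩ := h
      by_cases ht : t = 0
      · subst ht
        rw [zero_smul, add_zero] at hst
        rcases smul_eq_zero.1 hst with h0 | h0
        · exact absurd rfl (h h0)
        · exact absurd h0 hz0
      · refine ⟨-(t⁻¹ * s), ?_⟩
        have : t • f = -(s • z) := by rw [eq_neg_iff_add_eq_zero, add_comm]; exact hst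
        rw [neg_smul, mul_smul, ← smul_neg, ← this, smul_smul, inv_mul_cancel₀ ht, one_smul]
    obtain ⟨s, hs⟩ := key p hp
    obtain ⟨t, ht⟩ := key q hq
    have h3 := hpq t (-s) (by rw [hs, ht, smul_smul, smul_smul, mul_comm t s, ← add_smul]; simp)
    apply hpq.ne_left
    rw [hs, neg_eq_zero.1 h3.2, zero_smul]
  by_cases hxy : Ind K x y
  · exact ⟨x, hx, y, hy, hxy, Submodule.subset_span (by simp), Submodule.subset_span (by simp)⟩
  simp only [Ind] at hxy
  push Not at hxy
  obtain ⟨s, t, hst, h⟩ := hxy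
  by_cases hx0 : x = 0
  · by_cases hy0 : y = 0
    · obtain ⟨p, hp, q, hq, hpq⟩ := h2
      exact ⟨p, hp, q, hq, hpq, by rw [hx0]; exact Submodule.zero_mem _, by rw [hy0]; exact Submodule.zero_mem _⟩
    · obtain ⟨f, hf, hyf⟩ := one y hy hy0
      exact ⟨y, hy, f, hf, hyf, by rw [hx0]; exact Submodule.zero_mem _, Submodule.subset_span (by simp)⟩
  · obtain ⟨f, hf, hxf⟩ := one x hx hx0
    refine ⟨x, hx, f, hf, hxf, Submodule.subset_span (by simp), ?_⟩
    have hx' : x ∈ Submodule.span K {x, f} := Submodule.subset_span (by simp)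
    by_cases ht : t = 0
    · subst ht
      rw [zero_smul, add_zero] at hst
      rcases smul_eq_zero.1 hst with h0 | h0
      · exact absurd rfl (h h0)
      · exact absurd h0 hx0
    · have h1 : t • y = -(s • x) := by rw [eq_neg_iff_add_eq_zero, add_comm]; exact hst
      have h2 : y = t⁻¹ • -(s • x) := by rw [← h1, smul_smul, inv_mul_cancel₀ ht, one_smul]
      rw [h2]
      exact Submodule.smul_mem _ _ (Submodule.neg_mem _ (Submodule.smul_mem _ _ hx'))

/-- three vectors are independent or in a plane -/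
theorem three_or_plane {U : Submodule K V} (h2 : ∃ x ∈ U, ∃ y ∈ U, Ind K x y) {β : Fin 3 → V} (hβ : ∀ j, β j ∈ U) :
    (∀ r s t : K, r • β 0 + s • β 1 + t • β 2 = 0 → r = 0 ∧ s = 0 ∧ t = 0) ∨
    ∃ e ∈ U, ∃ f ∈ U, Ind K e f ∧ ∀ j, β j ∈ Submodule.span K {e, f} := by
  by_cases h : ∀ r s t : K, r • β 0 + s • β 1 + t • β 2 = 0 → r = 0 ∧ s = 0 ∧ t = 0
  · exact Or.inl h
  right
  push Not at h
  obtain ⟨r, s, t, hrst, h⟩ := h
  by_cases hr : r = 0
  · by_cases hs : s = 0
    · have ht := h hr hs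
      obtain ⟨e, he, f, hf, hef, h1, h2⟩ := exists_plane h2 (hβ 0) (hβ 1)
      refine ⟨e, he, f, hf, hef, fun j => ?_⟩
      fin_cases j
      · exact h1
      · exact h2
      · subst hr hs
        rw [zero_smul, zero_smul, zero_add, zero_add] at hrst
        have : β 2 = 0 := (smul_eq_zero.1 hrst).resolve_left ht
        change β 2 ∈ _
        rw [this]
        exact Submodule.zero_mem _
    · obtain ⟨e, he, f, hf, hef, h1, h2⟩ := exists_plane h2 (hβ 0) (hβ 2)
      refine ⟨e, he, f, hf, hef, fun j => ?_⟩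
      fin_cases j
      · exact h1
      · have e1 : s • β 1 = -(r • β 0 + t • β 2) := by
          rw [eq_neg_iff_add_eq_zero, ← hrst]; abel
        have e2 : β 1 = s⁻¹ • -(r • β 0 + t • β 2) := by rw [← e1, smul_smul, inv_mul_cancel₀ hs, one_smul]
        change β 1 ∈ _
        rw [e2]
        exact Submodule.smul_mem _ _ (Submodule.neg_mem _ (Submodule.add_mem _ (Submodule.smul_mem _ _ h1)
          (Submodule.smul_mem _ _ h2)))
      · exact h2
  · obtain ⟨e, he, f, hf, hef, h1, h2⟩ := exists_plane h2 (hβ 1) (hβ 2)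
    refine ⟨e, he, f, hf, hef, fun j => ?_⟩
    fin_cases j
    · have e1 : r • β 0 = -(s • β 1 + t • β 2) := by
        rw [eq_neg_iff_add_eq_zero, ← hrst]; abel
      have e2 : β 0 = r⁻¹ • -(s • β 1 + t • β 2) := by rw [← e1, smul_smul, inv_mul_cancel₀ hr, one_smul]
      change β 0 ∈ _
      rw [e2]
      exact Submodule.smul_mem _ _ (Submodule.neg_mem _ (Submodule.add_mem _ (Submodule.smul_mem _ _ h1)
        (Submodule.smul_mem _ _ h2)))
    · exact h1
    · exact h2

/-- three pairwise independent vectors -/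
theorem exists_triple {U : Submodule K V} (h2 : ∃ x ∈ U, ∃ y ∈ U, Ind K x y) {β : Fin 3 → V} (hβ : ∀ j, β j ∈ U) :
    ∃ u : Fin 3 → V, (∀ j, u j ∈ U ∧ u j ≠ 0) ∧ (∀ i j, i ≠ j → ∀ s : K, u j ≠ s • u i) ∧
      ∀ j, β j ∈ Submodule.span K (Set.range u) := by
  rcases three_or_plane h2 hβ with h | ⟨e, he, f, hf, hef, h⟩
  · have h01 : Ind K (β 0) (β 1) := fun s t hst => by
      have := h s t 0 (by rw [hst, zero_smul, zero_add])
      exact ⟨this.1, this.2.1⟩
    have h02 : Ind K (β 0) (β 2) := fun s t hst => by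
      have := h s 0 t (by rw [zero_smul, add_zero, hst])
      exact ⟨this.1, this.2.2⟩
    have h12 : Ind K (β 1) (β 2) := fun s t hst => by
      have := h 0 s t (by rw [zero_smul, zero_add, hst])
      exact ⟨this.2.1, this.2.2⟩
    refine ⟨β, fun j => ⟨hβ j, ?_⟩, fun i j hij => ?_, fun j => Submodule.subset_span ⟨j, rfl⟩⟩
    · fin_cases j
      exacts [h01.ne_left, h01.ne_right, h02.ne_right]
    · fin_cases i <;> fin_cases j <;> first | exact absurd rfl hij | skip
      exacts [h01.not_smul, h02.not_smul, h01.not_smul', h12.not_smul, h02.not_smul', h12.not_smul']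
  · have h1 : Ind K e (e + f) := fun s t hst => by
      have := hef (s + t) t (by rw [add_smul, add_assoc, ← smul_add]; exact hst)
      refine ⟨?_, this.2⟩
      rw [this.2, add_zero] at this
      exact this.1
    have h3 : Ind K f (e + f) := fun s t hst => by
      have := hef t (s + t) (by rw [← hst, add_smul, smul_add]; abel)
      refine ⟨?_, this.1⟩
      rw [this.1, add_zero] at this
      exact this.2
    refine ⟨![e, f, e + f], fun j => ?_, fun i j hij => ?_, fun j => ?_⟩
    · fin_cases j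
      exacts [⟨he, hef.ne_left⟩, ⟨hf, hef.ne_right⟩, ⟨U.add_mem he hf, h1.ne_right⟩]
    · fin_cases i <;> fin_cases j <;> first | exact absurd rfl hij | skip
      exacts [hef.not_smul, h1.not_smul, hef.not_smul', h3.not_smul, h1.not_smul', h3.not_smul']
    · refine Submodule.span_mono ?_ (h j)
      rintro z (rfl | rfl)
      · exact ⟨0, rfl⟩
      · exact ⟨1, rfl⟩

/-- the distribution of three vectors on four places -/
def ft : Fin 6 → Fin 4 → Fin 3 :=
  ![![0, 0, 1, 2], ![0, 1, 0, 2], ![0, 1, 2, 0], ![1, 0, 0, 2], ![1, 0, 2, 0], ![1, 2, 0, 0]]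

theorem ft_pr : ∀ t s : Fin 6, ft t (pr s).1 = ft t (pr s).2 ↔ s = t := by decide

theorem ft_surj : ∀ (t : Fin 6) (j : Fin 3), ∃ l, ft t l = j := by decide

/-- **quadruples of a given type** -/
theorem quad_type {U : Submodule K V} (h2 : ∃ x ∈ U, ∃ y ∈ U, Ind K x y) {β : Fin 3 → V} (hβ : ∀ j, β j ∈ U)
    (t : Fin 6) : ∃ w : Fin 4 → V, (∀ l, w l ∈ U ∧ w l ≠ 0) ∧ (∀ s, typ K w s ↔ s = t) ∧
      ∀ j, β j ∈ Submodule.span K (Set.range w) := by
  obtain ⟨u, hu, hu2, hu3⟩ := exists_triple h2 hβ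
  refine ⟨fun l => u (ft t l), fun l => hu _, fun s => ?_, fun j => ?_⟩
  · rw [← ft_pr t s]
    constructor
    · rintro ⟨r, hr⟩
      by_contra hne
      exact hu2 _ _ hne r hr
    · intro he
      refine ⟨1, ?_⟩
      change u (ft t (pr s).2) = (1 : K) • u (ft t (pr s).1)
      rw [he, one_smul]
  · refine Submodule.span_mono ?_ (hu3 j)
    rintro _ ⟨i, rfl⟩
    obtain ⟨l, hl⟩ := ft_surj t i
    exact ⟨l, congrArg u hl⟩

/-- a generator of the multiplicative group of a finite field -/
theorem exists_gen [Finite K] : ∃ γ : K, γ ≠ 0 ∧ (∀ σ : K ≃+* K, σ γ = γ → σ = RingEquiv.refl K) ∧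
    (γ = 1 → ∀ a : K, a ≠ 0 → a = 1) := by
  obtain ⟨γ, hγ⟩ := IsCyclic.exists_generator (α := Kˣ)
  refine ⟨γ, γ.ne_zero, fun σ hσ => ?_, fun h a ha => ?_⟩
  · ext a
    by_cases ha : a = 0
    · rw [ha, map_zero, map_zero]
    · obtain ⟨n, hn⟩ := Subgroup.mem_zpowers_iff.1 (hγ (Units.mk0 a ha))
      have h1 : a = (γ : K) ^ n := by
        rw [← Units.val_zpow_eq_zpow_val, hn]; rfl
      rw [h1, map_zpow₀, hσ]
      rfl
  · obtain ⟨n, hn⟩ := Subgroup.mem_zpowers_iff.1 (hγ (Units.mk0 a ha))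
    have h1 : γ = 1 := Units.ext h
    rw [h1, one_zpow] at hn
    exact (congrArg Units.val hn).symm

/-- **a rigid quadruple** -/
theorem quad_special [Finite K] {U : Submodule K V} (h2 : ∃ x ∈ U, ∃ y ∈ U, Ind K x y) {β : Fin 3 → V}
    (hβ : ∀ j, β j ∈ U) : ∃ w : Fin 4 → V, (∀ l, w l ∈ U ∧ w l ≠ 0) ∧
      (∀ t : Fin 5, ¬ ∀ s, typ K w s ↔ s = t.castSucc) ∧
      ∀ (g : Equiv.Perm V) (σ : K ≃+* K), (∀ x y, g (x + y) = g x + g y) → (∀ (a : K) x, g (a • x) = σ a • g x) →
        ∀ c : Fin 4 → K, (∀ l, g (w l) = c l • w l) → ∃ c0 : K, c0 ≠ 0 ∧ ∀ j, g (β j) = c0 • β j := by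
  obtain ⟨γ, hγ0, hγ, hγ1⟩ := exists_gen (K := K)
  by_cases h1 : γ = 1
  · -- `|K| = 2`
    obtain ⟨w, hw, hw2, hw3⟩ := quad_type h2 hβ 5
    refine ⟨w, hw, fun t ht => ?_, fun g σ hg hs c hc => ⟨1, one_ne_zero, fun j => ?_⟩⟩
    · have h5 := (ht 5).1 ((hw2 5).2 rfl)
      have := congrArg Fin.val h5
      have h6 := t.2
      simp only [Fin.val_castSucc] at this
      have h7 : ((5 : Fin 6) : ℕ) = 5 := rfl
      omega
    · have hg0 : g 0 = 0 := by
        have h := hg 0 0
        rw [add_zero] at h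
        exact (left_eq_add.1 h)
      have hc1 : ∀ l, g (w l) = w l := by
        intro l
        have hcl : c l ≠ 0 := by
          intro h0
          apply (hw l).2
          apply g.injective
          rw [hc l, h0, zero_smul, hg0]
        rw [hc l, hγ1 h1 _ hcl, one_smul]
      have hσ : ∀ a : K, σ a = a := by
        intro a
        by_cases ha : a = 0
        · rw [ha, map_zero]
        · rw [hγ1 h1 a ha, map_one]
      rw [one_smul]
      have := hw3 j
      generalize β j = z at this ⊢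
      induction this using Submodule.span_induction with
      | mem x hx =>
        obtain ⟨l, rfl⟩ := hx
        exact hc1 l
      | zero => exact hg0
      | add x y _ _ hx hy => rw [hg, hx, hy]
      | smul a x _ hx => rw [hs, hx, hσ]
  · rcases three_or_plane h2 hβ with h | ⟨e, he, f, hf, hef, h⟩
    · -- independent
      have key : ∀ {r s t r' s' t' : K}, r • β 0 + s • β 1 + t • β 2 = r' • β 0 + s' • β 1 + t' • β 2 →
          r = r' ∧ s = s' ∧ t = t' := by
        intro r s t r' s' t' hh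
        have := h (r - r') (s - s') (t - t') (by
          rw [sub_smul, sub_smul, sub_smul]
          rw [← sub_eq_zero] at hh
          rw [← hh]
          abel)
        exact ⟨sub_eq_zero.1 this.1, sub_eq_zero.1 this.2.1, sub_eq_zero.1 this.2.2⟩
      have hz : ∀ {r s t : K}, r • β 0 + s • β 1 + t • β 2 = 0 → r = 0 ∧ s = 0 ∧ t = 0 := fun hh => h _ _ _ hh
      refine ⟨![β 0, β 1, β 2, β 0 + β 1 + β 2], fun l => ?_, fun t ht => ?_, fun g σ hg hs c hc => ?_⟩
      · fin_cases l
        · refine ⟨hβ 0, fun h0 => ?_⟩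
          have h0' : β 0 = 0 := h0
          exact one_ne_zero (h 1 0 0 (by rw [h0']; simp)).1
        · refine ⟨hβ 1, fun h0 => ?_⟩
          have h0' : β 1 = 0 := h0
          exact one_ne_zero (h 0 1 0 (by rw [h0']; simp)).2.1
        · refine ⟨hβ 2, fun h0 => ?_⟩
          have h0' : β 2 = 0 := h0
          exact one_ne_zero (h 0 0 1 (by rw [h0']; simp)).2.2
        · refine ⟨U.add_mem (U.add_mem (hβ 0) (hβ 1)) (hβ 2), fun h0 => ?_⟩
          have h0' : β 0 + β 1 + β 2 = 0 := h0
          exact one_ne_zero (h 1 1 1 (by rw [one_smul, one_smul, one_smul]; exact h0')).1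
      · obtain ⟨r, hr⟩ := (ht t.castSucc).2 rfl
        have hcase : ∀ s : Fin 6, ¬ ∃ r : K, (![β 0, β 1, β 2, β 0 + β 1 + β 2] : Fin 4 → V) (pr s).2 =
            r • (![β 0, β 1, β 2, β 0 + β 1 + β 2] : Fin 4 → V) (pr s).1 := by
          intro s ⟨r, hr⟩
          fin_cases s
          · have e : β 1 = r • β 0 := hr
            have := key (r := 0) (s := 1) (t := 0) (r' := r) (s' := 0) (t' := 0) (by simpa using e)
            exact one_ne_zero this.2.1
          · have e : β 2 = r • β 0 := hr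
            have := key (r := 0) (s := 0) (t := 1) (r' := r) (s' := 0) (t' := 0) (by simpa using e)
            exact one_ne_zero this.2.2
          · have e : β 0 + β 1 + β 2 = r • β 0 := hr
            have := key (r := 1) (s := 1) (t := 1) (r' := r) (s' := 0) (t' := 0) (by simpa using e)
            exact one_ne_zero this.2.2
          · have e : β 2 = r • β 1 := hr
            have := key (r := 0) (s := 0) (t := 1) (r' := 0) (s' := r) (t' := 0) (by simpa using e)
            exact one_ne_zero this.2.2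
          · have e : β 0 + β 1 + β 2 = r • β 1 := hr
            have := key (r := 1) (s := 1) (t := 1) (r' := 0) (s' := r) (t' := 0) (by simpa using e)
            exact one_ne_zero this.2.2
          · have e : β 0 + β 1 + β 2 = r • β 2 := hr
            have := key (r := 1) (s := 1) (t := 1) (r' := 0) (s' := 0) (t' := r) (by simpa using e)
            exact one_ne_zero this.1
        exact hcase _ ⟨r, hr⟩
      · have e0 : g (β 0) = c 0 • β 0 := hc 0
        have e1 : g (β 1) = c 1 • β 1 := hc 1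
        have e2 : g (β 2) = c 2 • β 2 := hc 2
        have e3 : g (β 0 + β 1 + β 2) = c 3 • (β 0 + β 1 + β 2) := hc 3
        rw [hg, hg, e0, e1, e2, smul_add, smul_add] at e3
        obtain ⟨k1, k2, k3⟩ := key e3
        have hg0 : g 0 = 0 := by
          have h := hg 0 0
          rw [add_zero] at h
          exact (left_eq_add.1 h)
        refine ⟨c 3, fun h0 => ?_, fun j => ?_⟩
        · have h00 : β 0 = 0 := by
            apply g.injective
            rw [e0, k1, h0, zero_smul, hg0]
          exact one_ne_zero (h 1 0 0 (by rw [h00]; simp)).1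
        · fin_cases j
          · change g (β 0) = c 3 • β 0
            rw [e0, k1]
          · change g (β 1) = c 3 • β 1
            rw [e1, k2]
          · change g (β 2) = c 3 • β 2
            rw [e2, k3]
    · -- in a plane
      have key : ∀ {r s r' s' : K}, r • e + s • f = r' • e + s' • f → r = r' ∧ s = s' := by
        intro r s r' s' hh
        have := hef (r - r') (s - s') (by
          rw [sub_smul, sub_smul]
          rw [← sub_eq_zero] at hh
          rw [← hh]
          abel)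
        exact ⟨sub_eq_zero.1 this.1, sub_eq_zero.1 this.2⟩
      refine ⟨![e, f, e + f, e + γ • f], fun l => ?_, fun t ht => ?_, fun g σ hg hs c hc => ?_⟩
      · fin_cases l
        · exact ⟨he, hef.ne_left⟩
        · exact ⟨hf, hef.ne_right⟩
        · refine ⟨U.add_mem he hf, fun h0 => ?_⟩
          have h0' : e + f = 0 := h0
          exact one_ne_zero (hef 1 1 (by rw [one_smul, one_smul]; exact h0')).1
        · refine ⟨U.add_mem he (U.smul_mem _ hf), fun h0 => ?_⟩
          have h0' : e + γ • f = 0 := h0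
          exact one_ne_zero (hef 1 γ (by rw [one_smul]; exact h0')).1
      · obtain ⟨r, hr⟩ := (ht t.castSucc).2 rfl
        have hcase : ∀ s : Fin 6, ¬ ∃ r : K, (![e, f, e + f, e + γ • f] : Fin 4 → V) (pr s).2 =
            r • (![e, f, e + f, e + γ • f] : Fin 4 → V) (pr s).1 := by
          intro s ⟨r, hr⟩
          fin_cases s
          · exact hef.not_smul r hr
          · have e1 : e + f = r • e := hr
            have := key (r := 1) (s := 1) (r' := r) (s' := 0) (by simpa using e1)
            exact one_ne_zero this.2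
          · have e1 : e + γ • f = r • e := hr
            have := key (r := 1) (s := γ) (r' := r) (s' := 0) (by simpa using e1)
            exact hγ0 this.2
          · have e1 : e + f = r • f := hr
            have := key (r := 1) (s := 1) (r' := 0) (s' := r) (by simpa using e1)
            exact one_ne_zero this.1
          · have e1 : e + γ • f = r • f := hr
            have := key (r := 1) (s := γ) (r' := 0) (s' := r) (by simpa using e1)
            exact one_ne_zero this.1
          · have e1 : e + γ • f = r • (e + f) := hr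
            have := key (r := 1) (s := γ) (r' := r) (s' := r) (by rw [one_smul, ← smul_add]; exact e1)
            exact h1 (this.2.trans this.1.symm)
        exact hcase _ ⟨r, hr⟩
      · have e0 : g e = c 0 • e := hc 0
        have e1 : g f = c 1 • f := hc 1
        have e2 : g (e + f) = c 2 • (e + f) := hc 2
        have e3 : g (e + γ • f) = c 3 • (e + γ • f) := hc 3
        rw [hg, e0, e1, smul_add] at e2
        rw [hg, hs, e0, e1, smul_add, smul_smul, smul_smul] at e3
        obtain ⟨k1, k2⟩ := key e2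
        obtain ⟨k3, k4⟩ := key e3
        have hg0 : g 0 = 0 := by
          have h := hg 0 0
          rw [add_zero] at h
          exact (left_eq_add.1 h)
        have hc0 : c 0 ≠ 0 := by
          intro h0
          apply hef.ne_left
          apply g.injective
          rw [e0, h0, zero_smul, hg0]
        have hσ : σ = RingEquiv.refl K := by
          apply hγ
          have : σ γ * c 0 = γ * c 0 := by
            rw [k2.trans k1.symm] at k4
            rw [k4, ← k3, mul_comm]
          exact mul_right_cancel₀ hc0 this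
        refine ⟨c 0, hc0, fun j => ?_⟩
        obtain ⟨r, s, hrs⟩ := Submodule.mem_span_pair.1 (h j)
        rw [← hrs, hg, hs, hs, e0, e1, hσ, smul_add, smul_smul, smul_smul, smul_smul, smul_smul, k2.trans k1.symm]
        congr 1
        · rw [mul_comm]; rfl
        · rw [mul_comm]; rfl

/-- the type is invariant -/
theorem typ_congr {w w' : Fin 4 → V} {g : Equiv.Perm V} {σ : K ≃+* K} (hs : ∀ (a : K) x, g (a • x) = σ a • g x)
    {c : Fin 4 → K} (hc0 : ∀ l, c l ≠ 0) (hc : ∀ l, g (w l) = c l • w' l) (t : Fin 6) : typ K w t ↔ typ K w' t := by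
  constructor
  · rintro ⟨s, h⟩
    have e := congrArg g h
    rw [hs, hc, hc, smul_smul] at e
    refine ⟨(c (pr t).2)⁻¹ * (σ s * c (pr t).1), ?_⟩
    rw [mul_smul, ← e, smul_smul, inv_mul_cancel₀ (hc0 _), one_smul]
  · rintro ⟨s, h⟩
    have e1 : w' (pr t).1 = (c (pr t).1)⁻¹ • g (w (pr t).1) := by
      rw [hc, smul_smul, inv_mul_cancel₀ (hc0 _), one_smul]
    refine ⟨σ.symm (c (pr t).2 * (s * (c (pr t).1)⁻¹)), ?_⟩
    apply g.injective
    rw [hs, RingEquiv.apply_symm_apply, hc (pr t).2, h, e1, smul_smul, smul_smul]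
    congr 1
    ring

end Cfsg.Agent.H57.FC
end

-- part: H57/FC/Base
section
/-!
# S5764: three vectors (helper57)

`exists_base3`: a solvable group `G` of semilinear similitudes stabilizing the non-degenerate subspace `U` but no non-zero
totally isotropic subspace of `U` has a base of size 3 on `U` (S4374).
-/

set_option autoImplicit false

namespace Cfsg.Agent.H57.FC

open Subgroup Cfsg.Agent.H198.FC Cfsg.Agent.H412.FC

universe u v

variable {K : Type u} [Field K] {V : Type v} [AddCommGroup V] [Module K V]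

theorem cl_symm (b : Cl K V) {v w : V} (h : b.B v w = 0) : b.B w v = 0 := by
  rcases b.typ with ⟨_, h1⟩ | ⟨h0, h1⟩
  · rw [h1, h, map_zero]
  · have h2 := h1 (v + w)
    rw [b.add_left, b.add_right, b.add_right, h1, h1, zero_add, add_zero, h, zero_add] at h2
    exact h2

theorem cl_zero_right (b : Cl K V) (w : V) : b.B w 0 = 0 := by
  have h := b.smul_right 0 w (0 : V)
  rwa [zero_smul, map_zero, zero_mul] at h

theorem cl_zero_left (b : Cl K V) (w : V) : b.B 0 w = 0 := by
  have h := b.smul_left 0 (0 : V) w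
  rwa [zero_smul, zero_mul] at h

theorem cl_neg_right (b : Cl K V) (v w : V) : b.B v (-w) = -b.B v w := by
  have h := b.smul_right (-1) v w
  rwa [neg_one_smul, map_neg, map_one, neg_one_mul] at h

theorem cl_sub_right (b : Cl K V) (v w w' : V) : b.B v (w - w') = b.B v w - b.B v w' := by
  rw [sub_eq_add_neg, b.add_right, cl_neg_right, ← sub_eq_add_neg]

/-- the orthogonal complement -/
def perp (b : Cl K V) (Z : Submodule K V) : Submodule K V where
  carrier := {v | ∀ z ∈ Z, b.B z v = 0}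
  zero_mem' z _ := cl_zero_right b z
  add_mem' {v w} hv hw z hz := by rw [b.add_right, hv z hz, hw z hz, add_zero]
  smul_mem' a v hv z hz := by rw [b.smul_right, hv z hz, mul_zero]

theorem mem_perp {b : Cl K V} {Z : Submodule K V} {v : V} : v ∈ perp b Z ↔ ∀ z ∈ Z, b.B z v = 0 := Iff.rfl

/-- the orthogonal projection on a non-degenerate subspace -/
theorem exists_proj [Finite K] [Module.Finite K V] (b : Cl K V) {Z : Submodule K V}
    (hZ : ∀ z ∈ Z, z ∈ perp b Z → z = 0) (v : V) : ∃ z ∈ Z, v - z ∈ perp b Z := by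
  classical
  have hfin : Finite V := Module.finite_of_finite K
  let Φ : V → Module.Dual K Z := fun w =>
    { toFun := fun t => b.B t w
      map_add' := fun s t => b.add_left _ _ _
      map_smul' := fun a t => b.smul_left _ _ _ }
  have hinj : Function.Injective (fun z : Z => Φ z) := by
    intro x y hxy
    have h1 : (x : V) - y = 0 := by
      refine hZ _ (Z.sub_mem x.2 y.2) fun t ht => ?_
      have := LinearMap.congr_fun hxy ⟨t, ht⟩
      have h2 : b.B t x = b.B t y := this
      rw [cl_sub_right, h2, sub_self]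
    exact Subtype.ext (sub_eq_zero.1 h1)
  have e : Z ≃ Module.Dual K Z := (Module.finBasis K Z).toDualEquiv.toEquiv
  have hfin2 : Finite Z := inferInstance
  have hsurj := (Function.Injective.surjective_of_finite (α := Z) (β := Module.Dual K Z) e hinj)
  obtain ⟨z, hz⟩ := hsurj (Φ v)
  refine ⟨z, z.2, fun t ht => ?_⟩
  have h3 : b.B t z = b.B t v := LinearMap.congr_fun hz ⟨t, ht⟩
  rw [cl_sub_right, h3, sub_self]

/-- the action on a subspace -/
def actU (G : Subgroup (Equiv.Perm V)) (U : Submodule K V) (hst : ∀ g ∈ G, ∀ v ∈ U, g v ∈ U) :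
    G →* Equiv.Perm U where
  toFun g :=
    { toFun := fun v => ⟨(g : Equiv.Perm V) v, hst g g.2 v v.2⟩
      invFun := fun v => ⟨(g⁻¹ : G).1 v, hst _ (g⁻¹ : G).2 v v.2⟩
      left_inv := fun v => Subtype.ext (by simp)
      right_inv := fun v => Subtype.ext (by simp) }
  map_one' := by
    ext v
    rfl
  map_mul' g h := by
    ext v
    rfl

/-- **Three vectors.** -/
theorem exists_base3 [Finite K] [Module.Finite K V] {b : Cl K V} {G : Subgroup (Equiv.Perm V)} (hG : G ≤ Sim b)
    (hhm : ∀ a, hm K V a ∈ G) (hsol : Group.IsSolvable G) {U : Submodule K V}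
    (hst : ∀ g ∈ G, ∀ v ∈ U, g v ∈ U)
    (hTI : ∀ W ≤ U, b.TI W → (∀ g ∈ G, ∀ w ∈ W, g w ∈ W) → W = ⊥) :
    ∃ β : Fin 3 → V, (∀ j, β j ∈ U) ∧ ∀ g ∈ G, (∀ j, g (β j) = β j) → ∀ v ∈ U, g v = v := by
  classical
  have hfin : Finite V := Module.finite_of_finite K
  have hfinU : Finite U := inferInstance
  let φ := actU G U hst
  have hφ : ∀ (x : φ.range) (v w : U), x.1 (v + w) = x.1 v + x.1 w := by
    rintro ⟨_, ⟨⟨g, hg⟩, rfl⟩⟩ v w
    obtain ⟨σ, μ, h⟩ := hG hg
    exact Subtype.ext (h.add _ _)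
  let _ : DistribMulAction φ.range U :=
    { smul := fun x v => x.1 v
      one_smul := fun v => rfl
      mul_smul := fun x y v => rfl
      smul_zero := fun x => by
        have h := hφ x 0 0
        rw [add_zero] at h
        exact left_eq_add.1 h
      smul_add := hφ }
  have hsolA : Group.IsSolvable φ.range :=
    Group.isSolvable_of_surjective (f := φ.rangeRestrict) φ.rangeRestrict_surjective
  have hfaith : FaithfulSMul φ.range U := by
    refine ⟨fun {x y} h => ?_⟩
    apply Subtype.ext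
    ext v
    exact congrArg Subtype.val (h v)
  obtain ⟨v₁, v₂, v₃, h⟩ := Cfsg.Agent.S4374.result (A := φ.range) (V := U) hsolA (by
    intro Z hZ
    have hZg : ∀ g ∈ G, ∀ v : U, v ∈ Z → ∀ h : g v ∈ U, (⟨g v, h⟩ : U) ∈ Z := by
      intro g hg v hv h
      exact hZ ⟨φ ⟨g, hg⟩, ⟨⟨g, hg⟩, rfl⟩⟩ v hv
    -- the corresponding subspace
    let Z' : Submodule K V :=
      { carrier := {v | ∃ h : v ∈ U, (⟨v, h⟩ : U) ∈ Z}
        zero_mem' := ⟨U.zero_mem, Z.zero_mem⟩
        add_mem' := by
          rintro v w ⟨h1, h2⟩ ⟨h3, h4⟩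
          exact ⟨U.add_mem h1 h3, Z.add_mem h2 h4⟩
        smul_mem' := by
          rintro a v ⟨h1, h2⟩
          by_cases ha : a = 0
          · subst ha
            rw [zero_smul]
            exact ⟨U.zero_mem, Z.zero_mem⟩
          · refine ⟨U.smul_mem _ h1, ?_⟩
            exact hZg (hm K V (Units.mk0 a ha)) (hhm _) ⟨v, h1⟩ h2 (U.smul_mem _ h1) }
    have hZ'U : Z' ≤ U := fun v hv => hv.1
    have hZ'g : ∀ g ∈ G, ∀ v ∈ Z', g v ∈ Z' := by
      rintro g hg v ⟨h1, h2⟩
      exact ⟨hst g hg v h1, hZg g hg ⟨v, h1⟩ h2 _⟩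
    have hperp : ∀ g ∈ G, ∀ v ∈ perp b Z', g v ∈ perp b Z' := by
      intro g hg v hv z hz
      obtain ⟨σ, μ, hs⟩ := hG hg
      have h1 := hs.form (g⁻¹ z) v
      have h2 : g (g⁻¹ z) = z := by simp
      rw [h2, hv _ (hZ'g _ (inv_mem hg) _ hz), map_zero, mul_zero] at h1
      exact h1
    have hT : Z' ⊓ perp b Z' = ⊥ := by
      refine hTI _ (inf_le_left.trans hZ'U) (fun v hv w hw => hw.2 v hv.1) fun g hg w hw => ?_
      exact ⟨hZ'g g hg w hw.1, hperp g hg w hw.2⟩
    refine ⟨((perp b Z').toAddSubgroup).comap U.subtype.toAddMonoidHom, ?_, ?_, ?_⟩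
    · rintro ⟨_, ⟨⟨g, hg⟩, rfl⟩⟩ w hw
      exact hperp g hg w.1 hw
    · rw [eq_bot_iff]
      rintro ⟨v, hv⟩ ⟨h1, h2⟩
      have h3 : v ∈ Z' ⊓ perp b Z' := ⟨⟨hv, h1⟩, h2⟩
      rw [hT] at h3
      exact Subtype.ext ((Submodule.mem_bot K).1 h3)
    · rw [eq_top_iff]
      rintro ⟨v, hv⟩ _
      obtain ⟨z, hz, hvz⟩ := exists_proj b (Z := Z') (fun z h1 h2 => by
        have h3 : z ∈ Z' ⊓ perp b Z' := ⟨h1, h2⟩
        rw [hT] at h3
        exact (Submodule.mem_bot K).1 h3) v
      obtain ⟨h1, h2⟩ := hz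
      have h3 : (⟨v, hv⟩ : U) = ⟨z, h1⟩ + ⟨v - z, U.sub_mem hv h1⟩ := Subtype.ext (by simp)
      rw [h3]
      exact AddSubgroup.add_mem_sup h2 hvz)
  refine ⟨fun j => ((![v₁, v₂, v₃] : Fin 3 → U) j : V), fun j => Subtype.prop _, fun g hg hj v hv => ?_⟩
  have h1 := h ⟨φ ⟨g, hg⟩, ⟨⟨g, hg⟩, rfl⟩⟩ (Subtype.ext (hj 0)) (Subtype.ext (hj 1)) (Subtype.ext (hj 2))
  have h2 := congrArg Subtype.val h1
  have h3 := DFunLike.congr_fun h2 (⟨v, hv⟩ : U)
  exact congrArg Subtype.val h3

end Cfsg.Agent.H57.FC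
end

-- part: H57/FC/Core
section
/-!
# S5764, symplectic C1 / C2: the main argument (helper57)

`core`: `G` solvable group of semilinear similitudes of a symplectic space containing the homotheties, without invariant
totally isotropic subspaces, permuting the members of an orthogonal decomposition, with a rigid colouring of the members
by 5 colours: four transvections show `FiveBV b G`.
-/

set_option autoImplicit false

namespace Cfsg.Agent.H57.FC

open Subgroup Cfsg.Agent.H198.FC Cfsg.Agent.H412.FC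

universe u v w

variable {K : Type u} [Field K] {V : Type v} [AddCommGroup V] [Module K V] {ι : Type w}

/-- the functional `B(·, w)` -/
def fnl (b : Cl K V) (w : V) : Module.Dual K V where
  toFun v := b.B v w
  map_add' _ _ := b.add_left _ _ _
  map_smul' _ _ := b.smul_left _ _ _

/-- the transvection with centre `w` -/
def tv {b : Cl K V} (hb : b.IsSp) (w : V) : V ≃ₗ[K] V :=
  LinearEquiv.transvection (f := fnl b w) (v := w) (hb.2 w)

theorem tv_apply {b : Cl K V} (hb : b.IsSp) (w v : V) : tv hb w v = v + b.B v w • w := rfl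

theorem det_tv {b : Cl K V} (hb : b.IsSp) (w : V) : LinearMap.det ((tv hb w : V ≃ₗ[K] V) : V →ₗ[K] V) = 1 := by
  have h := congrArg Units.val (LinearEquiv.transvection.det_eq_one (f := fnl b w) (v := w) (hb.2 w))
  rw [LinearEquiv.coe_det] at h
  exact h

theorem tv_isom {b : Cl K V} (hb : b.IsSp) (w v u : V) : b.B (tv hb w v) (tv hb w u) = b.B v u := by
  rw [tv_apply, tv_apply, b.add_left, b.add_right, b.add_right, b.smul_left, b.smul_left, B_smul_right hb,
    B_smul_right hb, hb.2, B_anti hb u w]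
  ring

/-- a totally isotropic subspace of a block, invariant under the stabilizer of the block, is zero -/
theorem ti_block {b : Cl K V} {G : Subgroup (Equiv.Perm V)} (hG : G ≤ Sim b)
    (hTI : ∀ W : Submodule K V, b.TI W → (∀ g ∈ G, ∀ w ∈ W, g w ∈ W) → W = ⊥)
    {U : ι → Submodule K V} (h : Blk b U) (hp : ∀ g ∈ G, ∃ π, Pm U g π) (i : ι) (W : Submodule K V) (hWU : W ≤ U i)
    (hW : b.TI W) (hst : ∀ g ∈ G ⊓ StabS (U i), ∀ w ∈ W, g w ∈ W) : W = ⊥ := by
  classical
  let N : Submodule K V := Submodule.span K {x | ∃ g ∈ G, ∃ w ∈ W, x = g w}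
  have hN : N = ⊥ := by
    apply hTI
    · have hgen : ∀ x ∈ {x | ∃ g ∈ G, ∃ w ∈ W, x = g w}, ∀ y ∈ {x | ∃ g ∈ G, ∃ w ∈ W, x = g w}, b.B x y = 0 := by
        rintro _ ⟨g, hg, w, hw, rfl⟩ _ ⟨k, hk, w', hw', rfl⟩
        obtain ⟨π, hπ⟩ := hp g hg
        obtain ⟨ρ, hρ⟩ := hp k hk
        by_cases hne : π i = ρ i
        · have hm : k⁻¹ * g ∈ G ⊓ StabS (U i) := by
            refine Subgroup.mem_inf.2 ⟨G.mul_mem (G.inv_mem hk) hg, fun v => ?_⟩
            rw [← hπ i v, hne, ← hρ i ((k⁻¹ * g) v)]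
            have : k ((k⁻¹ * g) v) = g v := by simp
            rw [this]
          obtain ⟨σ, μ, hs⟩ := hG hk
          have h1 := hs.form ((k⁻¹ * g) w) w'
          have h2 : k ((k⁻¹ * g) w) = g w := by simp
          rw [h2, hW _ (hst _ hm w hw) _ hw', map_zero, mul_zero] at h1
          exact h1
        · exact h.ort _ _ hne _ ((hπ i w).2 (hWU hw)) _ ((hρ i w').2 (hWU hw'))
      intro v hv w hw
      induction hv using Submodule.span_induction with
      | mem x hx =>
        induction hw using Submodule.span_induction with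
        | mem y hy => exact hgen x hx y hy
        | zero => exact B_zero_right b x
        | add y z _ _ hy hz => rw [b.add_right, hy, hz, add_zero]
        | smul a y _ hy => rw [b.smul_right, hy, mul_zero]
      | zero => exact B_zero_left b w
      | add x y _ _ hx hy => rw [b.add_left, hx, hy, add_zero]
      | smul a x _ hx => rw [b.smul_left, hx, mul_zero]
    · intro k hk x hx
      obtain ⟨σ, μ, hs⟩ := hG hk
      induction hx using Submodule.span_induction with
      | mem x hx =>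
        obtain ⟨g, hg, w, hw, rfl⟩ := hx
        exact Submodule.subset_span ⟨k * g, mul_mem hk hg, w, hw, rfl⟩
      | zero => rw [hs.map_zero]; exact N.zero_mem
      | add x y _ _ hx hy => rw [hs.add]; exact N.add_mem hx hy
      | smul a x _ hx => rw [hs.smul]; exact N.smul_mem _ hx
  rw [eq_bot_iff]
  intro w hw
  have : w ∈ N := Submodule.subset_span ⟨1, one_mem _, w, hw, rfl⟩
  rwa [hN] at this

theorem Blk.exists_ind {b : Cl K V} (hb : b.IsSp) {U : ι → Submodule K V} (h : Blk b U) {i : ι} (hU : U i ≠ ⊥) :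
    ∃ x ∈ U i, ∃ y ∈ U i, Ind K x y := by
  obtain ⟨v, hv, hv0⟩ := Submodule.exists_mem_ne_zero_of_ne_bot hU
  obtain ⟨u, hu, hu1⟩ := h.exists_one hb hv hv0
  refine ⟨u, hu, v, hv, fun s t hst => ?_⟩
  have e := congrArg (fun z => b.B z v) hst
  change b.B (s • u + t • v) v = b.B 0 v at e
  rw [b.add_left, b.smul_left, b.smul_left, hu1, hb.2, mul_one, mul_zero, add_zero, B_zero_left] at e
  subst e
  rw [zero_smul, zero_add] at hst
  exact ⟨rfl, (smul_eq_zero.1 hst).resolve_right hv0⟩

/-- from the base to the whole block -/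
theorem smul_of_base {G : Subgroup (Equiv.Perm V)} (hhm : ∀ a, hm K V a ∈ G) {U : Submodule K V}
    {β : Fin 3 → V} (hβ : ∀ g ∈ G ⊓ StabS U, (∀ j, g (β j) = β j) → ∀ v ∈ U, g v = v)
    {g : Equiv.Perm V} (hg : g ∈ G ⊓ StabS U) {c : K} (hc : c ≠ 0) (hgβ : ∀ j, g (β j) = c • β j) :
    ∀ v ∈ U, g v = c • v := by
  intro v hv
  have h1 : (hm K V (Units.mk0 c hc))⁻¹ * g ∈ G ⊓ StabS U :=
    mul_mem (inv_mem ⟨hhm _, hm_mem_StabS U _⟩) hg
  have h2 := hβ _ h1 (fun j => by
    rw [Equiv.Perm.mul_apply, hgβ j, Equiv.Perm.inv_eq_iff_eq]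
    rfl) v hv
  rw [Equiv.Perm.mul_apply, Equiv.Perm.inv_eq_iff_eq] at h2
  exact h2

/-- **The main argument.** -/
theorem core [Finite K] [Module.Finite K V] [Fintype ι] [Nontrivial ι] {b : Cl K V} (hb : b.IsSp)
    {G : Subgroup (Equiv.Perm V)} (hG : G ≤ Sim b) (hhm : ∀ a, hm K V a ∈ G) (hsol : Group.IsSolvable G)
    (hTI : ∀ W : Submodule K V, b.TI W → (∀ g ∈ G, ∀ w ∈ W, g w ∈ W) → W = ⊥)
    {U : ι → Submodule K V} (h : Blk b U) (hU : ∀ i, U i ≠ ⊥) (hp : ∀ g ∈ G, ∃ π, Pm U g π)
    (κ : ι → Fin 5) (hκ : ∀ g ∈ G, ∀ π, Pm U g π → (∀ i, κ (π i) = κ i) → π = 1) : FiveBV b G := by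
  classical
  obtain ⟨i0⟩ : Nonempty ι := inferInstance
  -- the bases
  have hbase : ∀ i, ∃ β : Fin 3 → V, (∀ j, β j ∈ U i) ∧
      ∀ g ∈ G ⊓ StabS (U i), (∀ j, g (β j) = β j) → ∀ v ∈ U i, g v = v := by
    intro i
    refine exists_base3 (inf_le_left.trans hG) (fun a => ⟨hhm a, hm_mem_StabS _ a⟩) ?_ ?_ ?_
    · exact Group.isSolvable_of_isSolvable_injective (f := inclusion (inf_le_left : G ⊓ StabS (U i) ≤ G))
        (inclusion_injective _)
    · intro g hg v hv
      exact (hg.2 v).2 hv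
    · intro W hWU hW hst
      exact ti_block hG hTI h hp i W hWU hW hst
  choose β hβU hβ using hbase
  -- the quadruples
  obtain ⟨w0, hw0, hw0t, hw0r⟩ := quad_special (h.exists_ind hb (hU i0)) (hβU i0)
  choose w1 hw1 hw1t hw1s using fun i => quad_type (h.exists_ind hb (hU i)) (hβU i) (κ i).castSucc
  let w : ι → Fin 4 → V := fun i => if i = i0 then w0 else w1 i
  have hwi0 : w i0 = w0 := if_pos rfl
  have hwi : ∀ i, i ≠ i0 → w i = w1 i := fun i hi => if_neg hi
  have hwU : ∀ i l, w i l ∈ U i ∧ w i l ≠ 0 := by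
    intro i l
    by_cases hi : i = i0
    · subst hi
      rw [hwi0]
      exact hw0 l
    · rw [hwi i hi]
      exact hw1 i l
  refine ⟨fun l => tv hb (∑ i, w i l), fun l => det_tv hb _, fun l v u => tv_isom hb _ v u, fun g hg hgi => ?_⟩
  obtain ⟨σ, μ, hs⟩ := hG hg
  obtain ⟨π, hπ⟩ := hp g hg
  have hc : ∀ l, ∃ c : ι → K, (∀ i, g (w i l) = c i • w (π i) l) ∧ ∀ i j, i ≠ j → c i * c j = μ := by
    intro l
    obtain ⟨σ', μ', hs'⟩ := hG (hgi l)
    obtain ⟨π', hπ'⟩ := hp _ (hgi l)
    refine trv_lemma hb h hs hs' hπ hπ' (w := fun i => w i l) (fun i => (hwU i l).1) (fun i => (hwU i l).2) ?_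
    intro v
    have h1 : ((tv hb (∑ i, w i l)).toEquiv : Equiv.Perm V)⁻¹ (v + b.B v (∑ i, w i l) • ∑ i, w i l) = v := by
      rw [Equiv.Perm.inv_eq_iff_eq]
      rfl
    rw [Equiv.Perm.mul_apply, Equiv.Perm.mul_apply, h1]
    rfl
  choose c hc1 hc2 using hc
  have hc0 : ∀ l i, c l i ≠ 0 := by
    intro l i h0
    apply (hwU i l).2
    apply g.injective
    rw [hc1, h0, zero_smul, hs.map_zero]
  -- the types
  have htyp : ∀ i s, typ K (w i) s ↔ typ K (w (π i)) s := fun i s =>
    typ_congr hs.smul (c := fun l => c l i) (fun l => hc0 l i) (fun l => hc1 l i) s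
  have hπi0 : π i0 = i0 := by
    obtain ⟨i, hi⟩ := π.surjective i0
    by_cases hii : i = i0
    · rwa [hii] at hi
    · exfalso
      apply hw0t (κ i)
      intro s
      rw [← hwi0, ← hi, ← htyp i s, hwi i hii]
      exact hw1t i s
  have hπ1 : π = 1 := by
    refine hκ g hg π hπ fun i => ?_
    by_cases hii : i = i0
    · rw [hii, hπi0]
    · have hii' : π i ≠ i0 := fun hh => hii (π.injective (hh.trans hπi0.symm))
      have e1 := (htyp i (κ i).castSucc).1 (by rw [hwi i hii]; exact (hw1t i _).2 rfl)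
      rw [hwi _ hii', hw1t] at e1
      exact (Fin.castSucc_injective _ e1).symm
  subst hπ1
  -- on the block `i0`
  have hgst : ∀ i, g ∈ G ⊓ StabS (U i) := fun i => ⟨hg, fun v => hπ i v⟩
  obtain ⟨c0, hc00, hc0β⟩ := hw0r g σ hs.add hs.smul (fun l => c l i0) (fun l => by
    have := hc1 l i0
    rwa [Equiv.Perm.one_apply, hwi0] at this)
  have hgi0 : ∀ v ∈ U i0, g v = c0 • v := smul_of_base hhm (hβ i0) (hgst i0) hc00 hc0β
  obtain ⟨v, hv, hv0⟩ := Submodule.exists_mem_ne_zero_of_ne_bot (hU i0)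
  obtain ⟨u, hu, hu1⟩ := h.exists_one hb hv hv0
  have hσ : ∀ a, σ a = a := by
    intro a
    have e1 := hs.smul a v
    rw [hgi0 _ ((U i0).smul_mem a hv), hgi0 _ hv, smul_smul, smul_smul] at e1
    have e2 := smul_left_injective K hv0 e1
    rw [mul_comm] at e2
    exact (mul_right_cancel₀ hc00 e2).symm
  have hμ : μ = c0 * c0 := by
    have e1 := hs.form u v
    rw [hgi0 _ hu, hgi0 _ hv, b.smul_left, B_smul_right hb, hu1, map_one, mul_one, mul_one] at e1
    exact e1.symm
  have hci0 : ∀ l, c l i0 = c0 := by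
    intro l
    have e1 := hc1 l i0
    rw [hgi0 _ (hwU i0 l).1, Equiv.Perm.one_apply] at e1
    exact (smul_left_injective K (hwU i0 l).2 e1).symm
  have hgU : ∀ i, ∀ v ∈ U i, g v = c0 • v := by
    intro i
    by_cases hii : i = i0
    · rw [hii]
      exact hgi0
    · have hci : ∀ l, c l i = c0 := by
        intro l
        have e1 := hc2 l i i0 hii
        rw [hci0, hμ] at e1
        exact mul_right_cancel₀ hc00 e1
      refine smul_of_base hhm (hβ i) (hgst i) hc00 fun j => ?_
      have hj := hw1s i j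
      generalize β i j = z at hj ⊢
      induction hj using Submodule.span_induction with
      | mem x hx =>
        obtain ⟨l, rfl⟩ := hx
        have e1 := hc1 l i
        rw [Equiv.Perm.one_apply, hci, hwi i hii] at e1
        exact e1
      | zero => rw [hs.map_zero, smul_zero]
      | add x y _ _ hx hy => rw [hs.add, hx, hy, smul_add]
      | smul a x _ hx => rw [hs.smul, hx, hσ, smul_comm]
  refine ⟨Units.mk0 c0 hc00, ?_⟩
  ext z
  rw [hm_apply, Units.val_mk0]
  have hz : z ∈ ⨆ i, U i := by rw [h.top]; trivial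
  induction hz using Submodule.iSup_induction' with
  | mem i x hx => exact hgU i x hx
  | zero => rw [hs.map_zero, smul_zero]
  | add x y _ _ hx hy => rw [hs.add, hx, hy, smul_add]

end Cfsg.Agent.H57.FC
end

-- part: H57/FC/Red
section
/-!
# S5764, symplectic C1 / C2 (helper57)

`stmtBC1S : StmtBC1K false`, `stmtBC2S : StmtBPar → StmtBC2On false (fun _ => True)`.
-/

set_option autoImplicit false

namespace Cfsg.Agent.H57.FC

open Subgroup Cfsg.Agent.H198.FC Cfsg.Agent.H412.FC
open scoped Pointwise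

universe u v w

section

variable {K : Type u} [Field K] {V : Type v} [AddCommGroup V] [Module K V] {ι : Type w}

theorem perm_inv_self (π : Equiv.Perm ι) (i : ι) : π⁻¹ (π i) = i := by simp

theorem perm_self_inv (π : Equiv.Perm ι) (i : ι) : π (π⁻¹ i) = i := by simp

theorem Pm.unique {b : Cl K V} {G : Subgroup (Equiv.Perm V)} (hG : G ≤ Sim b) {U : ι → Submodule K V} (h : Blk b U)
    (hU : ∀ i, U i ≠ ⊥) {g : Equiv.Perm V} (hg : g ∈ G) {π ρ : Equiv.Perm ι} (hπ : Pm U g π) (hρ : Pm U g ρ) :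
    π = ρ := by
  ext i
  by_contra hne
  obtain ⟨v, hv, hv0⟩ := Submodule.exists_mem_ne_zero_of_ne_bot (hU i)
  obtain ⟨σ, μ, hs⟩ := hG hg
  apply hv0
  apply g.injective
  rw [hs.map_zero]
  exact h.nondeg ((hπ i v).2 hv) fun u hu => h.ort _ _ (Ne.symm hne) _ ((hρ i v).2 hv) u hu

theorem Pm.mul {U : ι → Submodule K V} {g k : Equiv.Perm V} {π ρ : Equiv.Perm ι} (hπ : Pm U g π) (hρ : Pm U k ρ) :
    Pm U (g * k) (π * ρ) := by
  intro i v
  rw [Equiv.Perm.mul_apply, Equiv.Perm.mul_apply, hπ, hρ]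

theorem Pm.one (U : ι → Submodule K V) : Pm U 1 1 := fun _ _ => Iff.rfl

theorem Pm.inv {U : ι → Submodule K V} {g : Equiv.Perm V} {π : Equiv.Perm ι} (hπ : Pm U g π) : Pm U g⁻¹ π⁻¹ := by
  intro i v
  have h := hπ (π⁻¹ i) (g⁻¹ v)
  have e1 : g (g⁻¹ v) = v := by simp
  have e2 : π (π⁻¹ i) = i := by simp
  rw [e1, e2] at h
  exact h.symm

/-- **C1 in the semilinear language** -/
theorem c1V [Finite K] [Module.Finite K V] {b : Cl K V} (hb : b.IsSp)
    {G : Subgroup (Equiv.Perm V)} (hG : G ≤ Sim b) (hhm : ∀ a, hm K V a ∈ G) (hsol : Group.IsSolvable G)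
    (hTI : ∀ W : Submodule K V, b.TI W → (∀ g ∈ G, ∀ w ∈ W, g w ∈ W) → W = ⊥)
    {W : Submodule K V} (hW0 : W ≠ ⊥) (hW1 : W ≠ ⊤) (hND : b.ND W) (hst : ∀ g ∈ G, ∀ w ∈ W, g w ∈ W) :
    FiveBV b G := by
  classical
  have hfin : Finite V := Module.finite_of_finite K
  have hND' : ∀ z ∈ W, z ∈ perp b W → z = 0 := fun z hz hz' => hND z hz fun w hw => cl_symm b (hz' w hw)
  have hst' : ∀ g ∈ G, ∀ w ∈ perp b W, g w ∈ perp b W := by
    intro g hg v hv z hz
    obtain ⟨σ, μ, hs⟩ := hG hg
    have h1 := hs.form (g⁻¹ z) v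
    have h2 : g (g⁻¹ z) = z := by simp
    rw [h2, hv _ (hst _ (G.inv_mem hg) _ hz), map_zero, mul_zero] at h1
    exact h1
  let U : Bool → Submodule K V := fun i => cond i W (perp b W)
  have hblk : Blk b U := by
    constructor
    · intro i j hij v hv w hw
      cases i <;> cases j
      · exact absurd rfl hij
      · exact cl_symm b (hv w hw)
      · exact hw v hv
      · exact absurd rfl hij
    · rw [eq_top_iff]
      intro v _
      obtain ⟨z, hz, hvz⟩ := exists_proj b hND' v
      have e : v = z + (v - z) := by simp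
      rw [e]
      exact Submodule.add_mem _ (Submodule.mem_iSup_of_mem true hz) (Submodule.mem_iSup_of_mem false hvz)
  have hU : ∀ i, U i ≠ ⊥ := by
    intro i
    cases i
    · intro h0
      apply hW1
      rw [eq_top_iff]
      intro v _
      obtain ⟨z, hz, hvz⟩ := exists_proj b hND' v
      have h1 : v - z ∈ U false := hvz
      rw [h0, Submodule.mem_bot, sub_eq_zero] at h1
      rw [h1]
      exact hz
    · exact hW0
  have hpm : ∀ g ∈ G, Pm U g 1 := by
    intro g hg i v
    cases i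
    · exact mem_StabS_of_le (hst' g hg) v
    · exact mem_StabS_of_le (hst g hg) v
  exact core hb hG hhm hsol hTI hblk hU (fun g hg => ⟨1, hpm g hg⟩) (fun _ => 0)
    fun g hg π hπ _ => Pm.unique hG hblk hU hg hπ (hpm g hg)

/-- an invariant orthogonal decomposition -/
structure Sys (b : Cl K V) (G : Subgroup (Equiv.Perm V)) (U : ι → Submodule K V) : Prop where
  blk : Blk b U
  ne : ∀ i, U i ≠ ⊥
  pm : ∀ g ∈ G, ∃ π, Pm U g π

/-- coarsening -/
theorem Sys.quot {b : Cl K V} {G : Subgroup (Equiv.Perm V)} (hG : G ≤ Sim b) {U : ι → Submodule K V} (h : Sys b G U)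
    (r : Setoid ι) (hr : ∀ g ∈ G, ∀ π, Pm U g π → ∀ i j, r i j → r (π i) (π j)) :
    Sys b G (fun q : Quotient r => ⨆ i : {i : ι // (Quotient.mk r i) = q}, U i) := by
  classical
  set U' : Quotient r → Submodule K V := fun q => ⨆ i : {i : ι // (Quotient.mk r i) = q}, U i with hU'
  have hle : ∀ i, U i ≤ U' (Quotient.mk r i) := fun i =>
    le_iSup (fun j : {j : ι // (Quotient.mk r j) = Quotient.mk r i} => U j) ⟨i, rfl⟩
  have hr' : ∀ g ∈ G, ∀ π, Pm U g π → ∀ i j, r i j ↔ r (π i) (π j) := by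
    intro g hg π hπ i j
    refine ⟨hr g hg π hπ i j, fun h1 => ?_⟩
    have := hr g⁻¹ (G.inv_mem hg) π⁻¹ hπ.inv _ _ h1
    rwa [perm_inv_self, perm_inv_self] at this
  refine ⟨⟨fun q q' hqq v hv w hw => ?_, ?_⟩, fun q => ?_, fun g hg => ?_⟩
  · change v ∈ ⨆ i : {i : ι // (Quotient.mk r i) = q}, U i at hv
    change w ∈ ⨆ i : {i : ι // (Quotient.mk r i) = q'}, U i at hw
    induction hv using Submodule.iSup_induction' with
    | mem i x hx =>
      induction hw using Submodule.iSup_induction' with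
      | mem j y hy =>
        refine h.blk.ort i j (fun hij => hqq ?_) x hx y hy
        rw [← i.2, ← j.2, hij]
      | zero => exact B_zero_right b x
      | add y z _ _ hy hz => rw [b.add_right, hy, hz, add_zero]
    | zero => exact B_zero_left b w
    | add x y _ _ hx hy => rw [b.add_left, hx, hy, add_zero]
  · rw [eq_top_iff, ← h.blk.top]
    exact iSup_le fun i => (hle i).trans (le_iSup U' _)
  · obtain ⟨i, rfl⟩ := Quotient.exists_rep q
    intro h0
    apply h.ne i
    rw [eq_bot_iff, ← h0]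
    exact hle i
  · obtain ⟨π, hπ⟩ := h.pm g hg
    -- forward
    have key : ∀ g ∈ G, ∀ π, Pm U g π → ∀ q q' : Quotient r, (∀ i, Quotient.mk r i = q → Quotient.mk r (π i) = q') →
        ∀ v ∈ U' q, g v ∈ U' q' := by
      intro g hg π hπ q q' hq v hv
      obtain ⟨σ, μ, hs⟩ := hG hg
      change v ∈ ⨆ i : {i : ι // (Quotient.mk r i) = q}, U i at hv
      induction hv using Submodule.iSup_induction' with
      | mem i x hx =>
        rw [← hq i i.2]
        exact hle _ ((hπ i x).2 hx)
      | zero => rw [hs.map_zero]; exact Submodule.zero_mem _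
      | add x y _ _ hx hy => rw [hs.add]; exact Submodule.add_mem _ hx hy
    refine ⟨Quotient.congr π (hr' g hg π hπ), fun q v => ⟨fun hv => ?_, fun hv => ?_⟩⟩
    · have h1 := key g⁻¹ (G.inv_mem hg) π⁻¹ hπ.inv _ q (fun i hi => by
        obtain ⟨j, rfl⟩ := Quotient.exists_rep q
        rw [Quotient.congr_mk] at hi
        apply Quotient.sound
        have h2 : r i (π j) := Quotient.exact hi
        have h3 := (hr' g hg π hπ (π⁻¹ i) j).2 (by rwa [perm_self_inv])
        exact h3) _ hv
      rwa [perm_inv_self] at h1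
    · refine key g hg π hπ q _ (fun i hi => ?_) v hv
      rw [← hi, Quotient.congr_mk]

/-- **C2 in the semilinear language** -/
theorem c2V [Finite K] [Module.Finite K V] {b : Cl K V} (hb : b.IsSp)
    {G : Subgroup (Equiv.Perm V)} (hG : G ≤ Sim b) (hhm : ∀ a, hm K V a ∈ G) (hsol : Group.IsSolvable G)
    (hTI : ∀ W : Submodule K V, b.TI W → (∀ g ∈ G, ∀ w ∈ W, g w ∈ W) → W = ⊥)
    {κ : Type} [Fintype κ] (hκ : 2 ≤ Fintype.card κ) {W : κ → Submodule K V} (hS : Sys b G W) : FiveBV b G := by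
  classical
  have hfin : Finite V := Module.finite_of_finite K
  -- the minimal system
  have hex : ∃ n, ∃ (ι : Type) (_ : Fintype ι) (U : ι → Submodule K V), Fintype.card ι = n ∧ 2 ≤ n ∧ Sys b G U :=
    ⟨_, κ, _, W, rfl, hκ, hS⟩
  obtain ⟨ι, _, U, hcard, h2, hU⟩ := Nat.find_spec hex
  have hmin : ∀ (ι' : Type) [Fintype ι'] (U' : ι' → Submodule K V), 2 ≤ Fintype.card ι' → Sys b G U' →
      Fintype.card ι ≤ Fintype.card ι' := by
    intro ι' _ U' h2' hU'
    rw [hcard]
    exact Nat.find_min' hex ⟨ι', _, U', rfl, h2', hU'⟩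
  rw [← hcard] at h2
  clear hcard
  have hnt : Nontrivial ι := Fintype.one_lt_card_iff_nontrivial.1 h2
  -- the action
  choose! ψ hψ using hU.pm
  have huniq : ∀ g ∈ G, ∀ π, Pm U g π → π = ψ g := fun g hg π hπ => hπ.unique hG hU.blk hU.ne hg (hψ g hg)
  let act : MulAction G ι :=
    { smul := fun g i => ψ g i
      one_smul := fun i => by
        change ψ (1 : Equiv.Perm V) i = i
        rw [← huniq _ (one_mem G) 1 (Pm.one U)]
        rfl
      mul_smul := fun g k i => by
        change ψ ((g : Equiv.Perm V) * k) i = ψ g (ψ k i)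
        rw [← huniq _ (G.mul_mem g.2 k.2) (ψ g * ψ k) ((hψ g g.2).mul (hψ k k.2))]
        rfl }
  have hsm : ∀ (g : G) (i : ι), g • i = ψ g i := fun _ _ => rfl
  -- invariant equivalence relations
  have htriv : ∀ r : Setoid ι, (∀ (g : G) (i j : ι), r i j → r (g • i) (g • j)) →
      (∃ i j, i ≠ j ∧ r i j) → ∀ i j, r i j := by
    intro r hr ⟨i, j, hij, hrij⟩
    by_contra hcon
    push Not at hcon
    obtain ⟨x, y, hxy⟩ := hcon
    have h3 := hU.quot hG r (fun g hg π hπ i j hij => by
      rw [huniq g hg π hπ]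
      exact hr ⟨g, hg⟩ i j hij)
    have h4 : 2 ≤ Fintype.card (Quotient r) := by
      have : Nontrivial (Quotient r) := ⟨⟨Quotient.mk r x, Quotient.mk r y, fun h => hxy (Quotient.exact h)⟩⟩
      exact Fintype.one_lt_card
    have h5 := hmin _ _ h4 h3
    have h6 : Fintype.card (Quotient r) < Fintype.card ι := by
      refine Fintype.card_lt_of_surjective_not_injective (Quotient.mk r) Quotient.exists_rep fun hinj => ?_
      exact hij (hinj (Quotient.sound hrij))
    omega
  by_cases hfix : ∀ (g : G) (i : ι), g • i = i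
  · refine core hb hG hhm hsol hTI hU.blk hU.ne hU.pm (fun _ => 0) fun g hg π hπ _ => ?_
    rw [huniq g hg π hπ]
    ext i
    exact hfix ⟨g, hg⟩ i
  · push Not at hfix
    obtain ⟨g0, i0, hg0⟩ := hfix
    have htrans : MulAction.IsPretransitive G ι := by
      refine ⟨fun x y => ?_⟩
      have := htriv (MulAction.orbitRel G ι) (fun g i j hij => by
        rw [MulAction.orbitRel_apply] at hij ⊢
        obtain ⟨k, rfl⟩ := hij
        exact ⟨g * k * g⁻¹, by simp [mul_smul]⟩) ⟨_, _, hg0, ⟨g0, rfl⟩⟩ y x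
      rw [MulAction.orbitRel_apply] at this
      exact this
    have hprim : MulAction.IsPreprimitive G ι := by
      refine ⟨fun {B} hB => ?_⟩
      by_cases hsub : B.Subsingleton
      · exact Or.inl hsub
      · right
        rw [Set.not_subsingleton_iff] at hsub
        obtain ⟨x, hx, y, hy, hxy⟩ := hsub
        have hBe := MulAction.IsBlock.smul_eq_smul_of_nonempty hB
        let r : Setoid ι :=
          { r := fun i j => ∃ g : G, i ∈ g • B ∧ j ∈ g • B
            iseqv :=
              { refl := fun i => by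
                  obtain ⟨g, hg⟩ := MulAction.exists_smul_eq G x i
                  exact ⟨g, ⟨x, hx, hg⟩, ⟨x, hx, hg⟩⟩
                symm := fun ⟨g, h1, h2⟩ => ⟨g, h2, h1⟩
                trans := fun {i j k} ⟨g, h1, h2⟩ ⟨g', h3, h4⟩ => by
                  have := hBe ⟨j, h2, h3⟩
                  exact ⟨g', this ▸ h1, h4⟩ } }
        have hall := htriv r (fun g i j ⟨k, h1, h2⟩ => ⟨g * k, by
            rw [mul_smul]
            exact ⟨Set.smul_mem_smul_set h1, Set.smul_mem_smul_set h2⟩⟩)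
          ⟨x, y, hxy, 1, by rw [one_smul]; exact ⟨hx, hy⟩⟩
        rw [Set.eq_univ_iff_forall]
        intro z
        obtain ⟨g, h1, h2⟩ := hall x z
        have h3 : g • B = (1 : G) • B := hBe ⟨x, h1, by rw [one_smul]; exact hx⟩
        rw [h3, one_smul] at h2
        exact h2
    obtain ⟨col, hcol⟩ := Cfsg.Agent.H578.PermCol.prim5 hprim
    refine core hb hG hhm hsol hTI hU.blk hU.ne hU.pm col fun g hg π hπ h1 => ?_
    rw [huniq g hg π hπ] at h1 ⊢
    ext i
    exact hcol ⟨g, hg⟩ (fun ω => h1 ω) i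

end

open Cfsg.Agent.H786.FC (StmtBC1K StmtBC2On)
open Cfsg.Agent.H200.FC (Ph Ph_apply' up mem_up up_le up_solv)

/-- **B-C1S** -/
theorem stmtBC1S : StmtBC1K.{u, v} false := by
  intro K _ _ V _ _ _ b hk hbig S hS hsol hTI hW
  obtain ⟨W, hW0, hW1, hND, hst⟩ := hW
  have hfin : Finite V := Module.finite_of_finite K
  obtain ⟨v, hv, hv0⟩ := Submodule.exists_mem_ne_zero_of_ne_bot hW0
  have hnt : Nontrivial V := ⟨⟨v, 0, hv0⟩⟩
  refine fiveB_of_up hS (c1V (hk.2 rfl) (up_le_Sim hS) (hm_mem_up S) (up_solv S hsol) (fun W' hW' hg => ?_) hW0 hW1 hND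
    fun g hg w hw => up_stable hst hg hw)
  exact hTI W' hW' (stb_of_up hS fun g hg' => mem_StabS_of_le (hg g hg'))

/-- **B-C2S** -/
theorem stmtBC2S (hP : StmtBPar.{u, v}) : StmtBC2On.{u, v} false (fun _ => True) := by
  intro K _ _ V _ _ _ b hk hbig S hS hsol k d e _ hk2 hd he hadj hr hp
  by_cases hTI : ∀ W : Submodule K V, b.TI W → (∀ f ∈ S, Stb f W) → W = ⊥
  · have hfin : Finite V := Module.finite_of_finite K
    have hne : ∀ i, LinearMap.range (e i) ≠ ⊥ := by
      intro i h0
      have := hr i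
      rw [h0, finrank_bot] at this
      omega
    have hnt : Nontrivial V := by
      obtain ⟨v, hv, hv0⟩ := Submodule.exists_mem_ne_zero_of_ne_bot (hne ⟨0, by omega⟩)
      exact ⟨⟨v, 0, hv0⟩⟩
    have hmem : ∀ i v, v ∈ LinearMap.range (e i) ↔ e i v = v := by
      intro i v
      constructor
      · rintro ⟨w, rfl⟩
        rw [← Module.End.mul_apply, (he.idem i).eq]
      · intro h
        exact ⟨v, h⟩
    refine fiveB_of_up hS (c2V (hk.2 rfl) (up_le_Sim hS) (hm_mem_up S) (up_solv S hsol) (fun W' hW' hg => ?_)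
      (κ := Fin k) (by rw [Fintype.card_fin]; exact hk2) (W := fun i => LinearMap.range (e i)) ?_)
    · exact hTI W' hW' (stb_of_up hS fun g hg' => mem_StabS_of_le (hg g hg'))
    refine ⟨⟨fun i j hij v hv w hw => ?_, ?_⟩, hne, fun g hg => ?_⟩
    · obtain ⟨v', rfl⟩ := hv
      obtain ⟨w', rfl⟩ := hw
      rw [hadj i, ← Module.End.mul_apply, he.ortho hij, LinearMap.zero_apply]
      exact B_zero_right b v'
    · rw [eq_top_iff]
      intro v _
      have h1 : v = ∑ i, e i v := by
        have := LinearMap.congr_fun he.complete v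
        rw [LinearMap.sum_apply] at this
        exact this.symm
      rw [h1]
      exact Submodule.sum_mem _ fun i _ => Submodule.mem_iSup_of_mem i ⟨v, rfl⟩
    · have hg' := up_le S hg
      rw [mem_up hg'] at hg
      obtain ⟨π, hπ⟩ := hp _ hg
      refine ⟨π, fun i v => ?_⟩
      rw [hmem, hmem, ← hπ i]
      have h1 := Ph_apply' ⟨g, hg'⟩ (e i) v
      change Ph K V ⟨g, hg'⟩ (e i) (g v) = g (e i v) at h1
      rw [h1]
      exact g.injective.eq_iff
  · push Not at hTI
    obtain ⟨W, h1, h2, h3⟩ := hTI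
    exact hP K V b hbig S hS hsol ⟨W, h3, h1, h2⟩

end Cfsg.Agent.H57.FC
end

-- part: H57/FC/Prim
section
/-!
# S5764: reduction of the C2 cases to a rigid 5-colouring of the blocks, for any form (helper57)
-/

set_option autoImplicit false

namespace Cfsg.Agent.H57.FC

open Subgroup Cfsg.Agent.H198.FC Cfsg.Agent.H412.FC
open scoped Pointwise

universe u v w

section

variable {K : Type u} [Field K] {V : Type v} [AddCommGroup V] [Module K V]

/-- every invariant orthogonal decomposition has an invariant coarsening (with at least two members) with a rigid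
colouring by 5 colours (for any form `b`; every new member contains an old one) -/
theorem exists_col {b : Cl K V} {G : Subgroup (Equiv.Perm V)} (hG : G ≤ Sim b) (hfinG : Finite G)
    (hsol : Group.IsSolvable G) {κ : Type} [Fintype κ] (hκ : 2 ≤ Fintype.card κ) {W : κ → Submodule K V}
    (hS : Sys b G W) : ∃ (ι : Type) (_ : Fintype ι) (_ : Nontrivial ι) (U : ι → Submodule K V) (col : ι → Fin 5),
      Sys b G U ∧ (∀ i, ∃ j, W j ≤ U i) ∧ ∀ g ∈ G, ∀ π, Pm U g π → (∀ i, col (π i) = col i) → π = 1 := by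
  classical
  -- the minimal system
  have hex : ∃ n, ∃ (ι : Type) (_ : Fintype ι) (U : ι → Submodule K V), Fintype.card ι = n ∧ 2 ≤ n ∧ Sys b G U ∧
      ∀ i, ∃ j, W j ≤ U i := ⟨_, κ, _, W, rfl, hκ, hS, fun i => ⟨i, le_rfl⟩⟩
  obtain ⟨ι, hι, U, hcard, h2, hU, hWU⟩ := Nat.find_spec hex
  have hmin : ∀ (ι' : Type) [Fintype ι'] (U' : ι' → Submodule K V), 2 ≤ Fintype.card ι' → Sys b G U' →
      (∀ i, ∃ j, W j ≤ U' i) → Fintype.card ι ≤ Fintype.card ι' := by
    intro ι' _ U' h2' hU' hWU'
    rw [hcard]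
    exact Nat.find_min' hex ⟨ι', _, U', rfl, h2', hU', hWU'⟩
  rw [← hcard] at h2
  clear hcard
  have hnt : Nontrivial ι := Fintype.one_lt_card_iff_nontrivial.1 h2
  -- the action
  choose! ψ hψ using hU.pm
  have huniq : ∀ g ∈ G, ∀ π, Pm U g π → π = ψ g := fun g hg π hπ => hπ.unique hG hU.blk hU.ne hg (hψ g hg)
  let act : MulAction G ι :=
    { smul := fun g i => ψ g i
      one_smul := fun i => by
        change ψ (1 : Equiv.Perm V) i = i
        rw [← huniq _ (one_mem G) 1 (Pm.one U)]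
        rfl
      mul_smul := fun g k i => by
        change ψ ((g : Equiv.Perm V) * k) i = ψ g (ψ k i)
        rw [← huniq _ (G.mul_mem g.2 k.2) (ψ g * ψ k) ((hψ g g.2).mul (hψ k k.2))]
        rfl }
  have hsm : ∀ (g : G) (i : ι), g • i = ψ g i := fun _ _ => rfl
  -- invariant equivalence relations
  have htriv : ∀ r : Setoid ι, (∀ (g : G) (i j : ι), r i j → r (g • i) (g • j)) →
      (∃ i j, i ≠ j ∧ r i j) → ∀ i j, r i j := by
    intro r hr ⟨i, j, hij, hrij⟩
    by_contra hcon
    push Not at hcon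
    obtain ⟨x, y, hxy⟩ := hcon
    have h3 := hU.quot hG r (fun g hg π hπ i j hij => by
      rw [huniq g hg π hπ]
      exact hr ⟨g, hg⟩ i j hij)
    have h4 : 2 ≤ Fintype.card (Quotient r) := by
      have : Nontrivial (Quotient r) := ⟨⟨Quotient.mk r x, Quotient.mk r y, fun h => hxy (Quotient.exact h)⟩⟩
      exact Fintype.one_lt_card
    have h5 := hmin _ _ h4 h3 (fun q => by
      obtain ⟨i, rfl⟩ := Quotient.exists_rep q
      obtain ⟨j, hj⟩ := hWU i
      exact ⟨j, hj.trans (le_iSup (fun x : {x : ι // (Quotient.mk r x) = Quotient.mk r i} => U x) ⟨i, rfl⟩)⟩)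
    have h6 : Fintype.card (Quotient r) < Fintype.card ι := by
      refine Fintype.card_lt_of_surjective_not_injective (Quotient.mk r) Quotient.exists_rep fun hinj => ?_
      exact hij (hinj (Quotient.sound hrij))
    omega
  by_cases hfix : ∀ (g : G) (i : ι), g • i = i
  · refine ⟨ι, hι, hnt, U, fun _ => 0, hU, hWU, fun g hg π hπ _ => ?_⟩
    rw [huniq g hg π hπ]
    ext i
    exact hfix ⟨g, hg⟩ i
  · push Not at hfix
    obtain ⟨g0, i0, hg0⟩ := hfix
    have htrans : MulAction.IsPretransitive G ι := by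
      refine ⟨fun x y => ?_⟩
      have := htriv (MulAction.orbitRel G ι) (fun g i j hij => by
        rw [MulAction.orbitRel_apply] at hij ⊢
        obtain ⟨k, rfl⟩ := hij
        exact ⟨g * k * g⁻¹, by simp [mul_smul]⟩) ⟨_, _, hg0, ⟨g0, rfl⟩⟩ y x
      rw [MulAction.orbitRel_apply] at this
      exact this
    have hprim : MulAction.IsPreprimitive G ι := by
      refine ⟨fun {B} hB => ?_⟩
      by_cases hsub : B.Subsingleton
      · exact Or.inl hsub
      · right
        rw [Set.not_subsingleton_iff] at hsub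
        obtain ⟨x, hx, y, hy, hxy⟩ := hsub
        have hBe := MulAction.IsBlock.smul_eq_smul_of_nonempty hB
        let r : Setoid ι :=
          { r := fun i j => ∃ g : G, i ∈ g • B ∧ j ∈ g • B
            iseqv :=
              { refl := fun i => by
                  obtain ⟨g, hg⟩ := MulAction.exists_smul_eq G x i
                  exact ⟨g, ⟨x, hx, hg⟩, ⟨x, hx, hg⟩⟩
                symm := fun ⟨g, h1, h2⟩ => ⟨g, h2, h1⟩
                trans := fun {i j k} ⟨g, h1, h2⟩ ⟨g', h3, h4⟩ => by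
                  have := hBe ⟨j, h2, h3⟩
                  exact ⟨g', this ▸ h1, h4⟩ } }
        have hall := htriv r (fun g i j ⟨k, h1, h2⟩ => ⟨g * k, by
            rw [mul_smul]
            exact ⟨Set.smul_mem_smul_set h1, Set.smul_mem_smul_set h2⟩⟩)
          ⟨x, y, hxy, 1, by rw [one_smul]; exact ⟨hx, hy⟩⟩
        rw [Set.eq_univ_iff_forall]
        intro z
        obtain ⟨g, h1, h2⟩ := hall x z
        have h3 : g • B = (1 : G) • B := hBe ⟨x, h1, by rw [one_smul]; exact hx⟩
        rw [h3, one_smul] at h2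
        exact h2
    obtain ⟨col, hcol⟩ := Cfsg.Agent.H578.PermCol.prim5 hprim
    refine ⟨ι, hι, hnt, U, col, hU, hWU, fun g hg π hπ h1 => ?_⟩
    rw [huniq g hg π hπ] at h1 ⊢
    ext i
    exact hcol ⟨g, hg⟩ (fun ω => h1 ω) i

end

end Cfsg.Agent.H57.FC
end

-- part: H499/FC/EichC2
section
/-!
# S5764, unitary groups, class C2 with blocks of dimension `≥ 2` (helper499)

`blk_fix` : Eichler transformations and orthogonal decompositions.
-/

set_option autoImplicit false

namespace Cfsg.Agent.H499.FC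

open Subgroup Cfsg Cfsg.Agent.H198.FC Cfsg.Agent.H412.FC
open Cfsg.Agent.H57.FC (Blk Pm Sys typ typ_congr quad_type Ind pr)

universe u v w

section blocks

variable {K : Type u} [Field K] {V : Type v} [AddCommGroup V] [Module K V] {ι : Type w}

theorem blk_exists_one {b : Cl K V} {U : ι → Submodule K V} (h : Blk b U) {i : ι} {v : V}
    (hv : v ∈ U i) (hv0 : v ≠ 0) : ∃ u ∈ U i, b.B u v = 1 := by
  by_contra hcon
  push Not at hcon
  apply hv0
  refine h.nondeg hv fun u hu => ?_
  by_contra hne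
  have h1 : b.B u v ≠ 0 := fun h1 => hne (refl0 b h1)
  apply hcon ((b.B u v)⁻¹ • u) ((U i).smul_mem _ hu)
  rw [b.smul_left, inv_mul_cancel₀ h1]

/-- a vector of `U i` orthogonal to `U i` is zero -/
theorem blk_zero {b : Cl K V} {U : ι → Submodule K V} (h : Blk b U) {i : ι} {v : V} (hv : v ∈ U i)
    (h0 : ∀ y ∈ U i, b.B y v = 0) : v = 0 := h.nondeg hv fun y hy => refl0 b (h0 y hy)

theorem B_sum_right (b : Cl K V) (v : V) (s : Finset ι) (f : ι → V) :
    b.B v (∑ i ∈ s, f i) = ∑ i ∈ s, b.B v (f i) := by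
  classical
  induction s using Finset.induction_on with
  | empty => simpa using zero_right b v
  | insert a s ha ih => rw [Finset.sum_insert ha, Finset.sum_insert ha, b.add_right, ih]

/-- **Block lemma for Eichler transformations.**  `w i₀` is isotropic, `E` the Eichler transformation of `w i₀` and
`∑ l ≠ i₀, w l`. -/
theorem blk_fix [Fintype ι] [Nontrivial ι] [DecidableEq ι] {b : Cl K V} {U : ι → Submodule K V} (h : Blk b U)
    {g g' : Equiv.Perm V} {σ σ' : K ≃+* K} {μ μ' : K} (hg : IsSim b g σ μ) (hg' : IsSim b g' σ' μ')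
    {π π' : Equiv.Perm ι} (hπ : Pm U g π) (hπ' : Pm U g' π') {w : ι → V} (hw : ∀ i, w i ∈ U i)
    (hw0 : ∀ i, w i ≠ 0) {i₀ : ι} (hiso : b.B (w i₀) (w i₀) = 0) {ρ : K} {E : V → V}
    (hE : ∀ x, E x = x + b.B x (w i₀) • (∑ l ∈ Finset.univ.erase i₀, w l) +
      (ρ * b.B x (w i₀) - b.B x (∑ l ∈ Finset.univ.erase i₀, w l)) • w i₀)
    (hc : ∀ x, g' (E x) = E (g x)) :
    ∃ c : ι → K, (∀ i, g (w i) = c i • w (π i)) ∧ ((∃ n, n ≠ i₀ ∧ n ≠ π i₀) → π i₀ = i₀) ∧
      (π i₀ = i₀ → ∀ l, l ≠ i₀ → b.τ (c l) * c i₀ = μ) := by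
  set W : V := ∑ l ∈ Finset.univ.erase i₀, w l with hW
  -- pairing with `W`
  have hBW : ∀ {i : ι} {x : V}, x ∈ U i → i ≠ i₀ → b.B x W = b.B x (w i) := by
    intro i x hx hi
    rw [hW, B_sum_right]
    refine Finset.sum_eq_single i (fun j _ hj => h.ort i j (Ne.symm hj) x hx (w j) (hw j)) fun hi' => ?_
    exact absurd (Finset.mem_erase.2 ⟨hi, Finset.mem_univ i⟩) hi'
  have hBW0 : ∀ {x : V}, x ∈ U i₀ → b.B x W = 0 := by
    intro x hx
    rw [hW, B_sum_right]
    refine Finset.sum_eq_zero fun j hj => h.ort i₀ j (Ne.symm (Finset.ne_of_mem_erase hj)) x hx (w j) (hw j)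
  have hE1 : ∀ {l : ι} {x : V}, l ≠ i₀ → x ∈ U l → E x = x - b.B x (w l) • w i₀ := by
    intro l x hl hx
    rw [hE, h.ort l i₀ hl x hx _ (hw i₀), hBW hx hl, zero_smul, add_zero, mul_zero, zero_sub, neg_smul,
      sub_eq_add_neg]
  have hE0 : ∀ {x : V}, x ∈ U i₀ → E x = x + b.B x (w i₀) • W + (ρ * b.B x (w i₀)) • w i₀ := by
    intro x hx
    rw [hE, hBW0 hx, sub_zero]
  -- vectors orthogonal to `w l`
  have h1 : ∀ l x, x ∈ U l → b.B x (w l) = 0 → b.B (g x) (w (π l)) = 0 ∧ g' x = g x := by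
    intro l x hx hx0
    have hgx : g x ∈ U (π l) := (hπ l x).2 hx
    have hgx' : g' x ∈ U (π' l) := (hπ' l x).2 hx
    have hEx : E x = x := by
      by_cases hl : l = i₀
      · subst hl
        rw [hE0 hx, hx0, mul_zero, zero_smul, zero_smul, add_zero, add_zero]
      · rw [hE1 hl hx, hx0, zero_smul, sub_zero]
    have e := hc x
    rw [hEx] at e
    by_cases hp : π l = i₀
    · rw [hp] at hgx ⊢
      rw [hE0 hgx] at e
      have h0 : b.B (g x) (w i₀) = 0 := by
        obtain ⟨m, hm⟩ := exists_ne i₀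
        by_cases hm' : π' l = m
        · have e2 := congrArg (fun y => b.B y (w i₀)) e
          simp only [b.add_left, b.smul_left] at e2
          rw [h.ort (π' l) i₀ (by rw [hm']; exact hm) _ hgx' _ (hw i₀), refl0 b (hBW0 (hw i₀)), hiso, mul_zero,
            mul_zero, add_zero, add_zero] at e2
          exact e2.symm
        · obtain ⟨y, hy, hy1⟩ := blk_exists_one h (hw m) (hw0 m)
          have e2 := congrArg (fun z => b.B y z) e
          simp only [b.add_right, b.smul_right] at e2
          rw [h.ort m (π' l) (Ne.symm hm') y hy _ hgx', h.ort m i₀ hm y hy _ hgx, hBW hy hm, hy1,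
            h.ort m i₀ hm y hy _ (hw i₀), mul_zero, mul_one, add_zero, zero_add] at e2
          exact (map_eq_zero b.τ).1 e2.symm
      refine ⟨h0, ?_⟩
      rw [e, h0, mul_zero, zero_smul, zero_smul, add_zero, add_zero]
    · rw [hE1 hp hgx] at e
      have h0 : b.B (g x) (w (π l)) = 0 := by
        by_cases hp' : π' l = π l
        · obtain ⟨y, hy, hy1⟩ := blk_exists_one h (hw i₀) (hw0 i₀)
          have e2 := congrArg (fun z => b.B y z) e
          simp only [sub_right, b.smul_right] at e2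
          rw [h.ort i₀ (π' l) (by rw [hp']; exact Ne.symm hp) y hy _ hgx', h.ort i₀ (π l) (Ne.symm hp) y hy _ hgx, hy1,
            mul_one, zero_sub] at e2
          exact (map_eq_zero b.τ).1 (neg_eq_zero.1 e2.symm)
        · have e3 : g x = 0 := by
            refine blk_zero h hgx fun y hy => ?_
            have e2 := congrArg (fun z => b.B y z) e
            simp only [sub_right, b.smul_right] at e2
            rw [h.ort (π l) (π' l) (Ne.symm hp') y hy _ hgx', h.ort (π l) i₀ hp y hy _ (hw i₀), mul_zero,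
              sub_zero] at e2
            exact e2.symm
          rw [e3, zero_left]
      refine ⟨h0, ?_⟩
      rw [e, h0, zero_smul, sub_zero]
  -- `g (w l)`
  choose v hv hv1 using fun i => blk_exists_one h (hw i) (hw0 i)
  have h3 : ∀ i, w (π i) = b.τ (b.B (g (v i)) (w (π i)) * μ⁻¹) • g (w i) := by
    intro i
    rw [← sub_eq_zero]
    have hgw : g (w i) ∈ U (π i) := (hπ i (w i)).2 (hw i)
    refine blk_zero h (Submodule.sub_mem _ (hw _) (Submodule.smul_mem _ _ hgw)) fun u hu => ?_
    obtain ⟨t, rfl⟩ := g.surjective u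
    have ht : t ∈ U i := (hπ i t).1 hu
    have h4 := (h1 i (t - b.B t (w i) • v i) ((U i).sub_mem ht ((U i).smul_mem _ (hv i))) (by
      rw [sub_left, b.smul_left, hv1, mul_one, sub_self])).1
    rw [hg.map_sub, hg.smul, sub_left, b.smul_left, sub_eq_zero] at h4
    rw [sub_right, b.smul_right, b.invol, hg.form, h4]
    have := hg.ne
    field_simp
    ring
  have hne : ∀ i, b.τ (b.B (g (v i)) (w (π i)) * μ⁻¹) ≠ 0 := by
    intro i h0
    apply hw0 (π i)
    rw [h3 i, h0, zero_smul]
  have h4 : ∀ i, g (w i) = (b.τ (b.B (g (v i)) (w (π i)) * μ⁻¹))⁻¹ • w (π i) := by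
    intro i
    have h5 : (b.τ (b.B (g (v i)) (w (π i)) * μ⁻¹))⁻¹ • w (π i) =
        (b.τ (b.B (g (v i)) (w (π i)) * μ⁻¹))⁻¹ • (b.τ (b.B (g (v i)) (w (π i)) * μ⁻¹) • g (w i)) := by
      rw [← h3 i]
    rw [smul_smul, inv_mul_cancel₀ (hne i), one_smul] at h5
    exact h5.symm
  generalize hcdef : (fun i => (b.τ (b.B (g (v i)) (w (π i)) * μ⁻¹))⁻¹) = c
  have hc4 : ∀ i, g (w i) = c i • w (π i) := by
    intro i
    rw [h4 i, ← hcdef]
  refine ⟨c, hc4, ?_, ?_⟩
  · -- the special block is fixed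
    rintro ⟨n, hn, hn'⟩
    by_contra hm
    have hgv : g (v i₀) ∈ U (π i₀) := (hπ i₀ _).2 (hv i₀)
    have e := hc (v i₀)
    rw [hE0 (hv i₀), hE1 hm hgv, hv1, one_smul, mul_one, hg'.add, hg'.add, hg'.smul, hW, hg'.map_sum] at e
    have hgu : g' (w i₀) = g (w i₀) := (h1 i₀ _ (hw i₀) hiso).2
    -- `π' i₀ = π i₀`
    have hpp : π' i₀ = π i₀ := by
      by_contra hcon
      have a1 : g (w i₀) ∈ U (π i₀) := (hπ i₀ _).2 (hw i₀)
      have a2 : g (w i₀) ∈ U (π' i₀) := by rw [← hgu]; exact (hπ' i₀ _).2 (hw i₀)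
      have a3 : g (w i₀) = 0 := blk_zero h a1 fun y hy => h.ort _ _ (Ne.symm hcon) y hy _ a2
      apply hw0 i₀
      apply g.injective
      rw [a3, hg.map_zero]
    obtain ⟨l, rfl⟩ := π'.surjective n
    have hl : l ≠ i₀ := by
      rintro rfl
      exact hn' hpp
    have hgw' : g' (w l) ∈ U (π' l) := (hπ' l _).2 (hw l)
    have hgw0 : g' (w l) ≠ 0 := by
      intro h0
      apply hw0 l
      apply g'.injective
      rw [h0, hg'.map_zero]
    obtain ⟨y, hy, hy1⟩ := blk_exists_one h hgw' hgw0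
    have e2 := congrArg (fun z => b.B y z) e
    simp only [b.add_right, b.smul_right, sub_right, B_sum_right] at e2
    rw [Finset.sum_eq_single l] at e2
    · rw [hy1, h.ort (π' l) (π' i₀) (fun hh => hl (π'.injective hh)) y hy _ ((hπ' i₀ _).2 (hv i₀)),
        h.ort (π' l) (π' i₀) (fun hh => hl (π'.injective hh)) y hy _ ((hπ' i₀ _).2 (hw i₀)),
        h.ort (π' l) (π i₀) hn' y hy _ hgv, h.ort (π' l) i₀ hn y hy _ (hw i₀), mul_zero, mul_zero, zero_add, add_zero,
        sub_zero] at e2
      exact one_ne_zero e2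
    · intro j _ hj
      exact h.ort (π' l) (π' j) (fun hh => hj (π'.injective hh).symm) y hy _ ((hπ' j _).2 (hw j))
    · intro hl'
      exact absurd (Finset.mem_erase.2 ⟨hl, Finset.mem_univ l⟩) hl'
  · -- the relation
    intro hp l hl
    have hpl : π l ≠ i₀ := fun hh => hl (π.injective (hh.trans hp.symm))
    have hgu : g' (w i₀) = g (w i₀) := (h1 i₀ _ (hw i₀) hiso).2
    have hgu' : g (w i₀) = c i₀ • w i₀ := by rw [hc4, hp]
    have hgv : g (v l) ∈ U (π l) := (hπ l _).2 (hv l)
    have hgv' : g' (v l) ∈ U (π' l) := (hπ' l _).2 (hv l)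
    have e := hc (v l)
    rw [hE1 hl (hv l), hE1 hpl hgv, hv1, one_smul, hg'.map_sub, hgu, hgu'] at e
    have hpp : π' l = π l := by
      by_contra hcon
      have a3 : g (v l) = 0 := by
        refine blk_zero h hgv fun y hy => ?_
        have e2 := congrArg (fun z => b.B y z) e
        simp only [sub_right, b.smul_right] at e2
        rw [h.ort _ _ (Ne.symm hcon) y hy _ hgv', h.ort (π l) i₀ hpl y hy _ (hw i₀), mul_zero, mul_zero, sub_zero,
          sub_zero] at e2
        exact e2.symm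
      have a4 : v l = 0 := by
        apply g.injective
        rw [a3, hg.map_zero]
      have a5 := hv1 l
      rw [a4, zero_left] at a5
      exact zero_ne_one a5
    obtain ⟨y, hy, hy1⟩ := blk_exists_one h (hw i₀) (hw0 i₀)
    have e2 := congrArg (fun z => b.B y z) e
    simp only [sub_right, b.smul_right] at e2
    rw [h.ort i₀ (π' l) (by rw [hpp]; exact Ne.symm hpl) y hy _ hgv', h.ort i₀ (π l) (Ne.symm hpl) y hy _ hgv, hy1,
      mul_one, mul_one, zero_sub, zero_sub] at e2
    have e3 : c i₀ = b.B (g (v l)) (w (π l)) := b.τ.injective (neg_injective e2)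
    have e4 := hg.form (v l) (w l)
    rw [hv1, map_one, mul_one, hc4 l, b.smul_right, ← e3] at e4
    exact e4

/-! ### Quadruples -/

/-- isotropic quadruples which are independent or contain a proportional pair -/
theorem exists_four' [Finite K] [Finite V] {b : Cl K V} (hb : b.IsU) {I : Submodule K V} (hI : b.ND I)
    (h2 : 2 ≤ Module.finrank K I) (c : Fin 3 → V) (hc : ∀ i, c i ∈ I) {i₀ : Fin 3} (h0 : c i₀ ≠ 0) :
    ∃ u : Fin 4 → V, (∀ j, u j ∈ I ∧ b.B (u j) (u j) = 0 ∧ u j ≠ 0) ∧
      (∀ i, c i ∈ Submodule.span K (Set.range u)) ∧ (LinearIndependent K u ∨ ∃ i j, i ≠ j ∧ u j = u i) := by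
  classical
  obtain ⟨u, hu, hus, -⟩ := exists_four hb hI h2 c hc h0 one_ne_zero
  by_cases hli : LinearIndependent K u
  · exact ⟨u, hu, hus, Or.inl hli⟩
  · rw [linearIndependent_iff_notMem_span] at hli
    push Not at hli
    obtain ⟨a, ha⟩ := hli
    obtain ⟨b', hb'⟩ := exists_ne a
    refine ⟨Function.update u a (u b'), fun j => ?_, fun i => ?_, Or.inr ⟨a, b', Ne.symm hb', ?_⟩⟩
    · by_cases hj : j = a
      · subst hj
        rw [Function.update_self]
        exact hu b'
      · rw [Function.update_of_ne hj]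
        exact hu j
    · have h1 : ∀ j, j ≠ a → u j ∈ Submodule.span K (Set.range (Function.update u a (u b'))) := fun j hj =>
        Submodule.subset_span ⟨j, Function.update_of_ne hj _ _⟩
      have h3 : u a ∈ Submodule.span K (Set.range (Function.update u a (u b'))) := by
        refine Submodule.span_le.2 ?_ ha
        rintro _ ⟨j, hj, rfl⟩
        exact h1 j hj.2
      refine Submodule.span_le.2 ?_ (hus i)
      rintro _ ⟨j, rfl⟩
      by_cases hj : j = a
      · rw [hj]; exact h3
      · exact h1 j hj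
    · rw [Function.update_self, Function.update_of_ne hb']

/-- rigid quadruples: dependent, without proportional pairs -/
theorem exists_rigid' [Finite K] [Module.Finite K V] (hK : ∃ (σ : K ≃+* K) (a : K), σ a ≠ a) {A : Submodule K V}
    (h2 : 2 ≤ Module.finrank K A) {c : Fin 3 → V} (hc : ∀ i, c i ∈ A) :
    ∃ v : Fin 4 → V, (∀ j, v j ∈ A ∧ v j ≠ 0) ∧ ¬ LinearIndependent K v ∧ (∀ i j, i ≠ j → ∀ s : K, v j ≠ s • v i) ∧
      ∀ (g : Equiv.Perm V) (σ : K ≃+* K), Sml g σ → (∀ j, ∃ s : K, g (v j) = s • v j) →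
        ∃ s : K, s ≠ 0 ∧ ∀ i, g (c i) = s • c i := by
  have ne : ∀ (g : Equiv.Perm V) (σ : K ≃+* K), Sml g σ → ∀ x : V, x ≠ 0 → ∀ s : K, g x = s • x → s ≠ 0 := by
    rintro g σ hg x hx s h rfl
    apply hx
    apply g.injective
    have h0 : g 0 = 0 := by
      have := hg.1 0 0
      rw [add_zero] at this
      exact left_eq_add.1 this
    rw [h, h0, zero_smul]
  by_cases hli : LinearIndependent K c
  · have hne : ∀ i, c i ≠ 0 := hli.ne_zero
    have h3 : ∀ s0 s1 s2 : K, s0 • c 0 + s1 • c 1 + s2 • c 2 = 0 → s0 = 0 ∧ s1 = 0 ∧ s2 = 0 := by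
      intro s0 s1 s2 hs
      have h4 := Fintype.linearIndependent_iff.1 hli ![s0, s1, s2] (by
        rw [Fin.sum_univ_three]
        exact hs)
      exact ⟨h4 0, h4 1, h4 2⟩
    have key : ∀ {r s t r' s' t' : K}, r • c 0 + s • c 1 + t • c 2 = r' • c 0 + s' • c 1 + t' • c 2 →
        r = r' ∧ s = s' ∧ t = t' := by
      intro r s t r' s' t' hh
      have := h3 (r - r') (s - s') (t - t') (by
        rw [sub_smul, sub_smul, sub_smul]
        rw [← sub_eq_zero] at hh
        rw [← hh]
        abel)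
      exact ⟨sub_eq_zero.1 this.1, sub_eq_zero.1 this.2.1, sub_eq_zero.1 this.2.2⟩
    have hsum : c 0 + c 1 + c 2 ≠ 0 := by
      intro h
      have := (h3 1 1 1 (by simpa using h)).1
      exact one_ne_zero this
    refine ⟨![c 0, c 1, c 2, c 0 + c 1 + c 2], fun j => ?_, ?_, ?_, fun g σ hσ h => ?_⟩
    · fin_cases j
      exacts [⟨hc 0, hne 0⟩, ⟨hc 1, hne 1⟩, ⟨hc 2, hne 2⟩, ⟨A.add_mem (A.add_mem (hc 0) (hc 1)) (hc 2), hsum⟩]
    · intro h4
      have := Fintype.linearIndependent_iff.1 h4 ![1, 1, 1, -1] (by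
        rw [Fin.sum_univ_four]
        show (1 : K) • c 0 + (1 : K) • c 1 + (1 : K) • c 2 + (-1 : K) • (c 0 + c 1 + c 2) = 0
        rw [one_smul, one_smul, one_smul, neg_one_smul, add_neg_cancel]) 0
      exact one_ne_zero this
    · have hpair : ∀ i j : Fin 4, i < j → ∀ s : K, (![c 0, c 1, c 2, c 0 + c 1 + c 2] : Fin 4 → V) j ≠
          s • (![c 0, c 1, c 2, c 0 + c 1 + c 2] : Fin 4 → V) i := by
        intro i j hij s hs
        fin_cases i <;> fin_cases j <;> first | exact absurd hij (by decide) | skip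
        · have e : c 1 = s • c 0 := hs
          exact one_ne_zero (key (r := 0) (s := 1) (t := 0) (r' := s) (s' := 0) (t' := 0) (by simpa using e)).2.1
        · have e : c 2 = s • c 0 := hs
          exact one_ne_zero (key (r := 0) (s := 0) (t := 1) (r' := s) (s' := 0) (t' := 0) (by simpa using e)).2.2
        · have e : c 0 + c 1 + c 2 = s • c 0 := hs
          exact one_ne_zero (key (r := 1) (s := 1) (t := 1) (r' := s) (s' := 0) (t' := 0) (by simpa using e)).2.2
        · have e : c 2 = s • c 1 := hs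
          exact one_ne_zero (key (r := 0) (s := 0) (t := 1) (r' := 0) (s' := s) (t' := 0) (by simpa using e)).2.2
        · have e : c 0 + c 1 + c 2 = s • c 1 := hs
          exact one_ne_zero (key (r := 1) (s := 1) (t := 1) (r' := 0) (s' := s) (t' := 0) (by simpa using e)).2.2
        · have e : c 0 + c 1 + c 2 = s • c 2 := hs
          exact one_ne_zero (key (r := 1) (s := 1) (t := 1) (r' := 0) (s' := 0) (t' := s) (by simpa using e)).1
      have hnz : ∀ j, (![c 0, c 1, c 2, c 0 + c 1 + c 2] : Fin 4 → V) j ≠ 0 := by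
        intro j
        fin_cases j
        exacts [hne 0, hne 1, hne 2, hsum]
      intro i j hij s hs
      rcases lt_or_gt_of_ne hij with h | h
      · exact hpair i j h s hs
      · have hs0 : s ≠ 0 := by
          rintro rfl
          rw [zero_smul] at hs
          exact hnz j hs
        refine hpair j i h s⁻¹ ?_
        rw [hs, smul_smul, inv_mul_cancel₀ hs0, one_smul]
    · obtain ⟨s0, e0⟩ := h 0
      obtain ⟨s1, e1⟩ := h 1
      obtain ⟨s2, e2⟩ := h 2
      obtain ⟨s3, e3⟩ := h 3
      change g (c 0) = s0 • c 0 at e0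
      change g (c 1) = s1 • c 1 at e1
      change g (c 2) = s2 • c 2 at e2
      change g (c 0 + c 1 + c 2) = s3 • (c 0 + c 1 + c 2) at e3
      rw [hσ.1, hσ.1, e0, e1, e2, smul_add, smul_add] at e3
      obtain ⟨f0, f1, f2⟩ := key e3
      subst f0
      rw [f1] at e1
      rw [f2] at e2
      refine ⟨s0, ne g σ hσ _ (hne 0) _ e0, fun i => ?_⟩
      fin_cases i
      exacts [e0, e1, e2]
  · obtain ⟨p₁, p₂, hp₁, hp₂, hind, hspan⟩ := exists_plane h2 hc hli
    obtain ⟨γ, hγ0, hγ⟩ := exists_gen K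
    have hγ1 : γ ≠ 1 := by
      rintro rfl
      obtain ⟨σ, a, ha⟩ := hK
      exact ha (hγ σ (map_one σ) a)
    have key : ∀ {r s r' s' : K}, r • p₁ + s • p₂ = r' • p₁ + s' • p₂ → r = r' ∧ s = s' := by
      intro r s r' s' hh
      have := hind (r - r') (s - s') (by
        rw [sub_smul, sub_smul]
        rw [← sub_eq_zero] at hh
        rw [← hh]
        abel)
      exact ⟨sub_eq_zero.1 this.1, sub_eq_zero.1 this.2⟩
    have n1 : p₁ ≠ 0 := by
      intro h
      have := (hind 1 0 (by rw [h, smul_zero, zero_smul, add_zero])).1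
      exact one_ne_zero this
    have n2 : p₂ ≠ 0 := by
      intro h
      have := (hind 0 1 (by rw [h, smul_zero, zero_smul, add_zero])).2
      exact one_ne_zero this
    have n3 : ∀ s : K, p₁ + s • p₂ ≠ 0 := by
      intro s h
      have := (hind 1 s (by rw [one_smul]; exact h)).1
      exact one_ne_zero this
    have hnz : ∀ j, (![p₁, p₂, p₁ + (1 : K) • p₂, p₁ + γ • p₂] : Fin 4 → V) j ≠ 0 := by
      intro j
      fin_cases j
      exacts [n1, n2, n3 1, n3 γ]
    refine ⟨![p₁, p₂, p₁ + (1 : K) • p₂, p₁ + γ • p₂], fun j => ?_, ?_, ?_, fun g σ hσ h => ?_⟩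
    · fin_cases j
      exacts [⟨hp₁, n1⟩, ⟨hp₂, n2⟩, ⟨A.add_mem hp₁ (A.smul_mem _ hp₂), n3 1⟩, ⟨A.add_mem hp₁ (A.smul_mem _ hp₂), n3 γ⟩]
    · intro h4
      have := Fintype.linearIndependent_iff.1 h4 ![1, 1, -1, 0] (by
        rw [Fin.sum_univ_four]
        show (1 : K) • p₁ + (1 : K) • p₂ + (-1 : K) • (p₁ + (1 : K) • p₂) + (0 : K) • (p₁ + γ • p₂) = 0
        rw [one_smul, one_smul, neg_one_smul, add_neg_cancel, zero_smul, add_zero]) 0
      exact one_ne_zero this
    · have hpair : ∀ i j : Fin 4, i < j → ∀ s : K, (![p₁, p₂, p₁ + (1 : K) • p₂, p₁ + γ • p₂] : Fin 4 → V) j ≠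
          s • (![p₁, p₂, p₁ + (1 : K) • p₂, p₁ + γ • p₂] : Fin 4 → V) i := by
        intro i j hij s hs
        fin_cases i <;> fin_cases j <;> first | exact absurd hij (by decide) | skip
        · have e : p₂ = s • p₁ := hs
          exact one_ne_zero (key (r := 0) (s := 1) (r' := s) (s' := 0) (by simpa using e)).2
        · have e : p₁ + (1 : K) • p₂ = s • p₁ := hs
          exact one_ne_zero (key (r := 1) (s := 1) (r' := s) (s' := 0) (by simpa using e)).2
        · have e : p₁ + γ • p₂ = s • p₁ := hs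
          exact hγ0 (key (r := 1) (s := γ) (r' := s) (s' := 0) (by simpa using e)).2
        · have e : p₁ + (1 : K) • p₂ = s • p₂ := hs
          exact one_ne_zero (key (r := 1) (s := 1) (r' := 0) (s' := s) (by simpa using e)).1
        · have e : p₁ + γ • p₂ = s • p₂ := hs
          exact one_ne_zero (key (r := 1) (s := γ) (r' := 0) (s' := s) (by simpa using e)).1
        · have e : p₁ + γ • p₂ = s • (p₁ + (1 : K) • p₂) := hs
          rw [smul_add, smul_smul, mul_one] at e
          obtain ⟨e1, e2⟩ := key (r := 1) (s := γ) (r' := s) (s' := s) (by simpa using e)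
          exact hγ1 (e2.trans e1.symm)
      intro i j hij s hs
      rcases lt_or_gt_of_ne hij with h | h
      · exact hpair i j h s hs
      · have hs0 : s ≠ 0 := by
          rintro rfl
          rw [zero_smul] at hs
          exact hnz j hs
        refine hpair j i h s⁻¹ ?_
        have e4 := congrArg (fun z => s⁻¹ • z) hs
        simp only [smul_smul, inv_mul_cancel₀ hs0] at e4
        rw [e4]
        exact (one_smul K _).symm
    · obtain ⟨s0, e0⟩ := h 0
      obtain ⟨s1, e1⟩ := h 1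
      obtain ⟨s2, e2⟩ := h 2
      obtain ⟨s3, e3⟩ := h 3
      change g p₁ = s0 • p₁ at e0
      change g p₂ = s1 • p₂ at e1
      change g (p₁ + (1 : K) • p₂) = s2 • (p₁ + (1 : K) • p₂) at e2
      change g (p₁ + γ • p₂) = s3 • (p₁ + γ • p₂) at e3
      have key' : ∀ s a : K, g (p₁ + a • p₂) = s • (p₁ + a • p₂) → s0 = s ∧ σ a * s1 = s * a := by
        intro s a h
        rw [hσ.1, hσ.2, e0, e1, smul_add, smul_smul, smul_smul] at h
        exact key h
      obtain ⟨k1, k2⟩ := key' _ _ e2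
      obtain ⟨k3, k4⟩ := key' _ _ e3
      rw [map_one, one_mul, mul_one, ← k1] at k2
      rw [← k3, k2] at k4
      have hs0 : s0 ≠ 0 := ne g σ hσ _ n1 _ e0
      have k5 : σ γ = γ := by
        rw [mul_comm] at k4
        exact mul_left_cancel₀ hs0 k4
      have k6 := hγ σ k5
      refine ⟨s0, hs0, fun i => ?_⟩
      obtain ⟨a, a', ha⟩ := Submodule.mem_span_pair.1 (hspan i)
      rw [← ha, hσ.1, hσ.2, hσ.2, e0, e1, k2, k6, k6, smul_add, smul_smul, smul_smul, smul_smul, smul_smul,
        mul_comm s0 a, mul_comm s0 a']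

/-! ### The base of a block -/

/-- no totally isotropic subspace of a block is invariant under the stabilizer of the block -/
theorem blk_TI {b : Cl K V} {G : Subgroup (Equiv.Perm V)} (hG : G ≤ Sim b) {U : ι → Submodule K V} (h : Blk b U)
    (hp : ∀ g ∈ G, ∃ π, Pm U g π) (hTI : ∀ U : Submodule K V, b.TI U → G ≤ StabS U → U = ⊥) {i : ι}
    {W : Submodule K V} (hWU : W ≤ U i) (hW : b.TI W) (hGW : G ⊓ StabS (U i) ≤ StabS W) : W = ⊥ := by
  classical
  set S : Set V := {x | ∃ g ∈ G, ∃ w ∈ W, x = g w} with hS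
  have hWS : W ≤ Submodule.span K S := fun w hw => Submodule.subset_span ⟨1, one_mem _, w, hw, rfl⟩
  have hpair : ∀ x ∈ S, ∀ y ∈ S, b.B x y = 0 := by
    rintro _ ⟨g, hg, w, hw, rfl⟩ _ ⟨g', hg', w', hw', rfl⟩
    obtain ⟨π, hπ⟩ := hp g hg
    obtain ⟨π', hπ'⟩ := hp g' hg'
    by_cases he : π i = π' i
    · have h1 : g⁻¹ * g' ∈ G ⊓ StabS (U i) := by
        refine ⟨G.mul_mem (G.inv_mem hg) hg', fun v => ?_⟩
        have h2 := hπ i ((g⁻¹ * g') v)
        have e1 : g ((g⁻¹ * g') v) = g' v := by simp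
        rw [e1, he, hπ' i v] at h2
        exact h2.symm
      obtain ⟨σ, μ, hs⟩ := hG hg
      have h3 : g' w' = g ((g⁻¹ * g') w') := by simp
      rw [h3, hs.form, hW w hw _ ((hGW h1 w').2 hw'), map_zero, mul_zero]
    · exact h.ort _ _ he _ ((hπ i w).2 (hWU hw)) _ ((hπ' i w').2 (hWU hw'))
  have h1 : ∀ x ∈ Submodule.span K S, ∀ y ∈ S, b.B x y = 0 := by
    intro x hx y hy
    induction hx using Submodule.span_induction with
    | mem x hx => exact hpair x hx y hy
    | zero => exact zero_left b y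
    | add x x' _ _ h1 h2 => rw [b.add_left, h1, h2, add_zero]
    | smul a x _ h1 => rw [b.smul_left, h1, mul_zero]
  have hT : b.TI (Submodule.span K S) := by
    intro x hx y hy
    induction hy using Submodule.span_induction with
    | mem y hy => exact h1 x hx y hy
    | zero => exact zero_right b x
    | add y y' _ _ h1 h2 => rw [b.add_right, h1, h2, add_zero]
    | smul a y _ h1 => rw [b.smul_right, h1, mul_zero]
  have hinv : ∀ g ∈ G, ∀ x ∈ Submodule.span K S, g x ∈ Submodule.span K S := by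
    intro g hg x hx
    obtain ⟨σ, μ, hs⟩ := hG hg
    induction hx using Submodule.span_induction with
    | mem x hx =>
      obtain ⟨g', hg', w, hw, rfl⟩ := hx
      exact Submodule.subset_span ⟨g * g', mul_mem hg hg', w, hw, rfl⟩
    | zero => rw [hs.map_zero]; exact Submodule.zero_mem _
    | add x x' _ _ h1 h2 => rw [hs.add]; exact Submodule.add_mem _ h1 h2
    | smul a x _ h1 => rw [hs.smul]; exact Submodule.smul_mem _ _ h1
  have h2 := hTI _ hT (fun g hg x => ⟨fun hx => by
    have := hinv g⁻¹ (G.inv_mem hg) _ hx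
    have e1 : g⁻¹ (g x) = x := by simp
    rwa [e1] at this, hinv g hg x⟩)
  rw [eq_bot_iff, ← h2]
  exact hWS

/-- a base of size three for the stabilizer of a block -/
theorem blk_base [Finite V] {b : Cl K V} {G : Subgroup (Equiv.Perm V)} (hG : G ≤ Sim b)
    (hsol : Group.IsSolvable G) (hhm : ∀ a : Kˣ, hm K V a ∈ G) {U : ι → Submodule K V} (h : Blk b U)
    (hp : ∀ g ∈ G, ∃ π, Pm U g π) (hTI : ∀ U : Submodule K V, b.TI U → G ≤ StabS U → U = ⊥) (i : ι) :
    ∃ c : Fin 3 → V, (∀ j, c j ∈ U i) ∧ ∀ g ∈ G, g ∈ StabS (U i) → (∀ j, g (c j) = c j) → ∀ w ∈ U i, g w = w := by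
  have hs : Group.IsSolvable ↥(G ⊓ StabS (U i)) :=
    Group.isSolvable_of_isSolvable_injective (f := inclusion (inf_le_left : G ⊓ StabS (U i) ≤ G))
      (inclusion_injective inf_le_left)
  obtain ⟨c, hc, hcb⟩ := base3 (G := G ⊓ StabS (U i)) (inf_le_left.trans hG) hs
    (fun a => ⟨hhm a, hm_mem_StabS _ _⟩) inf_le_right (fun W hW hT hS => blk_TI hG h hp hTI hW hT hS)
  exact ⟨c, hc, fun g hg hgU => hcb g ⟨hg, hgU⟩⟩

/-! ### Assembly -/

theorem exists_ind [Module.Finite K V] {A : Submodule K V} (h2 : 2 ≤ Module.finrank K A) :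
    ∃ x ∈ A, ∃ y ∈ A, Ind K x y := by
  obtain ⟨p₁, p₂, h1, h3, h4, -⟩ := exists_plane (K := K) h2 (c := fun _ => 0) (fun _ => A.zero_mem) (fun h => h.ne_zero 0 rfl)
  exact ⟨p₁, h1, p₂, h3, h4⟩

theorem pr_ne (t : Fin 6) : (pr t).1 ≠ (pr t).2 := by
  revert t
  decide

theorem exists_pr {i j : Fin 4} (h : i ≠ j) : ∃ t, (pr t = (i, j)) ∨ (pr t = (j, i)) := by
  revert h
  revert i j
  decide

/-- **C2 for unitary groups, blocks of dimension `≥ 2`, semilinear language** -/
theorem core2U [Finite K] [Module.Finite K V] {b : Cl K V} (hb : b.IsU) {G : Subgroup (Equiv.Perm V)}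
    (hG : G ≤ Sim b) (hsol : Group.IsSolvable G) (hhm : ∀ a : Kˣ, hm K V a ∈ G)
    (hTI : ∀ U : Submodule K V, b.TI U → G ≤ StabS U → U = ⊥) [Fintype ι] [Nontrivial ι] {U : ι → Submodule K V}
    (hU : Sys b G U) (h2 : ∀ i, 2 ≤ Module.finrank K (U i)) (col : ι → Fin 5)
    (hcol : ∀ g ∈ G, ∀ π, Pm U g π → (∀ i, col (π i) = col i) → π = 1) : FiveBV b G := by
  classical
  have hfin : Finite V := Module.finite_of_finite K
  obtain ⟨i₀, l₀, hil⟩ := exists_pair_ne ι
  have hND : ∀ i, b.ND (U i) := fun i v hv hv' => hU.blk.nondeg hv hv'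
  have hne : ∀ i, U i ≠ ⊥ := hU.ne
  choose c hc hcb using fun i => blk_base hG hsol hhm hU.blk hU.pm hTI i
  -- the three kinds of quadruples
  obtain ⟨m₀, hm₀⟩ := exists_base_ne (G := G ⊓ StabS (U i₀)) hb (fun a => ⟨hhm a, hm_mem_StabS _ _⟩) (hne i₀)
    (c := c i₀) (fun g hg => hcb i₀ g hg.1 hg.2)
  obtain ⟨u, hu, hus, hui⟩ := exists_four' hb (hND i₀) (h2 i₀) (c i₀) (hc i₀) hm₀
  obtain ⟨v, hv, hvd, hvp, hvr⟩ := exists_rigid' (K := K) ⟨b.τ, hb.1⟩ (h2 l₀) (hc l₀)
  choose q hq hqt hqs using fun i => quad_type (exists_ind (h2 i)) (hc i) (col i).castSucc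
  let W : ι → Fin 4 → V := fun i j => if i = i₀ then u j else if i = l₀ then v j else q i j
  have hW0 : ∀ j, W i₀ j = u j := fun j => if_pos rfl
  have hW1 : ∀ j, W l₀ j = v j := fun j => by
    show (if l₀ = i₀ then u j else if l₀ = l₀ then v j else q l₀ j) = v j
    rw [if_neg (Ne.symm hil), if_pos rfl]
  have hW2 : ∀ i, i ≠ i₀ → i ≠ l₀ → ∀ j, W i j = q i j := fun i h h' j => by
    show (if i = i₀ then u j else if i = l₀ then v j else q i j) = q i j
    rw [if_neg h, if_neg h']
  have hWU : ∀ i j, W i j ∈ U i ∧ W i j ≠ 0 := by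
    intro i j
    by_cases h : i = i₀
    · subst h
      rw [hW0]
      exact ⟨(hu j).1, (hu j).2.2⟩
    · by_cases h' : i = l₀
      · subst h'
        rw [hW1]
        exact hv j
      · rw [hW2 i h h']
        exact hq i j
  have horth : ∀ j, b.B (W i₀ j) (∑ l ∈ Finset.univ.erase i₀, W l j) = 0 := by
    intro j
    rw [B_sum_right]
    exact Finset.sum_eq_zero fun l hl => hU.blk.ort i₀ l (Ne.symm (Finset.ne_of_mem_erase hl)) _ (hWU i₀ j).1 _
      (hWU l j).1
  have hiso : ∀ j, b.B (W i₀ j) (W i₀ j) = 0 := by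
    intro j
    rw [hW0]
    exact (hu j).2.1
  choose E ρ hE1 hE2 hE3 using fun j => exists_eich hb (hiso j) (horth j)
  refine ⟨E, hE1, hE2, fun g hg hx => ?_⟩
  obtain ⟨σ, μ, hs⟩ := hG hg
  obtain ⟨π, hπ⟩ := hU.pm g hg
  have hfix : ∀ j, ∃ C : ι → K, (∀ i, g (W i j) = C i • W (π i) j) ∧ ((∃ n, n ≠ i₀ ∧ n ≠ π i₀) → π i₀ = i₀) ∧
      (π i₀ = i₀ → ∀ l, l ≠ i₀ → b.τ (C l) * C i₀ = μ) := by
    intro j
    obtain ⟨σ', μ', hs'⟩ := hG (hx j)
    obtain ⟨π', hπ'⟩ := hU.pm _ (hx j)
    exact blk_fix hU.blk hs hs' hπ hπ' (w := fun i => W i j) (fun i => (hWU i j).1) (fun i => (hWU i j).2) (hiso j)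
      (hE3 j) fun x => by simp
  choose C hC1 hC2 hC3 using hfix
  have hC0 : ∀ j i, C j i ≠ 0 := by
    intro j i h0
    apply (hWU i j).2
    apply g.injective
    rw [hC1, h0, zero_smul, hs.map_zero]
  -- `π i₀ = i₀`
  have hπ0 : π i₀ = i₀ := by
    by_contra hcon
    have h1 : ¬ ∃ n, n ≠ i₀ ∧ n ≠ π i₀ := fun h => hcon (hC2 0 h)
    push Not at h1
    have h3 : π i₀ = l₀ := (h1 l₀ (Ne.symm hil)).symm
    have h4 : ∀ j, g (u j) = C j i₀ • v j := by
      intro j
      have := hC1 j i₀
      rwa [hW0, h3, hW1] at this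
    rcases hui with hli | ⟨a, a', haa, hua⟩
    · apply hvd
      rw [Fintype.linearIndependent_iff]
      intro t ht j
      have h5 : ∑ j, σ.symm (t j * (C j i₀)⁻¹) • u j = 0 := by
        apply g.injective
        rw [hs.map_sum, hs.map_zero, ← ht]
        refine Finset.sum_congr rfl fun j _ => ?_
        rw [hs.smul, RingEquiv.apply_symm_apply, h4, smul_smul, mul_assoc, inv_mul_cancel₀ (hC0 j i₀), mul_one]
      have h6 := Fintype.linearIndependent_iff.1 hli _ h5 j
      have h7 : t j * (C j i₀)⁻¹ = 0 := by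
        have := congrArg σ h6
        rwa [RingEquiv.apply_symm_apply, map_zero] at this
      exact (mul_eq_zero.1 h7).resolve_right (inv_ne_zero (hC0 j i₀))
    · refine hvp a a' haa ((C a' i₀)⁻¹ * C a i₀) ?_
      have h5 := h4 a'
      rw [hua, h4 a] at h5
      rw [mul_smul, h5, smul_smul, inv_mul_cancel₀ (hC0 _ _), one_smul]
  -- `π l₀ = l₀`
  have hπne : ∀ i, i ≠ i₀ → π i ≠ i₀ := fun i hi h => hi (π.injective (h.trans hπ0.symm))
  have htyp : ∀ i t, typ K (W i) t ↔ typ K (W (π i)) t := fun i t =>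
    typ_congr (g := g) (σ := σ) hs.smul (c := fun j => C j i) (fun j => hC0 j i) (fun j => hC1 j i) t
  have hvt : ∀ t, ¬ typ K v t := by
    rintro t ⟨s, hs'⟩
    exact hvp _ _ (pr_ne t) s hs'
  have hW1' : W l₀ = v := funext hW1
  have hπ1 : π l₀ = l₀ := by
    by_contra hcon
    have h1 : W (π l₀) = q (π l₀) := funext (hW2 _ (hπne l₀ (Ne.symm hil)) hcon)
    have h3 := htyp l₀ (col (π l₀)).castSucc
    rw [hW1', h1] at h3
    exact hvt _ (h3.2 ((hqt (π l₀) _).2 rfl))
  have hπne' : ∀ i, i ≠ l₀ → π i ≠ l₀ := fun i hi h => hi (π.injective (h.trans hπ1.symm))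
  have hπ2 : π = 1 := by
    refine hcol g hg π hπ fun i => ?_
    by_cases h : i = i₀
    · rw [h, hπ0]
    · by_cases h' : i = l₀
      · rw [h', hπ1]
      · have h1 : W i = q i := funext (hW2 i h h')
        have h3 : W (π i) = q (π i) := funext (hW2 _ (hπne i h) (hπne' i h'))
        have h4 := (htyp i (col i).castSucc).1 (by rw [h1]; exact (hqt i _).2 rfl)
        rw [h3] at h4
        exact (Fin.castSucc_injective _ ((hqt (π i) _).1 h4)).symm
  -- the stabilizers of the blocks
  have hst : ∀ i, g ∈ StabS (U i) := by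
    intro i w
    have := hπ i w
    rw [hπ2] at this
    exact this
  have hC1' : ∀ j i, g (W i j) = C j i • W i j := by
    intro j i
    have := hC1 j i
    rw [hπ2] at this
    exact this
  obtain ⟨s, hs0, hsc⟩ := hvr g σ ⟨hs.add, hs.smul⟩ fun j => ⟨C j l₀, by
    have := hC1' j l₀
    rwa [hW1] at this⟩
  obtain ⟨s, rfl⟩ : ∃ s' : Kˣ, (s' : K) = s := ⟨Units.mk0 s hs0, rfl⟩
  -- from the base to the block
  have hblock : ∀ i, (∀ m, g (c i m) = (s : K) • c i m) → ∀ w ∈ U i, g w = (s : K) • w := by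
    intro i hi w hw
    have h3 := hcb i (hm K V s⁻¹ * g) (G.mul_mem (hhm _) hg) (Subgroup.mul_mem _ (hm_mem_StabS _ _) (hst i)) (fun m => by
      rw [Equiv.Perm.mul_apply, hm_apply, hi m, smul_smul, Units.inv_mul, one_smul]) w hw
    rw [Equiv.Perm.mul_apply, hm_apply] at h3
    have h4 : g w = (s : K) • (((s⁻¹ : Kˣ) : K) • g w) := by
      rw [smul_smul, Units.mul_inv, one_smul]
    rw [h4, h3]
  have hl0 := hblock l₀ hsc
  obtain ⟨hv0, hv0'⟩ := hv 0
  have hσ : ∀ a, σ a = a := by
    intro a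
    have h3 := hs.smul a (v 0)
    rw [hl0 _ ((U l₀).smul_mem a hv0), hl0 _ hv0, smul_smul, smul_smul] at h3
    have h4 : ((s : K) * a - σ a * s) • v 0 = 0 := by rw [sub_smul, h3, sub_self]
    have h5 := sub_eq_zero.1 ((smul_eq_zero.1 h4).resolve_right hv0')
    rw [mul_comm] at h5
    exact (mul_right_cancel₀ hs0 h5).symm
  have hμ : μ = s * b.τ s := by
    obtain ⟨y, hy, hy1⟩ := blk_exists_one hU.blk hv0 hv0'
    have h3 := hs.form y (v 0)
    rw [hl0 _ hy, hl0 _ hv0, b.smul_left, b.smul_right, hy1, map_one, mul_one, mul_one] at h3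
    exact h3.symm
  have hCl : ∀ j, C j l₀ = s := by
    intro j
    have h3 := hC1' j l₀
    rw [hW1, hl0 _ (hv j).1] at h3
    have h5 : ((s : K) - C j l₀) • v j = 0 := by rw [sub_smul, h3, sub_self]
    exact (sub_eq_zero.1 ((smul_eq_zero.1 h5).resolve_right (hv j).2)).symm
  have hτs : b.τ (s : K) ≠ 0 := (map_ne_zero b.τ).2 hs0
  have hCi : ∀ j, C j i₀ = s := by
    intro j
    have h3 := hC3 j hπ0 l₀ (Ne.symm hil)
    rw [hCl, hμ, mul_comm (s : K)] at h3
    exact mul_left_cancel₀ hτs h3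
  have hCall : ∀ j i, C j i = s := by
    intro j i
    by_cases h : i = i₀
    · rw [h, hCi]
    · have h3 := hC3 j hπ0 i h
      rw [hCi, hμ, mul_comm (s : K)] at h3
      exact b.τ.injective (mul_right_cancel₀ hs0 h3)
  have hspan : ∀ i, ∀ w ∈ Submodule.span K (Set.range (W i)), g w = (s : K) • w := by
    intro i w hw
    induction hw using Submodule.span_induction with
    | mem x hx => obtain ⟨j, rfl⟩ := hx; rw [hC1', hCall]
    | zero => rw [hs.map_zero, smul_zero]
    | add x y _ _ hx hy => rw [hs.add, hx, hy, smul_add]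
    | smul a x _ hx => rw [hs.smul, hx, hσ, smul_comm]
  have hall : ∀ i, ∀ w ∈ U i, g w = (s : K) • w := by
    intro i
    by_cases h : i = i₀
    · subst h
      refine hblock i fun m => hspan i _ ?_
      have : W i = u := funext hW0
      rw [this]
      exact hus m
    · by_cases h' : i = l₀
      · rw [h']; exact hl0
      · refine hblock i fun m => hspan i _ ?_
        have : W i = q i := funext (hW2 i h h')
        rw [this]
        exact hqs i m
  refine ⟨s, ?_⟩
  ext w
  rw [hm_apply]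
  have hw : w ∈ ⨆ i, U i := by rw [hU.blk.top]; trivial
  induction hw using Submodule.iSup_induction' with
  | mem i x hx => exact hall i x hx
  | zero => rw [hs.map_zero, smul_zero]
  | add x y _ _ hx hy => rw [hs.add, hx, hy, smul_add]

end blocks

end Cfsg.Agent.H499.FC
end

-- part: H499/FC/BC1U
section
/-!
# S5764, task 5382: `StmtBC1` for unitary forms (helper499)
-/

set_option autoImplicit false

namespace Cfsg.Agent.H499.FC

open Subgroup Cfsg Cfsg.Agent.H198.FC Cfsg.Agent.H412.FC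
open Cfsg.Agent.H786.FC (StmtBC1K)
open Cfsg.Agent.H200.FC (up up_solv)

universe u v

/-- **`StmtBC1` for unitary forms** -/
theorem stmtBC1U : StmtBC1K.{u, v} true := by
  intro K _ _ V _ _ _ b hk hbig S hS hsol hTI ⟨W, hW0, hW1, hND, hWS⟩
  have hb : b.IsU := hk.1 rfl
  have hn : 3 ≤ Module.finrank K V := by
    rcases hbig with h | h
    · exact h.2.1
    · exact absurd h.1 (H786.FC.not_isSp_of_isU hb)
  have : Finite V := Module.finite_of_finite K
  have : Nontrivial V := Module.nontrivial_of_finrank_pos (by omega : 0 < Module.finrank K V)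
  refine fiveB_of_up hS (fiveBV_C1U hb hn (up_le_Sim hS) (up_solv S hsol) (hm_mem_up S) ?_ hW0 hW1 hND
    (up_le_StabS hWS))
  intro U hU hUS
  exact hTI U hU (stb_of_up hS hUS)

end Cfsg.Agent.H499.FC
end

-- part: H499/FC/BC2U
section
/-!
# S5764, task 5385: `StmtBC2` for unitary forms, blocks of dimension `≥ 2` (helper499)
-/

set_option autoImplicit false

namespace Cfsg.Agent.H499.FC

open Subgroup Cfsg Cfsg.Agent.H198.FC Cfsg.Agent.H412.FC
open Cfsg.Agent.H57.FC (Blk Pm Sys exists_col)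
open Cfsg.Agent.H786.FC (StmtBC1K StmtBC2On)
open Cfsg.Agent.H200.FC (Ph Ph_apply' up mem_up up_le up_solv)

universe u v w

section

variable {K : Type u} [Field K] {V : Type v} [AddCommGroup V] [Module K V]

/-- **C2 in the semilinear language, blocks of dimension `≥ 2`** -/
theorem c2V_two [Finite K] [Module.Finite K V] {b : Cl K V} (hb : b.IsU) {G : Subgroup (Equiv.Perm V)}
    (hG : G ≤ Sim b) (hsol : Group.IsSolvable G) (hhm : ∀ a : Kˣ, hm K V a ∈ G)
    (hTI : ∀ U : Submodule K V, b.TI U → G ≤ StabS U → U = ⊥) {κ : Type} [Fintype κ] (hκ : 2 ≤ Fintype.card κ)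
    {W : κ → Submodule K V} (hS : Sys b G W) (h2 : ∀ i, 2 ≤ Module.finrank K (W i)) : FiveBV b G := by
  have hfin : Finite V := Module.finite_of_finite K
  obtain ⟨ι, _, _, U, col, hU, hWU, hcol⟩ := exists_col hG inferInstance hsol hκ hS
  refine core2U hb hG hsol hhm hTI hU (fun i => ?_) col hcol
  obtain ⟨j, hj⟩ := hWU i
  exact (h2 j).trans (Submodule.finrank_mono hj)

/-- a system of `S` gives a system of `up S` -/
theorem sys_of [Nontrivial V] {b : Cl K V} {S : Subgroup (Equiv.Perm (R K V))} {k : ℕ} {e : Fin k → R K V}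
    (he : CompleteOrthogonalIdempotents e) (hadj : ∀ i, b.Adj (e i) (e i)) (hne : ∀ i, LinearMap.range (e i) ≠ ⊥)
    (hp : ∀ f ∈ S, ∃ π : Equiv.Perm (Fin k), ∀ i, f (e i) = e (π i)) :
    Sys b (up S) (fun i => LinearMap.range (e i)) := by
  have hmem : ∀ i v, v ∈ LinearMap.range (e i) ↔ e i v = v := by
    intro i v
    constructor
    · rintro ⟨w, rfl⟩
      rw [← Module.End.mul_apply, (he.idem i).eq]
    · intro h
      exact ⟨v, h⟩
  refine ⟨⟨fun i j hij v hv w hw => ?_, ?_⟩, hne, fun g hg => ?_⟩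
  · obtain ⟨v', rfl⟩ := hv
    obtain ⟨w', rfl⟩ := hw
    rw [hadj i, ← Module.End.mul_apply, he.ortho hij, LinearMap.zero_apply]
    exact zero_right b v'
  · rw [eq_top_iff]
    intro v _
    have h1 : v = ∑ i, e i v := by
      have := LinearMap.congr_fun he.complete v
      rw [LinearMap.sum_apply] at this
      exact this.symm
    rw [h1]
    exact Submodule.sum_mem _ fun i _ => Submodule.mem_iSup_of_mem i ⟨v, rfl⟩
  · have hg' := up_le S hg
    rw [mem_up hg'] at hg
    obtain ⟨π, hπ⟩ := hp _ hg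
    refine ⟨π, fun i v => ?_⟩
    rw [hmem, hmem, ← hπ i]
    have h1 := Ph_apply' ⟨g, hg'⟩ (e i) v
    change Ph K V ⟨g, hg'⟩ (e i) (g v) = g (e i v) at h1
    rw [h1]
    exact g.injective.eq_iff

/-- **reduction of C2 to primitive systems of lines** -/
theorem c2U_red [Finite K] [Module.Finite K V] {b : Cl K V} (hb : b.IsU) (hn : 3 ≤ Module.finrank K V)
    {G : Subgroup (Equiv.Perm V)} (hG : G ≤ Sim b) (hsol : Group.IsSolvable G) (hhm : ∀ a : Kˣ, hm K V a ∈ G)
    (hTI : ∀ U : Submodule K V, b.TI U → G ≤ StabS U → U = ⊥) {κ : Type} [Fintype κ] (hκ : 2 ≤ Fintype.card κ)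
    {W : κ → Submodule K V} (hS : Sys b G W) :
    FiveBV b G ∨ ∃ (ι : Type) (_ : Fintype ι) (_ : Nontrivial ι) (U : ι → Submodule K V) (col : ι → Fin 5),
      Sys b G U ∧ (∀ i, Module.finrank K (U i) = 1) ∧ (∀ i j, ∃ g ∈ G, ∃ π, Pm U g π ∧ π i = j) ∧
      ∀ g ∈ G, ∀ π, Pm U g π → (∀ i, col (π i) = col i) → π = 1 := by
  classical
  have hfin : Finite V := Module.finite_of_finite K
  by_cases hinv : ∃ W' : Submodule K V, W' ≠ ⊥ ∧ W' ≠ ⊤ ∧ b.ND W' ∧ G ≤ StabS W'
  · obtain ⟨W', h0, h1, h2, h3⟩ := hinv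
    exact Or.inl (fiveBV_C1U hb hn hG hsol hhm hTI h0 h1 h2 h3)
  obtain ⟨ι, _, hnt, U, col, hU, -, hcol⟩ := exists_col hG inferInstance hsol hκ hS
  -- transitivity
  have htr : ∀ i j, ∃ g ∈ G, ∃ π, Pm U g π ∧ π i = j := by
    intro i
    by_contra hcon
    push Not at hcon
    obtain ⟨j, hj⟩ := hcon
    apply hinv
    let O : Set ι := {l | ∃ g ∈ G, ∃ π, Pm U g π ∧ π i = l}
    have hjO : j ∉ O := by
      rintro ⟨g, hg, π, hπ, h⟩
      exact hj g hg π hπ h
    have hiO : i ∈ O := ⟨1, G.one_mem, 1, H57.FC.Pm.one U, rfl⟩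
    let W' : Submodule K V := ⨆ l : O, U l
    have hW'j : ∀ x ∈ W', ∀ y ∈ U j, b.B x y = 0 := by
      intro x hx y hy
      change x ∈ ⨆ l : O, U l at hx
      induction hx using Submodule.iSup_induction' with
      | mem l x hx => exact hU.blk.ort l j (fun h => hjO (h ▸ l.2)) x hx y hy
      | zero => exact zero_left b y
      | add x x' _ _ h1 h2 => rw [b.add_left, h1, h2, add_zero]
    have hle : ∀ l : ι, l ∈ O → U l ≤ W' := fun l hl => le_iSup (fun l : O => U l) ⟨l, hl⟩
    refine ⟨W', fun h => hU.ne i ?_, fun h => hU.ne j ?_, ?_, ?_⟩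
    · rw [eq_bot_iff, ← h]
      exact hle i hiO
    · rw [eq_bot_iff]
      intro y hy
      refine hU.blk.nondeg hy fun z hz => ?_
      exact hW'j y (by rw [h]; trivial) z hz
    · intro x hx hx'
      refine b.nondeg x fun y => ?_
      have hy : y ∈ ⨆ i, U i := by rw [hU.blk.top]; trivial
      induction hy using Submodule.iSup_induction' with
      | mem l y hy =>
        by_cases hl : l ∈ O
        · exact hx' y (hle l hl hy)
        · change x ∈ ⨆ l : O, U l at hx
          clear hx'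
          induction hx using Submodule.iSup_induction' with
          | mem m x hx => exact hU.blk.ort m l (fun h => hl (h ▸ m.2)) x hx y hy
          | zero => exact zero_left b y
          | add x x' _ _ h1 h2 => rw [b.add_left, h1, h2, add_zero]
      | zero => exact zero_right b x
      | add y y' _ _ h1 h2 => rw [b.add_right, h1, h2, add_zero]
    · intro g hg
      refine mem_StabS_of_le fun x hx => ?_
      obtain ⟨σ, μ, hs⟩ := hG hg
      obtain ⟨π, hπ⟩ := hU.pm g hg
      change x ∈ ⨆ l : O, U l at hx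
      induction hx using Submodule.iSup_induction' with
      | mem l x hx =>
        obtain ⟨l, g', hg', π', hπ', hl⟩ := l
        refine hle (π l) ⟨g * g', G.mul_mem hg hg', π * π', hπ.mul hπ', ?_⟩ ((hπ l x).2 hx)
        rw [Equiv.Perm.mul_apply, hl]
      | zero => rw [hs.map_zero]; exact Submodule.zero_mem _
      | add x x' _ _ h1 h2 => rw [hs.add]; exact Submodule.add_mem _ h1 h2
  -- equal dimensions
  have hdim : ∀ i j, Module.finrank K (U i) = Module.finrank K (U j) := by
    intro i j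
    obtain ⟨g, hg, π, hπ, rfl⟩ := htr i j
    have h1 : Nat.card (U i) = Nat.card (U (π i)) := by
      refine Nat.card_congr ⟨fun x => ⟨g x, (hπ i x).2 x.2⟩, fun x => ⟨g⁻¹ x, ?_⟩, fun x => ?_, fun x => ?_⟩
      · have := (hπ i (g⁻¹ x)).1 (by
          have e1 : g (g⁻¹ (x : V)) = x := by simp
          rw [e1]
          exact x.2)
        exact this
      · apply Subtype.ext
        simp
      · apply Subtype.ext
        simp
    have h2 := Module.natCard_eq_pow_finrank (K := K) (V := U i)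
    have h3 := Module.natCard_eq_pow_finrank (K := K) (V := U (π i))
    rw [h2, h3] at h1
    exact Nat.pow_right_injective (Finite.one_lt_card (α := K)) h1
  obtain ⟨i₀, -⟩ := exists_pair_ne ι
  by_cases h2 : 2 ≤ Module.finrank K (U i₀)
  · left
    exact core2U hb hG hsol hhm hTI hU (fun i => by rw [hdim i i₀]; exact h2) col hcol
  · right
    refine ⟨ι, inferInstance, hnt, U, col, hU, fun i => ?_, htr, hcol⟩
    have h3 : Module.finrank K (U i) ≠ 0 := fun h => hU.ne i (Submodule.finrank_eq_zero.1 h)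
    have h4 := hdim i i₀
    omega

end

/-- **`StmtBC2` for unitary forms, blocks of dimension `≥ 2`** -/
theorem stmtBC2U2 (hP : StmtBPar.{u, v}) : StmtBC2On.{u, v} true (fun d => 2 ≤ d) := by
  intro K _ _ V _ _ _ b hk hbig S hS hsol k d e hd2 hk2 hd he hadj hr hp
  by_cases hTI : ∀ W : Submodule K V, b.TI W → (∀ f ∈ S, Stb f W) → W = ⊥
  · have hfin : Finite V := Module.finite_of_finite K
    have hne : ∀ i, LinearMap.range (e i) ≠ ⊥ := by
      intro i h0
      have := hr i
      rw [h0, finrank_bot] at this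
      omega
    have hnt : Nontrivial V := by
      obtain ⟨v, hv, hv0⟩ := Submodule.exists_mem_ne_zero_of_ne_bot (hne ⟨0, by omega⟩)
      exact ⟨⟨v, 0, hv0⟩⟩
    refine fiveB_of_up hS (c2V_two (hk.1 rfl) (up_le_Sim hS) (up_solv S hsol) (hm_mem_up S) (fun W' hW' hg => ?_)
      (κ := Fin k) (by rw [Fintype.card_fin]; exact hk2) (sys_of he hadj hne hp) fun i => by rw [hr]; exact hd2)
    exact hTI W' hW' (stb_of_up hS hg)
  · push Not at hTI
    obtain ⟨W, h1, h2, h3⟩ := hTI
    exact hP K V b hbig S hS hsol ⟨W, h3, h1, h2⟩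

end Cfsg.Agent.H499.FC
end
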