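import Cfsg.Agent.H716.FC.Sc
set_option linter.all false

-- part: H716/FC/Lag
section
/-!
# S5764, L-C6x: a maximal commutative group of lifts, separating vector (helper716)
-/

set_option autoImplicit false

namespace Cfsg.Agent.H716.FC
open Cfsg.Agent.H198.FC Module

universe u v

variable {K : Type u} [Field K] {V : Type v} [AddCommGroup V] [Module K V]

/-- the units inducing elements of `A` -/
def Lf (A : Subgroup (Equiv.Perm (R K V))) : Subgroup (R K V)ˣ := A.comap (cj K V)

theorem mem_Lf {A : Subgroup (Equiv.Perm (R K V))} {u : (R K V)ˣ} : u ∈ Lf A ↔ cj K V u ∈ A := Iff.rfl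

/-- what is used of `C6Data` -/
structure Dat (A : Subgroup (Equiv.Perm (R K V))) (r a : ℕ) : Prop where
  pr : r.Prime
  ha : 1 ≤ a
  hn : finrank K V = r ^ a
  hIN : A ≤ IN K V
  hcard : Nat.card A = r ^ (2 * a)
  hpow : ∀ f ∈ A, f ^ r = 1
  hcomm : ∀ f ∈ A, ∀ g ∈ A, f * g = g * f
  hspan : Submodule.span K {X : R K V | ∃ x : (R K V)ˣ, (x : R K V) = X ∧ cj K V x ∈ A} = ⊤

theorem Dat.of {S A : Subgroup (Equiv.Perm (R K V))} {r a : ℕ} (h : C6Data S A r a) : Dat A r a := by
  obtain ⟨h1, h2, h3, -, h5, h6, h7, h8, h9, -⟩ := h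
  exact ⟨h1, h2, h3, h5, h6, h7, h8, h9⟩

namespace Dat

variable {A : Subgroup (Equiv.Perm (R K V))} {r a : ℕ}

theorem one_lt (h : Dat A r a) : 1 < finrank K V := by
  rw [h.hn]
  exact Nat.one_lt_pow (by have := h.ha; omega) h.pr.one_lt

theorem nontriv (h : Dat A r a) [Module.Finite K V] : Nontrivial V := by
  rw [← Module.finrank_pos_iff (R := K)]
  have := h.one_lt
  omega

/-- commutators are scalars -/
theorem comm (h : Dat A r a) {u v : (R K V)ˣ} (hu : u ∈ Lf A) (hv : v ∈ Lf A) :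
    ∃ ε : K, (u : R K V) * v = ε • ((v : R K V) * u) :=
  comm_sc (h.hcomm _ hu _ hv)

theorem pow_sc (h : Dat A r a) {u : (R K V)ˣ} (hu : u ∈ Lf A) : ∃ s : K, (u : R K V) ^ r = s • (1 : R K V) := by
  have h1 : cj K V (u ^ r) = 1 := by rw [map_pow]; exact h.hpow _ hu
  obtain ⟨s, hs⟩ := cj_eq_one h1
  exact ⟨s, by rw [← hs]; simp⟩

/-- the centre -/
theorem sc_of_comm' (h : Dat A r a) {X : R K V} (hX : ∀ u ∈ Lf A, X * u = u * X) : ∃ s : K, X = s • (1 : R K V) := by
  apply sc_of_comm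
  intro Y
  have hY : Y ∈ Submodule.span K {X : R K V | ∃ x : (R K V)ˣ, (x : R K V) = X ∧ cj K V x ∈ A} := by
    rw [h.hspan]; trivial
  induction hY using Submodule.span_induction with
  | mem Z hZ =>
    obtain ⟨x, rfl, hx⟩ := hZ
    exact hX x hx
  | zero => simp
  | add Y Z _ _ hY hZ => rw [mul_add, add_mul, hY, hZ]
  | smul s Y _ hY => rw [mul_smul_comm, smul_mul_assoc, hY]

theorem eps_pow [Module.Finite K V] (h : Dat A r a) {g v : (R K V)ˣ} (hv : v ∈ Lf A) {ε : K}
    (hε : (v : R K V) * g = ε • ((g : R K V) * v)) : ε ^ r = 1 := by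
  haveI := h.nontriv
  have h1 : ∀ k : ℕ, (v : R K V) ^ k * g = ε ^ k • ((g : R K V) * (v : R K V) ^ k) := by
    intro k
    induction k with
    | zero => simp
    | succ k ih =>
      rw [pow_succ', mul_assoc, ih, mul_smul_comm, ← mul_assoc, hε, smul_mul_assoc, smul_smul, mul_assoc,
        ← pow_succ', ← pow_succ]
  obtain ⟨s, hs⟩ := h.pow_sc hv
  have h2 := h1 r
  rw [hs] at h2
  have hs0 : s ≠ 0 := by
    rintro rfl
    rw [zero_smul] at hs
    exact (v ^ r).ne_zero (by simpa using hs)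
  have h3 : (1 : K) • (g : R K V) = ε ^ r • (g : R K V) := by
    have h4 := congrArg (fun X => s⁻¹ • X) h2
    simp only [smul_mul_assoc, one_mul, mul_smul_comm, mul_one] at h4
    rw [smul_smul, inv_mul_cancel₀ hs0, smul_comm, smul_smul s⁻¹, inv_mul_cancel₀ hs0, one_smul] at h4
    rw [one_smul]
    exact h4
  exact (smul_inj_unit h3).symm

/-- a non-scalar unit normalized up to scalars is moved -/
theorem exists_eps (h : Dat A r a) {X : R K V} (hX : ¬ ∃ s : K, X = s • (1 : R K V))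
    (hc : ∀ v ∈ Lf A, ∃ ε : K, (v : R K V) * X = ε • (X * v)) :
    ∃ v ∈ Lf A, ∃ ε : K, (v : R K V) * X = ε • (X * v) ∧ ε ≠ 1 := by
  by_contra hcon
  push Not at hcon
  apply hX
  apply h.sc_of_comm'
  intro u hu
  obtain ⟨ε, hε⟩ := hc u hu
  have := hcon u hu ε hε
  rw [this, one_smul] at hε
  exact hε.symm

theorem exists_nonsc [Module.Finite K V] (h : Dat A r a) : ∃ u ∈ Lf A, ¬ ∃ s : K, (u : R K V) = s • (1 : R K V) := by
  by_contra hcon
  push Not at hcon
  have h1 : A = ⊥ := by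
    rw [eq_bot_iff]
    intro f hf
    obtain ⟨x, rfl⟩ := h.hIN hf
    obtain ⟨s, hs⟩ := hcon x hf
    exact cj_eq_one' hs
  have h2 := h.hcard
  rw [h1, Subgroup.card_bot] at h2
  have h3 : 1 < r ^ (2 * a) := Nat.one_lt_pow (by have := h.ha; omega) h.pr.one_lt
  omega

theorem r_ne_zero [Module.Finite K V] (h : Dat A r a) : (r : K) ≠ 0 := by
  intro hr
  obtain ⟨u, hu, hns⟩ := h.exists_nonsc
  obtain ⟨v, hv, ε, hε, hε1⟩ := h.exists_eps hns fun v hv => h.comm hv hu
  have h1 := h.eps_pow hv hε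
  haveI : Fact r.Prime := ⟨h.pr⟩
  haveI : CharP K r := by
    obtain ⟨c, hc⟩ := CharP.exists K
    have h2 : c ∣ r := (CharP.cast_eq_zero_iff K c r).1 hr
    rcases (Nat.dvd_prime h.pr).1 h2 with h3 | h3
    · exfalso
      subst h3
      exact CharP.char_ne_one K 1 rfl
    · rwa [h3] at hc
  apply hε1
  have h2 : (ε - 1) ^ r = 0 := by rw [sub_pow_char, h1]; simp
  exact sub_eq_zero.1 (pow_eq_zero_iff h.pr.ne_zero |>.1 h2)

theorem n_ne_zero [Module.Finite K V] (h : Dat A r a) : (finrank K V : K) ≠ 0 := by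
  rw [h.hn, Nat.cast_pow]
  exact pow_ne_zero _ h.r_ne_zero

theorem trace_zero [Module.Finite K V] (h : Dat A r a) {u : (R K V)ˣ} (hu : u ∈ Lf A)
    (hns : ¬ ∃ s : K, (u : R K V) = s • (1 : R K V)) : LinearMap.trace K V (u : R K V) = 0 := by
  obtain ⟨v, hv, ε, hε, hε1⟩ := h.exists_eps hns fun v hv => h.comm hv hu
  have h1 : LinearMap.trace K V ((v : R K V) * u * ((v⁻¹ : (R K V)ˣ) : R K V)) = LinearMap.trace K V (u : R K V) := by
    rw [LinearMap.trace_mul_comm]
    congr 1
    simp [← mul_assoc]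
  rw [hε] at h1
  have h2 : (ε • ((u : R K V) * v)) * ((v⁻¹ : (R K V)ˣ) : R K V) = ε • (u : R K V) := by
    simp [mul_assoc]
  rw [h2, map_smul, smul_eq_mul] at h1
  have h3 : (ε - 1) * LinearMap.trace K V (u : R K V) = 0 := by rw [sub_mul, h1]; ring
  rcases mul_eq_zero.1 h3 with h4 | h4
  · exact absurd (sub_eq_zero.1 h4) hε1
  · exact h4

end Dat

end Cfsg.Agent.H716.FC
end

-- part: H716/FC/LagB
section
/-!
# S5764, L-C6x: a maximal commutative group of lifts, separating vector (helper716)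
-/

set_option autoImplicit false

namespace Cfsg.Agent.H716.FC
open Cfsg.Agent.H198.FC Module

universe u v

variable {K : Type u} [Field K] {V : Type v} [AddCommGroup V] [Module K V]

theorem finite_R [Finite K] [Module.Finite K V] : Finite (R K V) := by
  haveI : Finite V := Module.finite_of_finite K
  exact Finite.of_injective (fun f : R K V => (f : V → V)) DFunLike.coe_injective

namespace Dat

variable {A : Subgroup (Equiv.Perm (R K V))} {r a : ℕ}

theorem exists_rep (h : Dat A r a) : ∃ y : A → (R K V)ˣ, ∀ α : A, cj K V (y α) = α := by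
  have h1 : ∀ α : A, ∃ x : (R K V)ˣ, cj K V x = α := fun α => h.hIN α.2
  choose y hy using h1
  exact ⟨y, hy⟩

section rep

variable [Module.Finite K V] [Fintype A] {y : A → (R K V)ˣ} (hy : ∀ α : A, cj K V (y α) = α)

include hy

theorem rep_mem (α : A) : y α ∈ Lf A := by
  rw [mem_Lf, hy]; exact α.2

open Classical in
theorem trace_rep (h : Dat A r a) (α β : A) :
    LinearMap.trace K V ((y β : R K V) * (((y α)⁻¹ : (R K V)ˣ) : R K V)) = if α = β then (finrank K V : K) else 0 := by
  split_ifs with hαβ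
  · subst hαβ
    simp
  · have h1 := h.trace_zero (u := y β * (y α)⁻¹) (mul_mem (rep_mem hy β) (inv_mem (rep_mem hy α))) ?_
    · simpa using h1
    · rintro ⟨s, hs⟩
      have h2 := cj_eq_one' hs
      rw [map_mul, map_inv, hy, hy, mul_inv_eq_one] at h2
      exact hαβ (Subtype.ext h2.symm)

theorem exists_rep_smul {x : (R K V)ˣ} (hx : x ∈ Lf A) : ∃ s : K, (x : R K V) = s • (y ⟨cj K V x, hx⟩ : R K V) := by
  apply cj_eq_of
  rw [hy]

theorem expand (h : Dat A r a) (X : R K V) :
    (finrank K V : K) • X =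
      ∑ α : A, LinearMap.trace K V (X * (((y α)⁻¹ : (R K V)ˣ) : R K V)) • (y α : R K V) := by
  classical
  have hX : X ∈ Submodule.span K {X : R K V | ∃ x : (R K V)ˣ, (x : R K V) = X ∧ cj K V x ∈ A} := by
    rw [h.hspan]; trivial
  induction hX using Submodule.span_induction with
  | mem Z hZ =>
    obtain ⟨x, rfl, hx⟩ := hZ
    obtain ⟨s, hs⟩ := exists_rep_smul hy (x := x) hx
    rw [hs]
    simp only [smul_mul_assoc, map_smul]
    rw [Finset.sum_eq_single (⟨cj K V x, hx⟩ : A)]
    · rw [h.trace_rep hy, if_pos rfl, smul_eq_mul, smul_smul, mul_comm]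
    · intro α _ hα
      rw [h.trace_rep hy, if_neg hα, smul_zero, zero_smul]
    · intro hα
      exact absurd (Finset.mem_univ _) hα
  | zero => simp
  | add Y Z _ _ hY hZ =>
    rw [smul_add, hY, hZ, ← Finset.sum_add_distrib]
    apply Finset.sum_congr rfl
    intro α _
    rw [add_mul, map_add, add_smul]
  | smul s Y _ hY =>
    rw [smul_comm, hY, Finset.smul_sum]
    apply Finset.sum_congr rfl
    intro α _
    rw [smul_mul_assoc, map_smul, smul_eq_mul, smul_smul]

/-- a functional with prescribed values on the representatives -/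
theorem exists_psi (h : Dat A r a) (c : A → K) : ∃ ψ : R K V →ₗ[K] K, ∀ β : A, ψ (y β) = c β := by
  classical
  refine ⟨(finrank K V : K)⁻¹ • ∑ α : A, c α • ((LinearMap.trace K V).comp
    (LinearMap.mulRight K (((y α)⁻¹ : (R K V)ˣ) : R K V))), fun β => ?_⟩
  rw [LinearMap.smul_apply, LinearMap.sum_apply]
  simp only [LinearMap.smul_apply, LinearMap.comp_apply, LinearMap.mulRight_apply]
  rw [Finset.sum_eq_single β]
  · rw [h.trace_rep hy, if_pos rfl, smul_eq_mul, smul_eq_mul]
    field_simp [h.n_ne_zero]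
  · intro α _ hα
    rw [h.trace_rep hy, if_neg hα, smul_zero]
  · intro hα
    exact absurd (Finset.mem_univ _) hα

end rep

/-- a maximal commutative group of lifts -/
theorem exists_max [Finite K] [Module.Finite K V] : ∃ M : Subgroup (R K V)ˣ, M ≤ Lf A ∧
    (∀ u ∈ M, ∀ v ∈ M, u * v = v * u) ∧ ∀ u ∈ Lf A, (∀ v ∈ M, u * v = v * u) → u ∈ M := by
  haveI : Finite (R K V) := finite_R
  obtain ⟨M, ⟨hM1, hM2⟩, hM3⟩ := Set.exists_max_image
    {M : Subgroup (R K V)ˣ | M ≤ Lf A ∧ ∀ u ∈ M, ∀ v ∈ M, u * v = v * u} (fun M => Nat.card M)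
    (Set.toFinite _) ⟨⊥, bot_le, by
      intro u hu v hv
      rw [Subgroup.mem_bot] at hu hv
      rw [hu, hv]⟩
  refine ⟨M, hM1, hM2, fun u hu huM => ?_⟩
  have h1 : ((M : Set (R K V)ˣ) ∪ {u}) ⊆ Subgroup.centralizer ((M : Set (R K V)ˣ) ∪ {u}) := by
    intro x hx
    rw [SetLike.mem_coe, Subgroup.mem_centralizer_iff]
    intro z hz
    rcases hx with hx | rfl <;> rcases hz with hz | rfl
    · exact hM2 z hz x hx
    · exact huM x hx
    · exact (huM z hz).symm
    · rfl
  have h2 : Subgroup.closure ((M : Set (R K V)ˣ) ∪ {u}) ≤ Subgroup.centralizer ((M : Set (R K V)ˣ) ∪ {u}) :=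
    (Subgroup.closure_le _).2 h1
  have h3 : Subgroup.closure ((M : Set (R K V)ˣ) ∪ {u}) ≤
      Subgroup.centralizer (Subgroup.closure ((M : Set (R K V)ˣ) ∪ {u}) : Set (R K V)ˣ) := by
    rw [Subgroup.closure_le]
    intro x hx
    rw [SetLike.mem_coe, Subgroup.mem_centralizer_iff]
    intro z hz
    exact (Subgroup.mem_centralizer_iff.1 (h2 hz) x hx).symm
  have h4 : M ≤ Subgroup.closure ((M : Set (R K V)ˣ) ∪ {u}) :=
    fun x hx => Subgroup.subset_closure (Or.inl hx)
  have h5 : Nat.card (Subgroup.closure ((M : Set (R K V)ˣ) ∪ {u})) ≤ Nat.card M := by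
    apply hM3
    refine ⟨?_, ?_⟩
    · rw [Subgroup.closure_le]
      rintro x (hx | rfl)
      · exact hM1 hx
      · exact hu
    · intro x hx z hz
      exact Subgroup.mem_centralizer_iff.1 (h3 hz) x hx
  have h6 := Subgroup.eq_of_le_of_card_ge h4 h5
  rw [h6]
  exact Subgroup.subset_closure (Or.inr rfl)

section maxi

variable {M : Subgroup (R K V)ˣ} (hM1 : M ≤ Lf A) (hM2 : ∀ u ∈ M, ∀ v ∈ M, u * v = v * u)
  (hM3 : ∀ u ∈ Lf A, (∀ v ∈ M, u * v = v * u) → u ∈ M)

/-- the centralizer of `M` in `R` -/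
def Ce (M : Subgroup (R K V)ˣ) : Subalgebra K (R K V) := Subalgebra.centralizer K {X | ∃ m ∈ M, (m : R K V) = X}

omit M in
theorem mem_Ce {M : Subgroup (R K V)ˣ} {X : R K V} : X ∈ Ce M ↔ ∀ m ∈ M, (m : R K V) * X = X * m := by
  unfold Ce
  rw [Subalgebra.mem_centralizer_iff]
  constructor
  · intro h m hm
    exact h m ⟨m, hm, rfl⟩
  · rintro h _ ⟨m, hm, rfl⟩
    exact h m hm

include hM1 hM3 in
theorem coef_zero [Module.Finite K V] (h : Dat A r a) {X : R K V} (hX : X ∈ Ce M) {u : (R K V)ˣ} (hu : u ∈ Lf A)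
    (huM : u ∉ M) : LinearMap.trace K V (X * ((u⁻¹ : (R K V)ˣ) : R K V)) = 0 := by
  have h1 : ∃ v ∈ M, u * v ≠ v * u := by
    by_contra hcon
    push Not at hcon
    exact huM (hM3 u hu hcon)
  obtain ⟨v, hv, huv⟩ := h1
  obtain ⟨ε, hε⟩ := h.comm (hM1 hv) hu
  have hε1 : ε ≠ 1 := by
    rintro rfl
    apply huv
    apply Units.ext
    rw [one_smul] at hε
    simpa using hε.symm
  have h2 : ((u⁻¹ : (R K V)ˣ) : R K V) * v = ε • ((v : R K V) * ((u⁻¹ : (R K V)ˣ) : R K V)) := by
    have h3 := congrArg (fun Z => ((u⁻¹ : (R K V)ˣ) : R K V) * Z * ((u⁻¹ : (R K V)ˣ) : R K V)) hε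
    simp only [mul_smul_comm, smul_mul_assoc, mul_assoc, Units.mul_inv, mul_one] at h3
    rw [h3]
    simp [← mul_assoc]
  have h3 : LinearMap.trace K V (X * ((u⁻¹ : (R K V)ˣ) : R K V)) =
      ε * LinearMap.trace K V (X * ((u⁻¹ : (R K V)ˣ) : R K V)) := by
    have h4 : X * ((u⁻¹ : (R K V)ˣ) : R K V) =
        ε • ((v : R K V) * (X * ((u⁻¹ : (R K V)ˣ) : R K V) * ((v⁻¹ : (R K V)ˣ) : R K V))) := by
      calc X * ((u⁻¹ : (R K V)ˣ) : R K V) =
          X * (((u⁻¹ : (R K V)ˣ) : R K V) * v) * ((v⁻¹ : (R K V)ˣ) : R K V) := by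
            simp [mul_assoc]
        _ = ε • (X * (v : R K V) * ((u⁻¹ : (R K V)ˣ) : R K V) * ((v⁻¹ : (R K V)ˣ) : R K V)) := by
            rw [h2, mul_smul_comm, smul_mul_assoc, ← mul_assoc X]
        _ = _ := by
            rw [← mem_Ce.1 hX v hv]
            simp only [mul_assoc]
    conv_lhs => rw [h4]
    rw [map_smul, smul_eq_mul, LinearMap.trace_mul_comm]
    congr 2
    simp [mul_assoc]
  have h4 : (ε - 1) * LinearMap.trace K V (X * ((u⁻¹ : (R K V)ˣ) : R K V)) = 0 := by
    rw [sub_mul, ← h3]; ring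
  rcases mul_eq_zero.1 h4 with h5 | h5
  · exact absurd (sub_eq_zero.1 h5) hε1
  · exact h5

include hM1 hM3 in
/-- elements commuting with `M` commute with the centralizer -/
theorem Ce_comm [Finite K] [Module.Finite K V] (h : Dat A r a) {X : R K V} (hX : X ∈ Ce M) {Z : R K V}
    (hZ : ∀ m ∈ M, (m : R K V) * Z = Z * m) : X * Z = Z * X := by
  classical
  haveI : Finite (R K V) := finite_R
  haveI : Fintype A := Fintype.ofFinite A
  obtain ⟨y, hy⟩ := h.exists_rep
  have h1 := h.expand hy X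
  have h2 : (finrank K V : K) • (X * Z) = (finrank K V : K) • (Z * X) := by
    rw [← smul_mul_assoc, ← mul_smul_comm, h1, Finset.sum_mul, Finset.mul_sum]
    apply Finset.sum_congr rfl
    intro α _
    rw [smul_mul_assoc, mul_smul_comm]
    by_cases hα : y α ∈ M
    · rw [hZ _ hα]
    · rw [h.coef_zero hM1 hM3 hX (rep_mem hy α) hα, zero_smul, zero_smul]
  exact smul_right_injective _ h.n_ne_zero h2

include hM1 hM3 in
theorem Ce_red [Finite K] [Module.Finite K V] (h : Dat A r a) {X : R K V} (hX : X ∈ Ce M) (hnil : IsNilpotent X) :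
    X = 0 := by
  classical
  haveI : Finite (R K V) := finite_R
  haveI : Fintype A := Fintype.ofFinite A
  obtain ⟨y, hy⟩ := h.exists_rep
  have h1 := h.expand hy X
  have h2 : (finrank K V : K) • X = 0 := by
    rw [h1]
    apply Finset.sum_eq_zero
    intro α _
    by_cases hα : y α ∈ M
    · have hc : Commute X (((y α)⁻¹ : (R K V)ˣ) : R K V) := by
        have h3 : Commute (y α : R K V) X := mem_Ce.1 hX _ hα
        exact (Commute.units_inv_left h3).symm
      have h4 : IsNilpotent (X * (((y α)⁻¹ : (R K V)ˣ) : R K V)) := hc.isNilpotent_mul_right hnil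
      rw [(LinearMap.isNilpotent_trace_of_isNilpotent h4).eq_zero, zero_smul]
    · rw [h.coef_zero hM1 hM3 hX (rep_mem hy α) hα, zero_smul]
  rcases smul_eq_zero.1 h2 with h3 | h3
  · exact absurd h3 h.n_ne_zero
  · exact h3

include hM1 hM2 hM3 in
/-- a separating vector -/
theorem exists_sep [Finite K] [Module.Finite K V] (h : Dat A r a) : ∃ w : V, ∀ X ∈ Ce M, X w = 0 → X = 0 := by
  haveI : Finite (R K V) := finite_R
  letI : CommRing (Ce M) := { (inferInstance : Ring (Ce M)) with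
    mul_comm := fun X Y => Subtype.ext (h.Ce_comm hM1 hM3 X.2 (mem_Ce.1 Y.2)) }
  haveI : IsReduced (Ce M) := ⟨fun X hX => Subtype.ext (h.Ce_red hM1 hM3 X.2 (by
    obtain ⟨k, hk⟩ := hX
    exact ⟨k, by
      have := congrArg (fun Z : Ce M => (Z : R K V)) hk
      simpa using this⟩))⟩
  haveI : IsSemisimpleRing (Ce M) := IsArtinianRing.isSemisimpleRing_of_isReduced _
  let N : V → Ideal (Ce M) := fun w =>
    { carrier := {b | (b : R K V) w = 0}
      add_mem' := by
        intro b c hb hc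
        change ((b : R K V) + (c : R K V)) w = 0
        rw [LinearMap.add_apply]
        rw [show (b : R K V) w = 0 from hb, show (c : R K V) w = 0 from hc, add_zero]
      zero_mem' := by
        change (0 : R K V) w = 0
        simp
      smul_mem' := by
        intro b c hc
        change ((b : R K V) * (c : R K V)) w = 0
        rw [Module.End.mul_apply, show (c : R K V) w = 0 from hc, map_zero] }
  have hN : ∀ (w : V) (b : Ce M), b ∈ N w ↔ (b : R K V) w = 0 := fun w b => Iff.rfl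
  obtain ⟨I, ⟨w, rfl⟩, hmin⟩ := IsArtinian.set_has_minimal (Set.range N) ⟨_, 0, rfl⟩
  refine ⟨w, fun X hX hw => ?_⟩
  obtain ⟨e, he, hIe⟩ := IsSemisimpleRing.ideal_eq_span_idempotent (N w)
  have hew : (e : R K V) w = 0 := by
    rw [← hN, hIe]
    exact Ideal.mem_span_singleton_self e
  have he' : (e : R K V) * e = e := by
    have := congrArg (fun Z : Ce M => (Z : R K V)) he
    simpa using this
  by_cases he0 : e = 0
  · have h1 : (⟨X, hX⟩ : Ce M) ∈ N w := hw
    rw [hIe, he0, Ideal.mem_span_singleton, zero_dvd_iff] at h1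
    exact congrArg (fun Z : Ce M => (Z : R K V)) h1
  · exfalso
    have h1 : ∃ v : V, (e : R K V) v ≠ 0 := by
      by_contra hcon
      push Not at hcon
      apply he0
      apply Subtype.ext
      apply LinearMap.ext
      intro v
      rw [hcon v]
      rfl
    obtain ⟨v, hv⟩ := h1
    have hee : ∀ x : V, (e : R K V) ((e : R K V) x) = (e : R K V) x := by
      intro x
      rw [← Module.End.mul_apply, he']
    apply hmin (N (w + (e : R K V) v)) ⟨_, rfl⟩
    refine lt_of_le_of_ne ?_ ?_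
    · intro b hb
      rw [hN] at hb ⊢
      rw [map_add] at hb
      have hbe : ∀ x : V, (e : R K V) ((b : R K V) x) = (b : R K V) ((e : R K V) x) := by
        intro x
        rw [← Module.End.mul_apply, ← Module.End.mul_apply, h.Ce_comm hM1 hM3 e.2 (mem_Ce.1 b.2)]
      have h2 := congrArg (fun x => (e : R K V) x) hb
      simp only [map_add, map_zero] at h2
      rw [hbe, hbe, hew, map_zero, zero_add, hee] at h2
      rw [h2, add_zero] at hb
      exact hb
    · intro h3
      have h4 : e ∈ N w := hew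
      rw [← h3, hN, map_add, hew, hee, zero_add] at h4
      exact hv h4

/-- functionals on the centralizer come from functionals on `V` -/
theorem exists_phi {w : V} (hw : ∀ X ∈ Ce M, X w = 0 → X = 0) (ψ : R K V →ₗ[K] K) :
    ∃ φ : Module.Dual K V, ∀ X ∈ Ce M, φ (X w) = ψ X := by
  let ev : (Ce M) →ₗ[K] V := (LinearMap.applyₗ w).comp (Subalgebra.toSubmodule (Ce M)).subtype
  have hev : ∀ X : Ce M, ev X = (X : R K V) w := fun X => rfl
  have hker : LinearMap.ker ev = ⊥ := by
    rw [LinearMap.ker_eq_bot']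
    intro X hX
    exact Subtype.ext (hw X X.2 hX)
  obtain ⟨g, hg⟩ := LinearMap.exists_leftInverse_of_injective ev hker
  refine ⟨(ψ.comp (Subalgebra.toSubmodule (Ce M)).subtype).comp g, fun X hX => ?_⟩
  have h1 : g (ev ⟨X, hX⟩) = ⟨X, hX⟩ := by
    have := congrArg (fun k : (Ce M) →ₗ[K] (Ce M) => k ⟨X, hX⟩) hg
    exact this
  rw [hev] at h1
  rw [LinearMap.comp_apply, LinearMap.comp_apply]
  rw [h1]
  rfl

end maxi

end Dat

end Cfsg.Agent.H716.FC
end

-- part: H716/FC/LagC
section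
/-!
# S5764, L-C6x: the order of the maximal commutative group, the rank one map `z` (helper716)
-/

set_option autoImplicit false

namespace Cfsg.Agent.H716.FC
open Cfsg.Agent.H198.FC Module

universe u v

variable {K : Type u} [Field K] {V : Type v} [AddCommGroup V] [Module K V]

namespace Dat

variable {A : Subgroup (Equiv.Perm (R K V))} {r a : ℕ}

theorem card_L [Finite K] [Module.Finite K V] (h : Dat A r a) {M : Subgroup (R K V)ˣ} (hM1 : M ≤ Lf A)
    (hM3 : ∀ u ∈ Lf A, (∀ v ∈ M, u * v = v * u) → u ∈ M) :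
    finrank K V ≤ Nat.card (M.map (cj K V)) := by
  classical
  haveI : Finite (R K V) := finite_R
  haveI : Nontrivial V := h.nontriv
  obtain ⟨y, hy⟩ := h.exists_rep
  have hyA : ∀ α : A, y α ∈ Lf A := fun α => by rw [mem_Lf, hy]; exact α.2
  set L := M.map (cj K V) with hL
  have hsc : ∀ (α : A) (l : L), ∃ ε : K, (l : Equiv.Perm (R K V)) (y α) = ε • (y α : R K V) := by
    rintro α ⟨_, ⟨m, hm, rfl⟩⟩
    obtain ⟨ε, hε⟩ := h.comm (hM1 hm) (hyA α)
    refine ⟨ε, ?_⟩
    change (m : R K V) * (y α) * ((m⁻¹ : (R K V)ˣ) : R K V) = _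
    rw [hε]
    simp [mul_assoc]
  choose e he using hsc
  have hpmul : ∀ (l : L) (s : K) (X : R K V), (l : Equiv.Perm (R K V)) (s • X) = s • (l : Equiv.Perm (R K V)) X := by
    rintro ⟨_, ⟨m, hm, rfl⟩⟩ s X
    change (m : R K V) * (s • X) * ((m⁻¹ : (R K V)ˣ) : R K V) = s • ((m : R K V) * X * ((m⁻¹ : (R K V)ˣ) : R K V))
    rw [mul_smul_comm, smul_mul_assoc]
  let χ : A → (L →* K) := fun α =>
    { toFun := e α
      map_one' := by
        apply smul_inj_unit (x := y α)
        rw [← he, one_smul]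
        rfl
      map_mul' := by
        intro l l'
        apply smul_inj_unit (x := y α)
        rw [← he]
        change (l : Equiv.Perm (R K V)) ((l' : Equiv.Perm (R K V)) (y α)) = _
        rw [he, hpmul, he, smul_smul, mul_comm] }
  have hχ : ∀ α β : A, χ α = χ β → (α : Equiv.Perm (R K V)) * (β : Equiv.Perm (R K V))⁻¹ ∈ L := by
    intro α β hαβ
    have h1 : y α * (y β)⁻¹ ∈ M := by
      apply hM3
      · exact mul_mem (hyA α) (inv_mem (hyA β))
      · intro m hm
        have h2 : e α ⟨cj K V m, ⟨m, hm, rfl⟩⟩ = e β ⟨cj K V m, ⟨m, hm, rfl⟩⟩ :=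
          congrArg (fun c : L →* K => c ⟨cj K V m, ⟨m, hm, rfl⟩⟩) hαβ
        have h3 := he α ⟨cj K V m, ⟨m, hm, rfl⟩⟩
        have h4 := he β ⟨cj K V m, ⟨m, hm, rfl⟩⟩
        rw [← h2] at h4
        set s := e α ⟨cj K V m, ⟨m, hm, rfl⟩⟩ with hs
        change (m : R K V) * (y α) * ((m⁻¹ : (R K V)ˣ) : R K V) = s • (y α : R K V) at h3
        change (m : R K V) * (y β) * ((m⁻¹ : (R K V)ˣ) : R K V) = s • (y β : R K V) at h4
        have hs0 : s ≠ 0 := by
          intro h0
          rw [h0, zero_smul] at h3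
          exact (m * y α * m⁻¹).ne_zero (by simpa using h3)
        have h5 : (m : R K V) * (y α) = s • ((y α : R K V) * m) := by
          have := congrArg (fun Z => Z * (m : R K V)) h3
          simpa [mul_assoc] using this
        have h6 : (m : R K V) * (y β) = s • ((y β : R K V) * m) := by
          have := congrArg (fun Z => Z * (m : R K V)) h4
          simpa [mul_assoc] using this
        have h7 : (((y β)⁻¹ : (R K V)ˣ) : R K V) * m = s • ((m : R K V) * (((y β)⁻¹ : (R K V)ˣ) : R K V)) := by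
          have h8 := congrArg (fun Z => (((y β)⁻¹ : (R K V)ˣ) : R K V) * Z * (((y β)⁻¹ : (R K V)ˣ) : R K V)) h6
          simp only [mul_smul_comm, smul_mul_assoc, mul_assoc, Units.mul_inv, mul_one] at h8
          rw [h8]
          simp [← mul_assoc]
        apply Units.ext
        change (y α : R K V) * (((y β)⁻¹ : (R K V)ˣ) : R K V) * m = m * ((y α : R K V) * (((y β)⁻¹ : (R K V)ˣ) : R K V))
        rw [mul_assoc, h7, mul_smul_comm, ← mul_assoc, ← mul_assoc, h5, smul_mul_assoc]
    have h2 : cj K V (y α * (y β)⁻¹) ∈ L := ⟨_, h1, rfl⟩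
    rw [map_mul, map_inv, hy, hy] at h2
    exact h2
  haveI : Fintype L := Fintype.ofFinite L
  haveI : Finite (L →* K) := DFunLike.finite _
  haveI : Fintype (L →* K) := Fintype.ofFinite _
  have hdim : Nat.card (L →* K) ≤ Nat.card L := by
    have h1 := (linearIndependent_monoidHom L K).fintype_card_le_finrank
    rw [Module.finrank_fintype_fun_eq_card] at h1
    rwa [Nat.card_eq_fintype_card, Nat.card_eq_fintype_card]
  -- section
  let g : (L →* K) → A := fun c => if hc : ∃ β : A, χ β = c then hc.choose else 1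
  have hg : ∀ α : A, χ (g (χ α)) = χ α := by
    intro α
    have hc : ∃ β : A, χ β = χ α := ⟨α, rfl⟩
    have h1 : g (χ α) = hc.choose := dif_pos hc
    rw [h1]
    exact hc.choose_spec
  let F : A → (L →* K) × L := fun α => (χ α, ⟨_, hχ α (g (χ α)) (hg α).symm⟩)
  have hF : Function.Injective F := by
    intro α β hαβ
    have h1 : χ α = χ β := congrArg Prod.fst hαβ
    have h2 : (α : Equiv.Perm (R K V)) * (g (χ α) : Equiv.Perm (R K V))⁻¹ =
        (β : Equiv.Perm (R K V)) * (g (χ β) : Equiv.Perm (R K V))⁻¹ :=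
      congrArg (fun p : (L →* K) × L => (p.2 : Equiv.Perm (R K V))) hαβ
    rw [h1] at h2
    exact Subtype.ext (mul_right_cancel h2)
  have h1 : Nat.card A ≤ Nat.card L * Nat.card L := by
    refine (Nat.card_le_card_of_injective F hF).trans ?_
    rw [Nat.card_prod]
    exact Nat.mul_le_mul_right _ hdim
  rw [h.hcard, two_mul, pow_add] at h1
  rw [h.hn]
  exact Nat.mul_self_le_mul_self_iff.1 h1

/-- two elements of `L` -/
theorem exists_pair {L : Type*} [Group L] [Finite L] (hL : 4 ≤ Nat.card L) :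
    ∃ α β : L, α ≠ 1 ∧ β ≠ 1 ∧ β ≠ α⁻¹ ∧ β ≠ α⁻¹ * α⁻¹ := by
  classical
  haveI : Fintype L := Fintype.ofFinite L
  rw [Nat.card_eq_fintype_card] at hL
  have h1 : ∃ α : L, α ≠ 1 := by
    haveI : Nontrivial L := Fintype.one_lt_card_iff_nontrivial.1 (by omega)
    exact exists_ne 1
  obtain ⟨α, hα⟩ := h1
  have h2 : ∃ β : L, β ∉ ({1, α⁻¹, α⁻¹ * α⁻¹} : Finset L) := by
    by_contra hcon
    push Not at hcon
    have h3 : (Finset.univ : Finset L) ⊆ {1, α⁻¹, α⁻¹ * α⁻¹} := fun x _ => hcon x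
    have h4 := Finset.card_le_card h3
    rw [Finset.card_univ] at h4
    have h5 : ({1, α⁻¹, α⁻¹ * α⁻¹} : Finset L).card ≤ 3 := Finset.card_le_three
    omega
  obtain ⟨β, hβ⟩ := h2
  simp only [Finset.mem_insert, Finset.mem_singleton, not_or] at hβ
  exact ⟨α, β, hα, hβ.1, hβ.2.1, hβ.2.2⟩

end Dat

end Cfsg.Agent.H716.FC
end

-- part: H716/FC/ExZ
section
/-!
# S5764, L-C6x: the rank one map `z` (helper716)
-/

set_option autoImplicit false

namespace Cfsg.Agent.H716.FC
open Cfsg.Agent.H198.FC Module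

universe u v

variable {K : Type u} [Field K] {V : Type v} [AddCommGroup V] [Module K V]

theorem zXz (w : V) (φ : Module.Dual K V) (X : R K V) :
    (φ.smulRight w : R K V) * X * (φ.smulRight w : R K V) = φ (X w) • (φ.smulRight w : R K V) := by
  apply LinearMap.ext
  intro v
  change φ (X (φ v • w)) • w = φ (X w) • φ v • w
  rw [map_smul, map_smul, smul_eq_mul, smul_smul, mul_comm]

namespace Dat

variable {A : Subgroup (Equiv.Perm (R K V))} {r a : ℕ}

/-- **the rank one nilpotent map moved by all automorphisms centralizing `A`** -/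
theorem exists_z [Finite K] [Module.Finite K V] (h : Dat A r a) (h4 : 4 ≤ finrank K V) :
    ∃ (w : V) (φ : Module.Dual K V), φ w = 0 ∧ (φ.smulRight w : R K V) ≠ 0 ∧
      (∀ f ∈ RA K V, (∀ g ∈ A, f * g = g * f) → (∀ X Y, f (X * Y) = f X * f Y) →
        f (φ.smulRight w) = φ.smulRight w → f = 1) ∧
      (∀ f ∈ RA K V, (∀ g ∈ A, f * g = g * f) → (∀ X Y, f (X * Y) = f Y * f X) →
        f (φ.smulRight w) = -φ.smulRight w → False) := by
  classical
  haveI : Finite (R K V) := finite_R
  haveI : Nontrivial V := h.nontriv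
  haveI : Fintype A := Fintype.ofFinite A
  obtain ⟨M, hM1, hM2, hM3⟩ := exists_max (A := A)
  obtain ⟨w, hw⟩ := h.exists_sep hM1 hM2 hM3
  obtain ⟨κ, hκ⟩ := IsCyclic.exists_generator (α := Kˣ)
  obtain ⟨y, hy⟩ := h.exists_rep
  have hyA : ∀ α : A, y α ∈ Lf A := fun α => rep_mem hy α
  -- the group `L`
  have hLA : M.map (cj K V) ≤ A := by
    rintro _ ⟨m, hm, rfl⟩
    exact hM1 hm
  have hLM : ∀ x ∈ Lf A, cj K V x ∈ M.map (cj K V) → x ∈ M := by
    rintro x hx ⟨m, hm, hmx⟩
    obtain ⟨s, hs⟩ := cj_eq_of hmx.symm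
    apply hM3 x hx
    intro v hv
    apply Units.ext
    change (x : R K V) * v = v * x
    have h1 : (m : R K V) * v = v * m := congrArg (fun z : (R K V)ˣ => (z : R K V)) (hM2 m hm v hv)
    rw [hs, smul_mul_assoc, h1, mul_smul_comm]
  obtain ⟨⟨α', hα'⟩, ⟨β', hβ'⟩, hα1, hβ1, hβα, hβαα⟩ :=
    exists_pair (L := M.map (cj K V)) (h4.trans (h.card_L hM1 hM3))
  set α : A := ⟨α', hLA hα'⟩ with hαdef
  set β : A := ⟨β', hLA hβ'⟩ with hβdef
  have hα1' : α ≠ 1 := fun hh => hα1 (Subtype.ext (congrArg (fun x : A => (x : Equiv.Perm (R K V))) hh))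
  have hβ1' : β ≠ 1 := fun hh => hβ1 (Subtype.ext (congrArg (fun x : A => (x : Equiv.Perm (R K V))) hh))
  have hβα' : β ≠ α⁻¹ := fun hh => hβα (Subtype.ext (congrArg (fun x : A => (x : Equiv.Perm (R K V))) hh))
  have hβαα' : β ≠ α⁻¹ * α⁻¹ := fun hh =>
    hβαα (Subtype.ext (congrArg (fun x : A => (x : Equiv.Perm (R K V))) hh))
  have hu : y α ∈ M := hLM _ (hyA α) (by rw [hy]; exact hα')
  have hv : y β ∈ M := hLM _ (hyA β) (by rw [hy]; exact hβ')
  obtain ⟨s, hs⟩ := exists_rep_smul hy (x := y α * y β) (mul_mem (hyA α) (hyA β))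
  have hαβ : (⟨cj K V (y α * y β), mul_mem (hyA α) (hyA β)⟩ : A) = α * β := by
    apply Subtype.ext
    change cj K V (y α * y β) = (α : Equiv.Perm (R K V)) * (β : Equiv.Perm (R K V))
    rw [map_mul, hy, hy]
  rw [hαβ] at hs
  have hs0 : s ≠ 0 := by
    rintro rfl
    rw [zero_smul] at hs
    exact (y α * y β).ne_zero hs
  -- the coefficients
  set c : A → K := fun δ => if δ = 1 then 0 else if δ = α * β then s⁻¹ * κ else
    if r ≠ 2 ∧ δ = α⁻¹ then 0 else 1 with hc
  obtain ⟨ψ, hψ⟩ := h.exists_psi hy c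
  obtain ⟨φ, hφ⟩ := exists_phi (M := M) hw ψ
  have hMC : ∀ m ∈ M, (m : R K V) ∈ Ce M := fun m hm => mem_Ce.2 fun m' hm' =>
    congrArg (fun z : (R K V)ˣ => (z : R K V)) (hM2 m' hm' m hm)
  have hφM : ∀ m ∈ M, φ ((m : R K V) w) = ψ m := fun m hm => hφ _ (hMC m hm)
  -- values of `c`
  have hαinv : r ≠ 2 → α ≠ α⁻¹ := by
    intro hr hh
    have h1 : α ^ 2 = 1 := by rw [sq]; nth_rewrite 2 [hh]; exact mul_inv_cancel α
    have h2 : α ^ r = 1 := Subtype.ext (h.hpow _ α.2)
    have h3 : orderOf α ∣ 2 := orderOf_dvd_of_pow_eq_one h1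
    have h4 : orderOf α ∣ r := orderOf_dvd_of_pow_eq_one h2
    have h5 : Nat.Coprime 2 r := (Nat.coprime_primes Nat.prime_two h.pr).2 (Ne.symm hr)
    have h6 : orderOf α ∣ 1 := by
      rw [← h5]
      exact Nat.dvd_gcd h3 h4
    exact hα1' (orderOf_eq_one_iff.1 (Nat.dvd_one.1 h6))
  have cα : c α = 1 := by
    simp only [hc]
    rw [if_neg hα1', if_neg, if_neg]
    · rintro ⟨h1, h2⟩
      exact hαinv h1 h2
    · intro h1
      exact hβ1' (left_eq_mul.1 h1)
  have cβ : c β = 1 := by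
    simp only [hc]
    rw [if_neg hβ1', if_neg, if_neg]
    · rintro ⟨h1, h2⟩
      exact hβα' h2
    · intro h1
      exact hα1' (right_eq_mul.1 h1)
  have cαβ : c (α * β) = s⁻¹ * κ := by
    change (if α * β = 1 then (0 : K) else if α * β = α * β then s⁻¹ * κ else
      if r ≠ 2 ∧ α * β = α⁻¹ then 0 else 1) = _
    rw [if_neg, if_pos rfl]
    intro h1
    exact hβα' (eq_inv_of_mul_eq_one_right h1)
  have c1 : c 1 = 0 := if_pos rfl
  have cinv : r ≠ 2 → c α⁻¹ = 0 := by
    intro hr
    change (if α⁻¹ = 1 then (0 : K) else if α⁻¹ = α * β then s⁻¹ * κ else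
      if r ≠ 2 ∧ α⁻¹ = α⁻¹ then 0 else 1) = _
    rw [if_neg, if_neg, if_pos ⟨hr, rfl⟩]
    · intro h1
      apply hβαα'
      calc β = α⁻¹ * (α * β) := by group
        _ = α⁻¹ * α⁻¹ := by rw [← h1]
    · intro h1
      exact hα1' (inv_eq_one.1 h1)
  have cne : ∀ δ : A, δ ≠ 1 → (r ≠ 2 → δ ≠ α⁻¹) → c δ ≠ 0 := by
    intro δ h1 h2
    simp only [hc]
    rw [if_neg h1]
    split_ifs with h3 h4
    · exact mul_ne_zero (inv_ne_zero hs0) κ.ne_zero
    · exact absurd h4.2 (h2 h4.1)
    · exact one_ne_zero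
  have tu : φ ((y α : R K V) w) = 1 := by rw [hφM _ hu, hψ, cα]
  have tv : φ ((y β : R K V) w) = 1 := by rw [hφM _ hv, hψ, cβ]
  have tuv : φ (((y α * y β : (R K V)ˣ) : R K V) w) = κ := by
    rw [hφM _ (mul_mem hu hv), hs, map_smul, hψ, cαβ, smul_eq_mul, ← mul_assoc, mul_inv_cancel₀ hs0, one_mul]
  have t1 : φ w = 0 := by
    have h1 := hφM 1 (one_mem _)
    obtain ⟨s', hs'⟩ := exists_rep_smul hy (x := 1) (one_mem (Lf A))
    have h2 : (⟨cj K V 1, one_mem (Lf A)⟩ : A) = 1 := Subtype.ext (map_one _)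
    rw [h2] at hs'
    rw [hs', map_smul, hψ, c1, smul_zero, ← hs'] at h1
    exact h1
  have hw0 : w ≠ 0 := by
    rintro rfl
    have := hw 1 (one_mem _) (by simp)
    exact one_ne_zero this
  have hz0 : (φ.smulRight w : R K V) ≠ 0 := by
    intro h0
    have h1 := congrArg (fun Z : R K V => Z ((y α : R K V) w)) h0
    change φ ((y α : R K V) w) • w = 0 at h1
    rw [tu, one_smul] at h1
    exact hw0 h1
  set z : R K V := φ.smulRight w with hz
  have hzinj : ∀ s t : K, s • z = t • z → s = t := by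
    intro s t hst
    have h1 : (s - t) • z = 0 := by rw [sub_smul, hst, sub_self]
    rcases smul_eq_zero.1 h1 with h2 | h2
    · exact sub_eq_zero.1 h2
    · exact absurd h2 hz0
  refine ⟨w, φ, t1, hz0, ?_, ?_⟩
  · -- ring automorphisms
    intro f hf hfA hmul hfz
    have hf1 := RA_one hf
    obtain ⟨σ, hσ⟩ := exists_sig hf
    have hlam : ∀ m ∈ M, ∀ l : K, f m = l • (m : R K V) → l * φ ((m : R K V) w) = σ (φ ((m : R K V) w)) := by
      intro m hm l hl
      apply hzinj
      have h1 : f (z * m * z) = f (φ ((m : R K V) w) • z) := by rw [hz, zXz]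
      rw [hmul, hmul, hσ, hfz, hl, mul_smul_comm, smul_mul_assoc] at h1
      rw [← h1, mul_smul, hz, zXz]
    have hcomm : ∀ m ∈ M, ∃ l : K, f m = l • (m : R K V) := fun m hm =>
      lam_pos hmul hf1 (hfA _ (hM1 hm))
    have hfu : f (y α) = y α := by
      obtain ⟨l, hl⟩ := hcomm _ hu
      have h1 := hlam _ hu l hl
      rw [tu, mul_one, map_one] at h1
      rw [hl, h1, one_smul]
    have hfv : f (y β) = y β := by
      obtain ⟨l, hl⟩ := hcomm _ hv
      have h1 := hlam _ hv l hl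
      rw [tv, mul_one, map_one] at h1
      rw [hl, h1, one_smul]
    have hfuv : f ((y α * y β : (R K V)ˣ) : R K V) = (1 : K) • ((y α * y β : (R K V)ˣ) : R K V) := by
      rw [one_smul, Units.val_mul, hmul, hfu, hfv]
    have hσκ : σ κ = κ := by
      have h1 := hlam _ (mul_mem hu hv) 1 hfuv
      rw [tuv, one_mul] at h1
      exact h1.symm
    have hid : ∀ x : K, σ x = x := sig_id hκ σ hσκ
    have hlin : ∀ (s : K) (X : R K V), f (s • X) = s • f X := fun s X => by rw [hσ, hid]
    -- `f` fixes `M`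
    have hfix0 : ∀ m ∈ M, φ ((m : R K V) w) ≠ 0 → f m = m := by
      intro m hm ht
      obtain ⟨l, hl⟩ := hcomm m hm
      have h1 := hlam m hm l hl
      rw [hid] at h1
      have h2 : l = 1 := by
        have : (l - 1) * φ ((m : R K V) w) = 0 := by rw [sub_mul, h1]; ring
        rcases mul_eq_zero.1 this with h3 | h3
        · exact sub_eq_zero.1 h3
        · exact absurd h3 ht
      rw [hl, h2, one_smul]
    have hval : ∀ (m : (R K V)ˣ) (hm : m ∈ M), c ⟨cj K V m, hM1 hm⟩ ≠ 0 → φ ((m : R K V) w) ≠ 0 := by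
      intro m hm h0
      obtain ⟨t, ht⟩ := exists_rep_smul hy (x := m) (hM1 hm)
      rw [hφM m hm, ht, map_smul, hψ, smul_eq_mul]
      apply mul_ne_zero _ h0
      rintro rfl
      rw [zero_smul] at ht
      exact m.ne_zero ht
    have hfix : ∀ m ∈ M, f m = m := by
      intro m hm
      by_cases h1 : cj K V m = 1
      · obtain ⟨t, ht⟩ := cj_eq_one h1
        rw [ht, hlin, hf1]
      by_cases h2 : r ≠ 2 ∧ cj K V m = (α⁻¹ : A)
      · have h3 : f ((m⁻¹ : (R K V)ˣ) : R K V) = ((m⁻¹ : (R K V)ˣ) : R K V) := by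
          apply hfix0 _ (inv_mem hm)
          apply hval _ (inv_mem hm)
          have h4 : (⟨cj K V m⁻¹, hM1 (inv_mem hm)⟩ : A) = α := by
            apply Subtype.ext
            change cj K V m⁻¹ = _
            rw [map_inv, h2.2]
            simp
          rw [h4, cα]
          exact one_ne_zero
        have h5 : f m * f ((m⁻¹ : (R K V)ˣ) : R K V) = 1 := by
          rw [← hmul]; simpa using hf1
        rw [h3] at h5
        have h6 := congrArg (fun Z => Z * (m : R K V)) h5
        simpa [mul_assoc] using h6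
      · apply hfix0 m hm
        apply hval m hm
        apply cne
        · intro h3
          exact h1 (congrArg (fun x : A => (x : Equiv.Perm (R K V))) h3)
        · intro h3 h4
          exact h2 ⟨h3, congrArg (fun x : A => (x : Equiv.Perm (R K V))) h4⟩
    -- `f` is a conjugation
    let F : R K V ≃ₐ[K] R K V :=
      { f with
        map_mul' := hmul
        map_add' := hf.1
        commutes' := by
          intro s
          change f (algebraMap K _ s) = algebraMap K _ s
          rw [Algebra.algebraMap_eq_smul_one, hlin, hf1] }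
    have hF : ∀ X, F X = f X := fun X => rfl
    obtain ⟨T, hT⟩ := F.eq_linearEquivConjAlgEquiv
    let g : (R K V)ˣ := ⟨T.toLinearMap, T.symm.toLinearMap, by ext x; simp, by ext x; simp⟩
    have hfg : f = cj K V g := by
      apply Equiv.ext
      intro X
      rw [← hF, hT]
      rfl
    have hgC : (g : R K V) ∈ Ce M := by
      rw [mem_Ce]
      intro m hm
      have h1 := hfix m hm
      rw [hfg, cj_apply] at h1
      have h2 := congrArg (fun Z => Z * (g : R K V)) h1
      simp only [mul_assoc, Units.inv_mul, mul_one] at h2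
      exact h2.symm
    have hgz : (g : R K V) * z = z * g := by
      have h1 := hfz
      rw [hfg, cj_apply] at h1
      have h2 := congrArg (fun Z => Z * (g : R K V)) h1
      simpa only [mul_assoc, Units.inv_mul, mul_one] using h2
    have hgw : (g : R K V) w = φ ((g : R K V) ((y α : R K V) w)) • w := by
      have h1 := congrArg (fun Z : R K V => Z ((y α : R K V) w)) hgz
      change (g : R K V) (φ ((y α : R K V) w) • w) = φ ((g : R K V) ((y α : R K V) w)) • w at h1
      rwa [tu, one_smul] at h1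
    have h1 := hw ((g : R K V) - φ ((g : R K V) ((y α : R K V) w)) • (1 : R K V))
      (sub_mem hgC (Subalgebra.smul_mem _ (one_mem _) _)) (by
        rw [LinearMap.sub_apply, LinearMap.smul_apply, Module.End.one_apply, ← hgw, sub_self])
    rw [hfg]
    exact cj_eq_one' (sub_eq_zero.1 h1)
  · -- anti-automorphisms
    intro f hf hfA hmul hfz
    have hf1 := RA_one hf
    obtain ⟨σ, hσ⟩ := exists_sig hf
    have hlam : ∀ m ∈ M, ∀ l : K, f m = l • ((m⁻¹ : (R K V)ˣ) : R K V) →
        l * φ (((m⁻¹ : (R K V)ˣ) : R K V) w) = -σ (φ ((m : R K V) w)) := by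
      intro m hm l hl
      apply hzinj
      have h1 : f (z * m * z) = f (φ ((m : R K V) w) • z) := by rw [hz, zXz]
      rw [hmul, hmul, hσ, hfz, hl] at h1
      have h2 : -z * (l • ((m⁻¹ : (R K V)ˣ) : R K V) * -z) = l • (z * ((m⁻¹ : (R K V)ˣ) : R K V) * z) := by
        simp [mul_assoc]
      rw [h2, smul_neg, ← neg_smul, hz, zXz, smul_smul] at h1
      exact h1
    have hcomm : ∀ m ∈ M, ∃ l : K, f m = l • ((m⁻¹ : (R K V)ˣ) : R K V) := fun m hm =>
      lam_neg hmul hf1 (hfA _ (hM1 hm))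
    by_cases hr : r = 2
    · have h2 : (2 : K) ≠ 0 := by
        have := h.r_ne_zero
        rw [hr] at this
        exact_mod_cast this
      -- squares are scalars
      have hinv : ∀ m ∈ M, ∃ t : K, t ≠ 0 ∧ (m : R K V) = t • ((m⁻¹ : (R K V)ˣ) : R K V) := by
        intro m hm
        obtain ⟨t, ht⟩ := h.pow_sc (hM1 hm)
        rw [hr, sq] at ht
        have h3 : (m : R K V) = t • ((m⁻¹ : (R K V)ˣ) : R K V) := by
          have h4 := congrArg (fun Z => Z * ((m⁻¹ : (R K V)ˣ) : R K V)) ht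
          simpa [mul_assoc] using h4
        refine ⟨t, ?_, h3⟩
        rintro rfl
        rw [zero_smul] at h3
        exact m.ne_zero h3
      obtain ⟨tu', htu0, htu⟩ := hinv _ hu
      obtain ⟨tv', htv0, htv⟩ := hinv _ hv
      obtain ⟨lu, hlu⟩ := hcomm _ hu
      obtain ⟨lv, hlv⟩ := hcomm _ hv
      have e1 := hlam _ hu lu hlu
      have e2 := hlam _ hv lv hlv
      rw [tu, map_one] at e1
      rw [tv, map_one] at e2
      have a1 : tu' * φ ((((y α)⁻¹ : (R K V)ˣ) : R K V) w) = 1 := by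
        rw [← tu]
        conv_rhs => rw [htu]
        rw [LinearMap.smul_apply, map_smul, smul_eq_mul]
      have a2 : tv' * φ ((((y β)⁻¹ : (R K V)ˣ) : R K V) w) = 1 := by
        rw [← tv]
        conv_rhs => rw [htv]
        rw [LinearMap.smul_apply, map_smul, smul_eq_mul]
      have b1 : lu = -tu' := by
        have : lu * (tu' * φ ((((y α)⁻¹ : (R K V)ˣ) : R K V) w)) = -tu' := by
          rw [mul_left_comm, e1]; ring
        rwa [a1, mul_one] at this
      have b2 : lv = -tv' := by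
        have : lv * (tv' * φ ((((y β)⁻¹ : (R K V)ˣ) : R K V) w)) = -tv' := by
          rw [mul_left_comm, e2]; ring
        rwa [a2, mul_one] at this
      have huvc : (y α : R K V) * y β = y β * y α := congrArg (fun z : (R K V)ˣ => (z : R K V)) (hM2 _ hu _ hv)
      have hfuv : f ((y α * y β : (R K V)ˣ) : R K V) =
          (lu * lv) • (((y α * y β)⁻¹ : (R K V)ˣ) : R K V) := by
        rw [Units.val_mul, hmul, hlu, hlv, mul_inv_rev, Units.val_mul, smul_mul_assoc, mul_smul_comm, smul_smul,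
          mul_comm lv lu]
      have e3 := hlam _ (mul_mem hu hv) (lu * lv) hfuv
      rw [tuv] at e3
      have a3 : (tu' * tv') * φ ((((y α * y β)⁻¹ : (R K V)ˣ) : R K V) w) = κ := by
        rw [← tuv]
        have h3 : ((y α * y β : (R K V)ˣ) : R K V) = (tu' * tv') • (((y α * y β)⁻¹ : (R K V)ˣ) : R K V) := by
          rw [Units.val_mul, huvc]
          conv_lhs => rw [htu, htv]
          rw [mul_inv_rev, Units.val_mul, smul_mul_assoc, mul_smul_comm, smul_smul, mul_comm tv' tu']
        conv_rhs => rw [h3]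
        rw [LinearMap.smul_apply, map_smul, smul_eq_mul]
      rw [b1, b2, neg_mul_neg, a3] at e3
      exact sig_neg hκ h2 σ (neg_eq_iff_eq_neg.2 e3).symm
    · obtain ⟨l, hl⟩ := hcomm _ hu
      have h1 := hlam _ hu l hl
      have h2 : φ ((((y α)⁻¹ : (R K V)ˣ) : R K V) w) = 0 := by
        rw [hφM _ (inv_mem hu)]
        obtain ⟨t, ht⟩ := exists_rep_smul hy (x := (y α)⁻¹) (inv_mem (hyA α))
        have h3 : (⟨cj K V (y α)⁻¹, inv_mem (hyA α)⟩ : A) = α⁻¹ := by
          apply Subtype.ext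
          change cj K V (y α)⁻¹ = _
          rw [map_inv, hy]
          rfl
        rw [h3] at ht
        rw [ht, map_smul, hψ, cinv hr, smul_zero]
      rw [h2, mul_zero, tu, map_one] at h1
      exact one_ne_zero (neg_eq_zero.1 h1.symm)

end Dat

end Cfsg.Agent.H716.FC
end
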