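import Cfsg.Agent.H716.FC.ExZ
set_option linter.all false

-- part: H716/FC/Two
section
/-!
# S5764, extraspecial type normalizers, `r = 2` (helper716): the support of an element of the normalizer
-/

set_option autoImplicit false

namespace Cfsg.Agent.H716.FC
open Cfsg.Agent.H198.FC Module

universe u v

variable {K : Type u} [Field K] {V : Type v} [AddCommGroup V] [Module K V]

/-- the trace of an element anticommuting with a unit -/
theorem trace_anti (h2 : (2 : K) ≠ 0) {v : (R K V)ˣ} {X : R K V} (h : (v : R K V) * X = -(X * v)) :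
    LinearMap.trace K V X = 0 := by
  have h1 : LinearMap.trace K V ((v : R K V) * X * ((v⁻¹ : (R K V)ˣ) : R K V)) = LinearMap.trace K V X := by
    rw [LinearMap.trace_mul_comm, ← mul_assoc, Units.inv_mul, one_mul]
  rw [h, neg_mul, mul_assoc, Units.mul_inv, mul_one, map_neg] at h1
  have h3 : (2 : K) * LinearMap.trace K V X = 0 := by linear_combination -h1
  rcases mul_eq_zero.1 h3 with h4 | h4
  · exact absurd h4 h2
  · exact h4

namespace Dat

variable {A : Subgroup (Equiv.Perm (R K V))} {r a : ℕ}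

/-- the twirl -/
theorem twirl [Module.Finite K V] [Fintype A] (h : Dat A r a) {y : A → (R K V)ˣ} (hy : ∀ α : A, cj K V (y α) = α)
    (Y : R K V) : ∑ β : A, (y β : R K V) * Y * (((y β)⁻¹ : (R K V)ˣ) : R K V) =
      ((finrank K V : K) * LinearMap.trace K V Y) • (1 : R K V) := by
  haveI := h.nontriv
  set X := ∑ β : A, (y β : R K V) * Y * (((y β)⁻¹ : (R K V)ˣ) : R K V) with hX
  have h1 : ∀ u ∈ Lf A, X * u = u * X := by
    intro u hu
    have h2 : (u : R K V) * X * ((u⁻¹ : (R K V)ˣ) : R K V) = X := by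
      rw [hX, Finset.mul_sum, Finset.sum_mul]
      have h3 : ∀ β : A, (u : R K V) * ((y β : R K V) * Y * (((y β)⁻¹ : (R K V)ˣ) : R K V)) *
          ((u⁻¹ : (R K V)ˣ) : R K V) =
          (y (⟨cj K V u, hu⟩ * β) : R K V) * Y * (((y (⟨cj K V u, hu⟩ * β))⁻¹ : (R K V)ˣ) : R K V) := by
        intro β
        have h4 : cj K V (u * y β) = cj K V (y (⟨cj K V u, hu⟩ * β)) := by
          rw [map_mul, hy, hy]
          rfl
        have h5 := congrArg (fun f : Equiv.Perm (R K V) => f Y) h4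
        simp only [cj_apply] at h5
        rw [← h5, mul_inv_rev, Units.val_mul, Units.val_mul]
        simp only [mul_assoc]
      rw [Finset.sum_congr rfl fun β _ => h3 β]
      exact Fintype.sum_equiv (Equiv.mulLeft (⟨cj K V u, hu⟩ : A)) _ _ fun β => rfl
    have h3 := congrArg (fun Z => Z * (u : R K V)) h2
    simpa [mul_assoc] using h3.symm
  obtain ⟨s, hs⟩ := h.sc_of_comm' h1
  rw [hs]
  congr 1
  have h2 : LinearMap.trace K V X = (Fintype.card A : K) * LinearMap.trace K V Y := by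
    rw [hX, map_sum]
    have h3 : ∀ β : A, LinearMap.trace K V ((y β : R K V) * Y * (((y β)⁻¹ : (R K V)ˣ) : R K V)) =
        LinearMap.trace K V Y := by
      intro β
      rw [LinearMap.trace_mul_comm, ← mul_assoc, Units.inv_mul, one_mul]
    rw [Finset.sum_congr rfl fun β _ => h3 β, Finset.sum_const, Finset.card_univ, nsmul_eq_mul]
  rw [hs, map_smul, smul_eq_mul] at h2
  have h3 : LinearMap.trace K V (1 : R K V) = (finrank K V : K) := by simp
  rw [h3] at h2
  have h4 : (Fintype.card A : K) = (finrank K V : K) * (finrank K V : K) := by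
    rw [← Nat.card_eq_fintype_card, h.hcard, h.hn, ← Nat.cast_mul]
    congr 1
    ring
  rw [h4] at h2
  have h5 : (finrank K V : K) * s = (finrank K V : K) * ((finrank K V : K) * LinearMap.trace K V Y) := by
    rw [mul_comm, h2]; ring
  exact mul_left_cancel₀ h.n_ne_zero h5

/-- the functional `u ↦ tr(g u⁻¹)` -/
noncomputable def tt (g u : (R K V)ˣ) : K := LinearMap.trace K V ((g : R K V) * ((u⁻¹ : (R K V)ˣ) : R K V))

theorem tt_smul {g u v : (R K V)ˣ} {s : K} (hs : (u : R K V) = s • (v : R K V)) :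
    s * tt g u = tt g v := by
  unfold tt
  rw [← smul_eq_mul, ← map_smul]
  congr 1
  rw [← mul_smul_comm]
  congr 1
  have h1 : (u : R K V) * ((v⁻¹ : (R K V)ˣ) : R K V) = s • (1 : R K V) := by
    rw [hs, smul_mul_assoc, Units.mul_inv]
  have h2 := congrArg (fun Z => ((u⁻¹ : (R K V)ˣ) : R K V) * Z) h1
  simp only [← mul_assoc, Units.inv_mul, one_mul, mul_smul_comm, mul_one] at h2
  exact h2.symm

/-- only the class matters -/
theorem tt_ne {g u v : (R K V)ˣ} (hc : cj K V u = cj K V v) (h : tt g u ≠ 0) : tt g v ≠ 0 := by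
  obtain ⟨s, hs⟩ := cj_eq_of hc
  intro h0
  rw [← tt_smul hs] at h0
  rcases mul_eq_zero.1 h0 with h1 | h1
  · apply h
    have h2 : (u : R K V) = 0 := by rw [hs, h1, zero_smul]
    unfold tt
    have h3 : ((u⁻¹ : (R K V)ˣ) : R K V) = 0 := by
      calc ((u⁻¹ : (R K V)ˣ) : R K V) = ((u⁻¹ : (R K V)ˣ) : R K V) * u * ((u⁻¹ : (R K V)ˣ) : R K V) := by simp
        _ = 0 := by rw [h2]; simp
    rw [h3, mul_zero, map_zero]
  · exact h h1

theorem tt_conj (g u b : (R K V)ˣ) : tt g (g * b * g⁻¹ * u * b⁻¹) = tt g u := by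
  unfold tt
  have e1 : g * (g * b * g⁻¹ * u * b⁻¹)⁻¹ = (g * b * u⁻¹) * (g * b⁻¹ * g⁻¹) := by group
  have e2 : (g * b⁻¹ * g⁻¹) * (g * b * u⁻¹) = g * u⁻¹ := by group
  rw [← Units.val_mul, e1, Units.val_mul, LinearMap.trace_mul_comm, ← Units.val_mul, e2, Units.val_mul]

/-- two elements of the support -/
theorem supp_coset [Finite K] [Module.Finite K V] (h : Dat A r a) {g : (R K V)ˣ}
    (hg : ∀ α ∈ A, cj K V g * α * (cj K V g)⁻¹ ∈ A) {u v : (R K V)ˣ} (hu : u ∈ Lf A) (hv : v ∈ Lf A)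
    (hut : tt g u ≠ 0) (hvt : tt g v ≠ 0) : ∃ b ∈ Lf A, cj K V v = cj K V (g * b * g⁻¹ * u * b⁻¹) := by
  classical
  haveI : Finite (R K V) := finite_R
  haveI := h.nontriv
  haveI : Fintype A := Fintype.ofFinite A
  obtain ⟨y, hy⟩ := h.exists_rep
  have hyA : ∀ α : A, y α ∈ Lf A := fun α => rep_mem hy α
  have hgA : ∀ b ∈ Lf A, g * b * g⁻¹ ∈ Lf A := by
    intro b hb
    rw [mem_Lf, map_mul, map_mul, map_inv]
    exact hg _ hb
  -- some `w` with `tr(w g⁻¹) ≠ 0`
  have h1 : ∃ w ∈ Lf A, LinearMap.trace K V ((w : R K V) * ((g⁻¹ : (R K V)ˣ) : R K V)) ≠ 0 := by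
    by_contra hcon
    push Not at hcon
    have h2 := h.expand hy ((g⁻¹ : (R K V)ˣ) : R K V)
    have h3 : (finrank K V : K) • ((g⁻¹ : (R K V)ˣ) : R K V) = 0 := by
      rw [h2]
      apply Finset.sum_eq_zero
      intro α _
      have h4 := hcon (y α)⁻¹ (inv_mem (hyA α))
      rw [LinearMap.trace_mul_comm] at h4
      rw [h4, zero_smul]
    rcases smul_eq_zero.1 h3 with h4 | h4
    · exact h.n_ne_zero h4
    · exact (g⁻¹ : (R K V)ˣ).ne_zero h4
  obtain ⟨w, hw, hwt⟩ := h1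
  have key : ∀ z ∈ Lf A, tt g z ≠ 0 → ∃ b ∈ Lf A, cj K V z = cj K V (g * b * g⁻¹ * w * b⁻¹) := by
    intro z hz hzt
    have h2 := h.twirl hy (((g⁻¹ : (R K V)ˣ) : R K V) * w)
    have h3 := congrArg (fun X : R K V => LinearMap.trace K V ((g : R K V) * X * ((z⁻¹ : (R K V)ˣ) : R K V))) h2
    rw [mul_smul_comm, mul_one, smul_mul_assoc, map_smul, smul_eq_mul, Finset.mul_sum, Finset.sum_mul, map_sum] at h3
    have h4 : (finrank K V : K) * LinearMap.trace K V (((g⁻¹ : (R K V)ˣ) : R K V) * w) *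
        LinearMap.trace K V ((g : R K V) * ((z⁻¹ : (R K V)ˣ) : R K V)) ≠ 0 := by
      refine mul_ne_zero (mul_ne_zero h.n_ne_zero ?_) hzt
      rw [LinearMap.trace_mul_comm]
      exact hwt
    rw [← h3] at h4
    obtain ⟨β, -, hβ⟩ := Finset.exists_ne_zero_of_sum_ne_zero h4
    refine ⟨y β, hyA β, ?_⟩
    -- the element is a scalar
    have h5 : (g : R K V) * ((y β : R K V) * (((g⁻¹ : (R K V)ˣ) : R K V) * w) * (((y β)⁻¹ : (R K V)ˣ) : R K V)) *
        ((z⁻¹ : (R K V)ˣ) : R K V) = ((g * y β * g⁻¹ * w * (y β)⁻¹ * z⁻¹ : (R K V)ˣ) : R K V) := by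
      simp only [Units.val_mul, mul_assoc]
    rw [h5] at hβ
    by_contra hne
    apply hβ
    apply h.trace_zero
    · exact mul_mem (mul_mem (mul_mem (hgA _ (hyA β)) hw) (inv_mem (hyA β))) (inv_mem hz)
    · rintro ⟨s, hs⟩
      have h6 := cj_eq_one' hs
      rw [map_mul, map_inv, mul_inv_eq_one] at h6
      exact hne h6.symm
  obtain ⟨b, hb, hbu⟩ := key u hu hut
  obtain ⟨c, hc, hcv⟩ := key v hv hvt
  refine ⟨c * b⁻¹, mul_mem hc (inv_mem hb), ?_⟩
  have e2 : ∀ p q : (R K V)ˣ, cj K V (g * p * g⁻¹ * q * p⁻¹) = cj K V (g * p * g⁻¹) * cj K V q * (cj K V p)⁻¹ := by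
    intro p q
    rw [map_mul (cj K V) _ p⁻¹, map_mul (cj K V) _ q, map_inv (cj K V) p]
  have e3 : cj K V (g * (c * b⁻¹) * g⁻¹) = cj K V (g * c * g⁻¹) * (cj K V (g * b * g⁻¹))⁻¹ := by
    rw [← map_inv, ← map_mul]
    congr 1
    group
  rw [e2, e3, hcv, hbu, e2, e2, map_mul (cj K V) c, map_inv (cj K V) b]
  group

/-- **(P)** -/
theorem supp_three [Finite K] [Module.Finite K V] (h : Dat A 2 a) {g : (R K V)ˣ}
    (hg : ∀ α ∈ A, cj K V g * α * (cj K V g)⁻¹ ∈ A) {u v w z : (R K V)ˣ} (hu : u ∈ Lf A) (hv : v ∈ Lf A)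
    (hw : w ∈ Lf A) (hut : tt g u ≠ 0) (hvt : tt g v ≠ 0) (hwt : tt g w ≠ 0)
    (hz : cj K V z = cj K V u * cj K V v * cj K V w) : tt g z ≠ 0 := by
  obtain ⟨b, hb, hbv⟩ := h.supp_coset hg hu hv hut hvt
  have hgA : ∀ b ∈ Lf A, g * b * g⁻¹ ∈ Lf A := by
    intro b hb
    rw [mem_Lf, map_mul, map_mul, map_inv]
    exact hg _ hb
  have h1 : tt g (g * b * g⁻¹ * w * b⁻¹) ≠ 0 := by rw [tt_conj]; exact hwt
  refine tt_ne ?_ h1
  rw [hz, hbv]
  have e2 : ∀ p : (R K V)ˣ, cj K V (g * b * g⁻¹ * p * b⁻¹) = cj K V (g * b * g⁻¹) * cj K V p * cj K V b⁻¹ := by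
    intro p
    rw [map_mul (cj K V) _ b⁻¹, map_mul (cj K V) _ p]
  rw [e2, e2]
  have hab : ∀ p ∈ Lf A, ∀ q ∈ Lf A, cj K V p * cj K V q = cj K V q * cj K V p := fun p hp q hq => h.hcomm _ hp _ hq
  have m1 := hgA _ hb
  have hu2 : cj K V u * cj K V u = 1 := by rw [← sq]; exact h.hpow _ hu
  have e5 : ∀ p q s t : Equiv.Perm (R K V), q * q = 1 → p * q = q * p → s * t = t * s →
      p * t * s = q * (p * q * s) * t := by
    intro p q s t h1 h2 h3
    calc p * t * s = p * (s * t) := by rw [mul_assoc, h3]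
      _ = p * (q * q) * s * t := by rw [h1, mul_one, mul_assoc]
      _ = (p * q) * q * s * t := by rw [← mul_assoc p q q]
      _ = (q * p) * q * s * t := by rw [h2]
      _ = q * (p * q * s) * t := by simp only [mul_assoc]
  exact e5 _ _ _ _ hu2 (hab _ m1 u hu) (hab _ (inv_mem hb) w hw)

theorem sq_mul [Module.Finite K V] (h : Dat A 2 a) {x y : (R K V)ˣ} (hx : x ∈ Lf A) (hy : y ∈ Lf A) {s t : K}
    (hs : (x : R K V) * x = s • (1 : R K V)) (ht : (y : R K V) * y = t • (1 : R K V)) :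
    ∃ ε : K, ε ^ 2 = 1 ∧ ((x * y : (R K V)ˣ) : R K V) * ((x * y : (R K V)ˣ) : R K V) = (ε * (s * t)) • (1 : R K V) := by
  obtain ⟨ε, hε⟩ := h.comm hy hx
  refine ⟨ε, h.eps_pow hy hε, ?_⟩
  rw [Units.val_mul]
  calc (x : R K V) * y * ((x : R K V) * y) = (x : R K V) * ((y : R K V) * x) * y := by simp only [mul_assoc]
    _ = ε • ((x : R K V) * x * ((y : R K V) * y)) := by
        rw [hε, mul_smul_comm, smul_mul_assoc]
        simp only [mul_assoc]
    _ = _ := by
        rw [hs, ht, smul_mul_assoc, one_mul, smul_smul, smul_smul, mul_assoc]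

/-- **(FL)** -/
theorem supp_flat [Finite K] [Module.Finite K V] (h : Dat A 2 a) {g : (R K V)ˣ}
    (hg : ∀ α ∈ A, cj K V g * α * (cj K V g)⁻¹ ∈ A) {u w : (R K V)ˣ} (hu : u ∈ Lf A) (hw : w ∈ Lf A)
    (hut : tt g u ≠ 0) (hwt : tt g w ≠ 0) {s t : K}
    (hs : (u : R K V) * u = s • (1 : R K V)) (ht : (w : R K V) * w = t • (1 : R K V)) :
    s ^ 2 * (tt g u) ^ 4 = t ^ 2 * (tt g w) ^ 4 := by
  haveI := h.nontriv
  obtain ⟨b, hb, hbv⟩ := h.supp_coset hg hu hw hut hwt
  obtain ⟨c, hc⟩ := cj_eq_of hbv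
  have h1 : c * tt g w = tt g u := by
    have := tt_smul (g := g) hc
    rw [this, tt_conj]
  obtain ⟨β, hβ⟩ := h.pow_sc hb
  rw [sq] at hβ
  have hβ0 : β ≠ 0 := by
    rintro rfl
    rw [zero_smul] at hβ
    exact (b * b).ne_zero (by simpa using hβ)
  have hq : ((g * b * g⁻¹ : (R K V)ˣ) : R K V) * ((g * b * g⁻¹ : (R K V)ˣ) : R K V) = β • (1 : R K V) := by
    have e1 : (g * b * g⁻¹) * (g * b * g⁻¹) = g * (b * b) * g⁻¹ := by group
    rw [← Units.val_mul, e1, Units.val_mul, Units.val_mul, Units.val_mul, hβ, mul_smul_comm, smul_mul_assoc, mul_one,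
      Units.mul_inv]
  have hbi : ((b⁻¹ : (R K V)ˣ) : R K V) * ((b⁻¹ : (R K V)ˣ) : R K V) = β⁻¹ • (1 : R K V) := by
    have e1 : ((b⁻¹ : (R K V)ˣ) : R K V) * ((b⁻¹ : (R K V)ˣ) : R K V) * ((b : R K V) * b) = 1 := by
      rw [← Units.val_mul, ← Units.val_mul, ← Units.val_mul]
      have : b⁻¹ * b⁻¹ * (b * b) = 1 := by group
      rw [this, Units.val_one]
    rw [hβ, mul_smul_comm, mul_one] at e1
    rw [← e1, smul_smul, inv_mul_cancel₀ hβ0, one_smul]
  have hgb : g * b * g⁻¹ ∈ Lf A := by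
    rw [mem_Lf, map_mul, map_mul, map_inv]
    exact hg _ hb
  obtain ⟨ε1, hε1, e1⟩ := h.sq_mul hgb hu hq hs
  obtain ⟨ε2, hε2, e2⟩ := h.sq_mul (mul_mem hgb hu) (inv_mem hb) e1 hbi
  have h2 : t = c * c * (ε2 * (ε1 * (β * s) * β⁻¹)) := by
    apply smul_inj_unit (x := (1 : (R K V)ˣ))
    rw [Units.val_one, ← ht, hc, smul_mul_smul_comm, e2, smul_smul]
  have h3 : ε2 * (ε1 * (β * s) * β⁻¹) = ε2 * ε1 * s := by
    field_simp
  rw [h3] at h2
  rw [h2, ← h1]
  have e3 : ε1 ^ 2 = 1 := hε1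
  have e4 : ε2 ^ 2 = 1 := hε2
  calc s ^ 2 * (c * tt g w) ^ 4 = (ε2 ^ 2) * (ε1 ^ 2) * (s ^ 2 * (c * tt g w) ^ 4) := by rw [e3, e4]; ring
    _ = _ := by ring

end Dat

end Cfsg.Agent.H716.FC
end

-- part: H716/FC/TwoX
section
/-!
# S5764, extraspecial type normalizers, `r = 2` (helper716): commuting and anticommuting elements, lemmas A and B
-/

set_option autoImplicit false

namespace Cfsg.Agent.H716.FC
open Cfsg.Agent.H198.FC Module

universe u v

section sign

variable {K : Type u} [Field K] {V : Type v} [AddCommGroup V] [Module K V]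

/-- `x` and `X` commute -/
def Cm (x X : R K V) : Prop := x * X = X * x

/-- `x` and `X` anticommute -/
def An (x X : R K V) : Prop := x * X = -(X * x)

variable {x X Y : R K V}

theorem Cm.mul (hX : Cm x X) (hY : Cm x Y) : Cm x (X * Y) := by
  unfold Cm at *; rw [← mul_assoc, hX, mul_assoc, hY, mul_assoc]

theorem Cm.mul_an (hX : Cm x X) (hY : An x Y) : An x (X * Y) := by
  unfold Cm at *; unfold An at *; rw [← mul_assoc, hX, mul_assoc, hY, mul_neg, mul_assoc]

theorem An.mul_cm (hX : An x X) (hY : Cm x Y) : An x (X * Y) := by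
  unfold Cm at *; unfold An at *; rw [← mul_assoc, hX, neg_mul, mul_assoc, hY, mul_assoc]

theorem An.mul (hX : An x X) (hY : An x Y) : Cm x (X * Y) := by
  unfold An at *; unfold Cm; rw [← mul_assoc, hX, neg_mul, mul_assoc, hY, mul_neg, neg_neg, mul_assoc]

theorem Cm.symm (h : Cm x X) : Cm X x := by unfold Cm at *; rw [h]

theorem An.symm (h : An x X) : An X x := by unfold An at *; rw [h, neg_neg]

theorem Cm.one : Cm x 1 := by unfold Cm; simp

theorem Cm.self : Cm x x := rfl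

theorem Cm.inv {u : (R K V)ˣ} (h : Cm x (u : R K V)) : Cm x ((u⁻¹ : (R K V)ˣ) : R K V) := by
  unfold Cm at *
  calc x * ((u⁻¹ : (R K V)ˣ) : R K V) = ((u⁻¹ : (R K V)ˣ) : R K V) * (u * x) * ((u⁻¹ : (R K V)ˣ) : R K V) := by
        simp [← mul_assoc]
    _ = _ := by rw [← h]; simp [mul_assoc]

theorem An.inv {u : (R K V)ˣ} (h : An x (u : R K V)) : An x ((u⁻¹ : (R K V)ˣ) : R K V) := by
  unfold An at *
  have h' : (u : R K V) * x = -(x * u) := by rw [h, neg_neg]
  calc x * ((u⁻¹ : (R K V)ˣ) : R K V) = ((u⁻¹ : (R K V)ˣ) : R K V) * (u * x) * ((u⁻¹ : (R K V)ˣ) : R K V) := by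
        simp [← mul_assoc]
    _ = _ := by rw [h']; simp [mul_assoc]

theorem Cm.smul (s : K) (h : Cm x X) : Cm x (s • X) := by
  unfold Cm at *; rw [mul_smul_comm, h, smul_mul_assoc]

theorem An.smul (s : K) (h : An x X) : An x (s • X) := by
  unfold An at *; rw [mul_smul_comm, h, smul_mul_assoc, smul_neg]

theorem Cm.sum {ι : Type*} (s : Finset ι) {F : ι → R K V} (h : ∀ i ∈ s, Cm x (F i)) : Cm x (∑ i ∈ s, F i) := by
  unfold Cm at *
  rw [Finset.mul_sum, Finset.sum_mul]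
  exact Finset.sum_congr rfl h

theorem An.sum {ι : Type*} (s : Finset ι) {F : ι → R K V} (h : ∀ i ∈ s, An x (F i)) : An x (∑ i ∈ s, F i) := by
  unfold An at *
  rw [Finset.mul_sum, Finset.sum_mul, ← Finset.sum_neg_distrib]
  exact Finset.sum_congr rfl h

theorem An.trace (h2 : (2 : K) ≠ 0) {v : (R K V)ˣ} {X : R K V} (h : An (v : R K V) X) : LinearMap.trace K V X = 0 :=
  trace_anti h2 h

end sign

namespace Dat

variable {K : Type u} [Field K] {V : Type v} [AddCommGroup V] [Module K V]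
variable {A : Subgroup (Equiv.Perm (R K V))} {m : ℕ}

theorem two_ne [Module.Finite K V] (h : Dat A 2 m) : (2 : K) ≠ 0 := by
  have := h.r_ne_zero
  exact_mod_cast this

theorem dich [Module.Finite K V] (h : Dat A 2 m) {u v : (R K V)ˣ} (hu : u ∈ Lf A) (hv : v ∈ Lf A) :
    Cm (u : R K V) v ∨ An (u : R K V) v := by
  obtain ⟨ε, hε⟩ := h.comm hu hv
  have h1 := h.eps_pow hu hε
  have h1' : ε * ε = 1 := by rw [← sq]; exact h1
  rcases mul_self_eq_one_iff.1 h1' with h2 | h2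
  · left
    unfold Cm
    rw [hε, h2, one_smul]
  · right
    unfold An
    rw [hε, h2, neg_smul, one_smul]

theorem exists_an [Module.Finite K V] (h : Dat A 2 m) {u : (R K V)ˣ} (hu : u ∈ Lf A)
    (hs : ¬ ∃ s : K, (u : R K V) = s • (1 : R K V)) : ∃ v ∈ Lf A, An (v : R K V) u := by
  by_contra hcon
  push Not at hcon
  apply hs
  apply h.sc_of_comm'
  intro v hv
  rcases h.dich hv hu with h1 | h1
  · exact h1.symm
  · exact absurd h1 (hcon v hv)

theorem sq_sc [Module.Finite K V] (h : Dat A 2 m) {u : (R K V)ˣ} (hu : u ∈ Lf A) :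
    ∃ s : K, s ≠ 0 ∧ (u : R K V) * u = s • (1 : R K V) := by
  haveI := h.nontriv
  obtain ⟨s, hs⟩ := h.pow_sc hu
  rw [sq] at hs
  refine ⟨s, ?_, hs⟩
  rintro rfl
  rw [zero_smul] at hs
  exact (u * u).ne_zero (by simpa using hs)

/-- the shape of the two kinds of elements of the normalizer -/
structure Nor (a b : (R K V)ˣ) (A : Subgroup (Equiv.Perm (R K V))) : Prop where
  ha : a ∈ Lf A
  hb : b ∈ Lf A
  haa : (a : R K V) * a = 1
  hab : An (a : R K V) b

section AB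

variable {a b : (R K V)ˣ}

theorem Nor.inv_a (hN : Nor a b A) : ((a⁻¹ : (R K V)ˣ) : R K V) = a := by
  have h1 : a * a = 1 := Units.ext (by rw [Units.val_mul, hN.haa]; rfl)
  have h2 : a⁻¹ = a := inv_eq_of_mul_eq_one_left h1
  rw [h2]

theorem tt_one [Module.Finite K V] (g : (R K V)ˣ) : tt g 1 = LinearMap.trace K V (g : R K V) := by
  unfold tt; simp

theorem Nor.tt_a (hN : Nor a b A) [Module.Finite K V] (g : (R K V)ˣ) :
    tt g a = LinearMap.trace K V ((a : R K V) * g) := by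
  unfold tt; rw [hN.inv_a, LinearMap.trace_mul_comm]

theorem Nor.tt_mul (hN : Nor a b A) [Module.Finite K V] (g v : (R K V)ˣ) :
    tt g (a * v) = LinearMap.trace K V ((a : R K V) * g * ((v⁻¹ : (R K V)ˣ) : R K V)) := by
  unfold tt
  rw [mul_inv_rev, Units.val_mul, hN.inv_a, ← mul_assoc, LinearMap.trace_mul_comm, mul_assoc]

/-- **Lemma A** -/
theorem lemA [Finite K] [Module.Finite K V] (h : Dat A 2 m) (hN : Nor a b A) {g : (R K V)ˣ}
    (hg : ∀ α ∈ A, cj K V g * α * (cj K V g)⁻¹ ∈ A) {W : R K V} (haW : An (a : R K V) W) (hbW : Cm (b : R K V) W)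
    (hgW : (g : R K V) = 1 + (1 + a) * W) {u : (R K V)ˣ} (hu : u ∈ Lf A) (hau : An (a : R K V) u)
    (hbu : Cm (b : R K V) u) : LinearMap.trace K V (W * ((u⁻¹ : (R K V)ˣ) : R K V)) = 0 := by
  by_contra hne
  have h2 := h.two_ne
  have hba := hN.hab.symm
  have hui := hau.inv
  have hbui := hbu.inv
  have t1 : tt g 1 ≠ 0 := by
    rw [tt_one, hgW, map_add, add_mul, one_mul, map_add, haW.trace h2, (hba.mul_cm hbW).trace h2]
    simpa using h.n_ne_zero
  have hag : (a : R K V) * g = a + (1 + a) * W := by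
    rw [hgW, mul_add, mul_one, ← mul_assoc, mul_add, mul_one, hN.haa, add_comm (1 : R K V) (a : R K V)]
  have ta : tt g a = 0 := by
    rw [hN.tt_a, hag, map_add, add_mul, one_mul, map_add, haW.trace h2, (hba.mul_cm hbW).trace h2, hba.trace h2]
    simp
  have tu : tt g u ≠ 0 := by
    unfold tt
    rw [hgW, add_mul, add_mul, add_mul, one_mul, one_mul, map_add, map_add, hui.trace h2,
      ((hba.mul_cm hbW).mul_cm hbui).trace h2, zero_add, add_zero]
    exact hne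
  have tau : tt g (a * u) ≠ 0 := by
    rw [hN.tt_mul, hag, add_mul, add_mul, add_mul, one_mul, map_add, map_add, (hba.mul_cm hbui).trace h2,
      ((hba.mul_cm hbW).mul_cm hbui).trace h2, zero_add, add_zero]
    exact hne
  refine h.supp_three hg (one_mem _) hu (mul_mem hN.ha hu) t1 tu tau (z := a) ?_ ta
  rw [map_one, one_mul, map_mul, ← mul_assoc, h.hcomm _ hu _ hN.ha, mul_assoc, ← sq, h.hpow _ hu, mul_one]

/-- **Lemma B** -/
theorem lemB [Finite K] [Module.Finite K V] (h : Dat A 2 m) (hN : Nor a b A) {g : (R K V)ˣ}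
    (hg : ∀ α ∈ A, cj K V g * α * (cj K V g)⁻¹ ∈ A) {W W' : R K V} (haW : An (a : R K V) W)
    (hbW : Cm (b : R K V) W) (haW' : An (a : R K V) W') (hbW' : Cm (b : R K V) W')
    (hgW : (g : R K V) = (1 + (1 + a) * W) * (1 - (1 - a) * W')) {u c : (R K V)ˣ}
    (hu : u ∈ Lf A) (hau : An (a : R K V) u) (hbu : Cm (b : R K V) u)
    (hc : c ∈ Lf A) (hac : An (a : R K V) c) (hbc : Cm (b : R K V) c) (huc : cj K V u ≠ cj K V c)
    {s t : K} (hs : LinearMap.trace K V (W * ((u⁻¹ : (R K V)ˣ) : R K V)) = finrank K V)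
    (hs' : LinearMap.trace K V (W' * ((u⁻¹ : (R K V)ˣ) : R K V)) = finrank K V * s)
    (ht : LinearMap.trace K V (W * ((c⁻¹ : (R K V)ˣ) : R K V)) = finrank K V)
    (ht' : LinearMap.trace K V (W' * ((c⁻¹ : (R K V)ˣ) : R K V)) = finrank K V * t)
    (ht0 : t ≠ 0) (ht1 : t ^ 2 ≠ -1) : False := by
  have h2 := h.two_ne
  have hn := h.n_ne_zero
  have hba := hN.hab.symm
  have hA2 : ∀ p ∈ Lf A, cj K V p * cj K V p = 1 := fun p hp => by rw [← sq]; exact h.hpow _ hp
  have hAc : ∀ p ∈ Lf A, ∀ q ∈ Lf A, cj K V p * cj K V q = cj K V q * cj K V p := fun p hp q hq => h.hcomm _ hp _ hq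
  -- `g` and `a g`
  have hg1 : (g : R K V) = 1 + W + a * W - W' + a * W' - (2 : K) • (W * W') - (2 : K) • ((a : R K V) * (W * W')) := by
    have e0 : W * (a : R K V) = -(a * W) := by rw [haW, neg_neg]
    have e1 : (1 + (a : R K V)) * W * ((1 - (a : R K V)) * W') = (2 : K) • (W * W') + (2 : K) • ((a : R K V) * (W * W')) := by
      have e2 : (1 + (a : R K V)) * W * (1 - (a : R K V)) = (2 : K) • W + (2 : K) • ((a : R K V) * W) := by
        rw [mul_sub, mul_one, mul_assoc, e0, add_mul, add_mul, one_mul, one_mul, mul_neg, ← mul_assoc, hN.haa, one_mul]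
        rw [two_smul, two_smul]
        abel
      rw [← mul_assoc, e2, add_mul, smul_mul_assoc, smul_mul_assoc, mul_assoc]
    rw [hgW, mul_sub, mul_one, add_mul (1 : R K V) ((1 + (a : R K V)) * W), one_mul, e1, add_mul, sub_mul, one_mul,
      one_mul]
    abel
  have hag : (a : R K V) * g = a + W + a * W + W' - a * W' - (2 : K) • (W * W') - (2 : K) • ((a : R K V) * (W * W')) := by
    rw [hg1]
    simp only [mul_add, mul_sub, mul_one, mul_smul_comm, ← mul_assoc, hN.haa, one_mul]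
    abel
  -- the traces
  have hWW : Cm (a : R K V) (W * W') := haW.mul haW'
  have hbWW : Cm (b : R K V) (W * W') := hbW.mul hbW'
  have t1 : tt g 1 = finrank K V - 2 * LinearMap.trace K V (W * W') := by
    rw [tt_one, hg1]
    simp only [map_add, map_sub, map_smul, smul_eq_mul, haW.trace h2, haW'.trace h2, (hba.mul_cm hbW).trace h2,
      (hba.mul_cm hbW').trace h2, (hba.mul_cm hbWW).trace h2]
    simp
  have ta : tt g a = - (2 * LinearMap.trace K V (W * W')) := by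
    rw [hN.tt_a, hag]
    simp only [map_add, map_sub, map_smul, smul_eq_mul, haW.trace h2, haW'.trace h2, (hba.mul_cm hbW).trace h2,
      (hba.mul_cm hbW').trace h2, (hba.mul_cm hbWW).trace h2, hba.trace h2]
    simp
  have tv : ∀ v : (R K V)ˣ, An (a : R K V) v → Cm (b : R K V) v →
      tt g v = LinearMap.trace K V (W * ((v⁻¹ : (R K V)ˣ) : R K V)) -
        LinearMap.trace K V (W' * ((v⁻¹ : (R K V)ˣ) : R K V)) ∧
      tt g (a * v) = LinearMap.trace K V (W * ((v⁻¹ : (R K V)ˣ) : R K V)) +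
        LinearMap.trace K V (W' * ((v⁻¹ : (R K V)ˣ) : R K V)) := by
    intro v hav hbv
    have a1 := hav.inv
    have b1 := hbv.inv
    constructor
    · unfold tt
      rw [hg1]
      simp only [add_mul, sub_mul, smul_mul_assoc, one_mul, map_add, map_sub, map_smul, smul_eq_mul, a1.trace h2,
        ((hba.mul_cm hbW).mul_cm b1).trace h2, ((hba.mul_cm hbW').mul_cm b1).trace h2,
        ((hba.mul_cm hbWW).mul_cm b1).trace h2, (hWW.mul_an a1).trace h2]
      ring
    · rw [hN.tt_mul, hag]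
      simp only [add_mul, sub_mul, smul_mul_assoc, map_add, map_sub, map_smul, smul_eq_mul,
        ((hba.mul_cm hbW).mul_cm b1).trace h2, ((hba.mul_cm hbW').mul_cm b1).trace h2,
        ((hba.mul_cm hbWW).mul_cm b1).trace h2, (hWW.mul_an a1).trace h2, (hba.mul_cm b1).trace h2]
      ring
  have tw : ∀ v : (R K V)ˣ, v ∈ Lf A → Cm (a : R K V) v → Cm (b : R K V) v →
      (¬ ∃ s : K, (v : R K V) = s • (1 : R K V)) → tt g v = tt g (a * v) := by
    intro v hv hav hbv hns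
    have a1 := hav.inv
    have b1 := hbv.inv
    have e1 : LinearMap.trace K V ((v⁻¹ : (R K V)ˣ) : R K V) = 0 := by
      apply h.trace_zero (inv_mem hv)
      rintro ⟨s, hs⟩
      have e2 := cj_eq_one' hs
      rw [map_inv, inv_eq_one] at e2
      exact hns (cj_eq_one e2)
    have e2 : tt g v = -(2 * LinearMap.trace K V (W * W' * ((v⁻¹ : (R K V)ˣ) : R K V))) := by
      unfold tt
      rw [hg1]
      simp only [add_mul, sub_mul, smul_mul_assoc, one_mul, map_add, map_sub, map_smul, smul_eq_mul, e1,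
        (haW.mul_cm a1).trace h2, (haW'.mul_cm a1).trace h2,
        ((hba.mul_cm hbW).mul_cm b1).trace h2, ((hba.mul_cm hbW').mul_cm b1).trace h2,
        ((hba.mul_cm hbWW).mul_cm b1).trace h2]
      ring
    have e3 : tt g (a * v) = -(2 * LinearMap.trace K V (W * W' * ((v⁻¹ : (R K V)ˣ) : R K V))) := by
      rw [hN.tt_mul, hag]
      simp only [add_mul, sub_mul, smul_mul_assoc, map_add, map_sub, map_smul, smul_eq_mul,
        (haW.mul_cm a1).trace h2, (haW'.mul_cm a1).trace h2,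
        ((hba.mul_cm hbW).mul_cm b1).trace h2, ((hba.mul_cm hbW').mul_cm b1).trace h2,
        ((hba.mul_cm hbWW).mul_cm b1).trace h2, (hba.mul_cm b1).trace h2]
      ring
    rw [e2, e3]
  obtain ⟨tc1, tc2⟩ := tv c hac hbc
  obtain ⟨tu1, tu2⟩ := tv u hau hbu
  rw [ht, ht'] at tc1 tc2
  rw [hs, hs'] at tu1 tu2
  -- not both of `c`, `a c` are in the support
  have hflat : ¬ (tt g c ≠ 0 ∧ tt g (a * c) ≠ 0) := by
    rintro ⟨h3, h4⟩
    obtain ⟨D, hD0, hD⟩ := h.sq_sc hc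
    have hD' : ((a * c : (R K V)ˣ) : R K V) * ((a * c : (R K V)ˣ) : R K V) = (-D) • (1 : R K V) := by
      rw [Units.val_mul]
      calc (a : R K V) * c * (a * c) = a * (c * a) * c := by simp only [mul_assoc]
        _ = _ := by
          rw [hac.symm, mul_neg, ← mul_assoc, hN.haa, one_mul, neg_mul, hD, neg_smul]
    have h5 := h.supp_flat hg hc (mul_mem hN.ha hc) h3 h4 hD hD'
    rw [tc1, tc2] at h5
    have h6 : D ^ 2 * (finrank K V : K) ^ 4 * (8 * t) * (1 + t ^ 2) = 0 := by linear_combination -h5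
    have h8 : (8 : K) ≠ 0 := by
      have : (8 : K) = 2 * 2 * 2 := by norm_num
      rw [this]
      exact mul_ne_zero (mul_ne_zero h2 h2) h2
    rcases mul_eq_zero.1 h6 with h7 | h7
    · exact mul_ne_zero (mul_ne_zero (pow_ne_zero _ hD0) (pow_ne_zero _ hn)) (mul_ne_zero h8 ht0) h7
    · exact ht1 (by linear_combination h7)
  -- hence not both of `1`, `a` are
  have h1a : ¬ (tt g 1 ≠ 0 ∧ tt g a ≠ 0) := by
    rintro ⟨h3, h4⟩
    apply hflat
    by_cases h5 : tt g c = 0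
    · have h6 : tt g (a * c) ≠ 0 := by
        intro h6
        rw [tc1] at h5
        rw [tc2] at h6
        have h7 : (2 : K) * (finrank K V : K) = 0 := by linear_combination h5 + h6
        exact mul_ne_zero h2 hn h7
      exfalso
      refine h.supp_three hg (one_mem _) hN.ha (mul_mem hN.ha hc) h3 h4 h6 (z := c) ?_ h5
      rw [map_one, one_mul, map_mul, ← mul_assoc, hA2 a hN.ha, one_mul]
    · refine ⟨h5, ?_⟩
      refine h.supp_three hg (one_mem _) hN.ha hc h3 h4 h5 (z := a * c) ?_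
      rw [map_one, one_mul, map_mul]
  -- nor both of `u`, `a u`
  have hua : ¬ (tt g u ≠ 0 ∧ tt g (a * u) ≠ 0) := by
    rintro ⟨h3, h4⟩
    by_cases h5 : tt g 1 = 0
    · have h6 : tt g a ≠ 0 := by
        intro h6
        rw [t1] at h5
        rw [ta] at h6
        exact hn (by linear_combination h5 - h6)
      refine h.supp_three hg hN.ha hu (mul_mem hN.ha hu) h6 h3 h4 (z := 1) ?_ h5
      rw [map_one, ← map_mul (cj K V) a u]
      exact (hA2 _ (mul_mem hN.ha hu)).symm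
    · refine h1a ⟨h5, ?_⟩
      refine h.supp_three hg (one_mem _) hu (mul_mem hN.ha hu) h5 h3 h4 (z := a) ?_
      rw [map_one, one_mul, map_mul, ← mul_assoc, hAc u hu a hN.ha, mul_assoc, hA2 u hu, mul_one]
  -- representatives `p ∈ {1, a}`, `q ∈ {c, a c}`, `r ∈ {u, a u}` of the support
  set α := cj K V a with hα
  set C := cj K V c with hC
  set U := cj K V u with hU
  have hp : ∃ p ∈ Lf A, tt g p ≠ 0 ∧ (cj K V p = 1 ∨ cj K V p = α) := by
    by_cases h5 : tt g 1 = 0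
    · refine ⟨a, hN.ha, fun h6 => ?_, Or.inr rfl⟩
      rw [t1] at h5
      rw [ta] at h6
      exact hn (by linear_combination h5 - h6)
    · exact ⟨1, one_mem _, h5, Or.inl (map_one _)⟩
  have hq : ∃ q ∈ Lf A, tt g q ≠ 0 ∧ (cj K V q = C ∨ cj K V q = α * C) := by
    by_cases h5 : tt g c = 0
    · refine ⟨a * c, mul_mem hN.ha hc, fun h6 => ?_, Or.inr (map_mul _ _ _)⟩
      rw [tc1] at h5
      rw [tc2] at h6
      have h7 : (2 : K) * (finrank K V : K) = 0 := by linear_combination h5 + h6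
      exact mul_ne_zero h2 hn h7
    · exact ⟨c, hc, h5, Or.inl rfl⟩
  have hr : ∃ q ∈ Lf A, tt g q ≠ 0 ∧ (cj K V q = U ∨ cj K V q = α * U) := by
    by_cases h5 : tt g u = 0
    · refine ⟨a * u, mul_mem hN.ha hu, fun h6 => ?_, Or.inr (map_mul _ _ _)⟩
      rw [tu1] at h5
      rw [tu2] at h6
      have h7 : (2 : K) * (finrank K V : K) = 0 := by linear_combination h5 + h6
      exact mul_ne_zero h2 hn h7
    · exact ⟨u, hu, h5, Or.inl rfl⟩
  obtain ⟨p, hpA, hpt, hp⟩ := hp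
  obtain ⟨q, hqA, hqt, hq⟩ := hq
  obtain ⟨r, hrA, hrt, hr⟩ := hr
  have hαα : ∀ x, α * (α * x) = x := fun x => by rw [← mul_assoc, hA2 a hN.ha, one_mul]
  have hCα : ∀ x, C * (α * x) = α * (C * x) := fun x => by rw [← mul_assoc, hAc c hc a hN.ha, mul_assoc]
  have hUα : ∀ x, U * (α * x) = α * (U * x) := fun x => by rw [← mul_assoc, hAc u hu a hN.ha, mul_assoc]
  have hcls : cj K V p * cj K V q * cj K V r = C * U ∨ cj K V p * cj K V q * cj K V r = α * (C * U) := by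
    rcases hp with hp | hp <;> rcases hq with hq | hq <;> rcases hr with hr | hr <;> rw [hp, hq, hr] <;>
      simp only [mul_assoc, one_mul, hαα, hCα, hUα, true_or, or_true]
  have hcuA : c * u ∈ Lf A := mul_mem hc hu
  have hcu : tt g (c * u) = tt g (a * (c * u)) := by
    apply tw _ hcuA (by rw [Units.val_mul]; exact hac.mul hau) (by rw [Units.val_mul]; exact hbc.mul hbu)
    rintro ⟨s, hs⟩
    apply huc
    have h3 := cj_eq_one' hs
    rw [map_mul] at h3
    have h4 : C * U * U = U := by rw [h3, one_mul]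
    rw [mul_assoc, hA2 u hu, mul_one] at h4
    exact h4.symm
  have hcu0 : tt g (c * u) ≠ 0 := by
    rcases hcls with h3 | h3
    · exact h.supp_three hg hpA hqA hrA hpt hqt hrt (z := c * u) (by rw [map_mul]; exact h3.symm)
    · rw [hcu]
      exact h.supp_three hg hpA hqA hrA hpt hqt hrt (z := a * (c * u)) (by rw [map_mul, map_mul]; exact h3.symm)
  have hcu1 : tt g (a * (c * u)) ≠ 0 := by rwa [← hcu]
  have hacuA : a * (c * u) ∈ Lf A := mul_mem hN.ha hcuA
  have hfin : tt g (a * p) ≠ 0 := by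
    refine h.supp_three hg hpA hcuA hacuA hpt hcu0 hcu1 (z := a * p) ?_
    rw [map_mul (cj K V) a p, map_mul (cj K V) a (c * u), ← hα, hAc _ hcuA |> fun f => mul_assoc (cj K V p) _ _]
    rw [← mul_assoc (cj K V (c * u)) α, hAc _ hcuA a hN.ha, mul_assoc α, hA2 _ hcuA, mul_one]
    exact hAc a hN.ha p hpA
  rcases hp with hp | hp
  · exact h1a ⟨tt_ne (v := 1) (by rw [hp, map_one]) hpt, tt_ne (v := a) (by rw [map_mul, hp, mul_one]) hfin⟩
  · exact h1a ⟨tt_ne (v := 1) (by rw [map_mul, hp, map_one]; exact hA2 a hN.ha) hfin, tt_ne (v := a) hp hpt⟩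

end AB

end Dat

end Cfsg.Agent.H716.FC
end

-- part: H716/FC/TwoFin
section
/-!
# S5764, extraspecial type normalizers, `r = 2`, `n ≥ 4` (helper716): the elements `a`, `b`, `c`
-/

set_option autoImplicit false

namespace Cfsg.Agent.H716.FC
open Cfsg.Agent.H198.FC Module

universe u v

variable {K : Type u} [Field K] {V : Type v} [AddCommGroup V] [Module K V]

/-- scaling -/
theorem exists_scale {κ : Kˣ} (hκ : ∀ x : Kˣ, x ∈ Subgroup.zpowers κ) {s : K} (hs : s ≠ 0) :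
    ∃ c : K, c ≠ 0 ∧ (c * c * s = 1 ∨ c * c * s = κ) := by
  obtain ⟨k, hk⟩ := hκ (Units.mk0 s hs)
  have h1 : s = ((κ : K)) ^ k := by
    have := congrArg (fun y : Kˣ => (y : K)) hk
    simpa using this.symm
  have hκ0 : (κ : K) ≠ 0 := κ.ne_zero
  rcases Int.even_or_odd' k with ⟨j, hj | hj⟩
  · refine ⟨(κ : K) ^ (-j), zpow_ne_zero _ hκ0, Or.inl ?_⟩
    rw [h1, ← zpow_add₀ hκ0, ← zpow_add₀ hκ0, hj]
    have : -j + -j + 2 * j = 0 := by ring
    rw [this, zpow_zero]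
  · refine ⟨(κ : K) ^ (-j), zpow_ne_zero _ hκ0, Or.inr ?_⟩
    rw [h1, ← zpow_add₀ hκ0, ← zpow_add₀ hκ0, hj]
    have : -j + -j + (2 * j + 1) = 1 := by ring
    rw [this, zpow_one]

/-- scaled units -/
theorem exists_smul_unit (u : (R K V)ˣ) {c : K} (hc : c ≠ 0) : ∃ v : (R K V)ˣ, (v : R K V) = c • (u : R K V) := by
  refine ⟨⟨c • (u : R K V), c⁻¹ • ((u⁻¹ : (R K V)ˣ) : R K V), ?_, ?_⟩, rfl⟩
  · rw [smul_mul_smul_comm, mul_inv_cancel₀ hc, Units.mul_inv, one_smul]
  · rw [smul_mul_smul_comm, inv_mul_cancel₀ hc, Units.inv_mul, one_smul]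

namespace Dat

variable {A : Subgroup (Equiv.Perm (R K V))} {m : ℕ}

theorem smul_mem_Lf {u v : (R K V)ˣ} {c : K} (hv : (v : R K V) = c • (u : R K V)) (hu : u ∈ Lf A) : v ∈ Lf A := by
  rw [mem_Lf, cj_eq_of' hv]
  exact hu

/-- a nonscalar involution among the lifts -/
theorem exists_a [Finite K] [Module.Finite K V] (h : Dat A 2 m) (hm : 2 ≤ m) :
    ∃ a ∈ Lf A, (¬ ∃ s : K, (a : R K V) = s • (1 : R K V)) ∧ (a : R K V) * a = 1 := by
  haveI : Finite (R K V) := finite_R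
  haveI := h.nontriv
  obtain ⟨κ, hκ⟩ := IsCyclic.exists_generator (α := Kˣ)
  have hκ0 : (κ : K) ≠ 0 := κ.ne_zero
  obtain ⟨M, hM1, hM2, hM3⟩ := exists_max (A := A)
  have h4 : 4 ≤ finrank K V := by
    rw [h.hn]
    calc 4 = 2 ^ 2 := by norm_num
      _ ≤ 2 ^ m := Nat.pow_le_pow_right (by norm_num) hm
  obtain ⟨⟨_, ⟨u, hu, rfl⟩⟩, ⟨_, ⟨v, hv, rfl⟩⟩, h1, h2, h3, -⟩ :=
    exists_pair (L := M.map (cj K V)) (h4.trans (h.card_L hM1 hM3))
  have hu1 : cj K V u ≠ 1 := fun hh => h1 (Subtype.ext hh)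
  have hv1 : cj K V v ≠ 1 := fun hh => h2 (Subtype.ext hh)
  have huv1 : cj K V u * cj K V v ≠ 1 := fun hh => h3 (Subtype.ext (eq_inv_of_mul_eq_one_right hh))
  have hns : ∀ w : (R K V)ˣ, cj K V w ≠ 1 → ¬ ∃ s : K, (w : R K V) = s • (1 : R K V) := by
    rintro w hw ⟨s, hs⟩
    exact hw (cj_eq_one' hs)
  obtain ⟨s, hs0, hs⟩ := h.sq_sc (hM1 hu)
  obtain ⟨t, ht0, ht⟩ := h.sq_sc (hM1 hv)
  obtain ⟨c, hc0, hc⟩ := exists_scale hκ hs0
  obtain ⟨d, hd0, hd⟩ := exists_scale hκ ht0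
  have key : ∀ (w : (R K V)ˣ) (p e : K), w ∈ Lf A → cj K V w ≠ 1 → e ≠ 0 → (w : R K V) * w = p • (1 : R K V) →
      e * e * p = 1 → ∃ a ∈ Lf A, (¬ ∃ s : K, (a : R K V) = s • (1 : R K V)) ∧ (a : R K V) * a = 1 := by
    intro w p e hw hw1 he0 hww hep
    obtain ⟨a, ha⟩ := exists_smul_unit w he0
    refine ⟨a, smul_mem_Lf ha hw, hns a (by rw [cj_eq_of' ha]; exact hw1), ?_⟩
    rw [ha, smul_mul_smul_comm, hww, smul_smul, hep, one_smul]
  rcases hc with hc | hc
  · exact key u s c (hM1 hu) hu1 hc0 hs hc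
  rcases hd with hd | hd
  · exact key v t d (hM1 hv) hv1 hd0 ht hd
  have hcomm : (u : R K V) * v = v * u := congrArg (fun z : (R K V)ˣ => (z : R K V)) (hM2 u hu v hv)
  refine key (u * v) (s * t) ((κ : K)⁻¹ * (c * d)) (mul_mem (hM1 hu) (hM1 hv)) (by rw [map_mul]; exact huv1)
    (mul_ne_zero (inv_ne_zero hκ0) (mul_ne_zero hc0 hd0)) ?_ ?_
  · rw [Units.val_mul]
    calc (u : R K V) * v * (u * v) = u * (v * u) * v := by simp only [mul_assoc]
      _ = (u * u) * (v * v) := by rw [← hcomm]; simp only [mul_assoc]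
      _ = _ := by rw [hs, ht, smul_mul_smul_comm, one_mul]
  · have e1 : (κ : K)⁻¹ * (c * d) * ((κ : K)⁻¹ * (c * d)) * (s * t) =
        (κ : K)⁻¹ * (κ : K)⁻¹ * ((c * c * s) * (d * d * t)) := by ring
    rw [e1, hc, hd]
    field_simp

/-- correction of signs: every lift can be multiplied by an element of `⟨a, b⟩` so that it commutes with `a`, `b` -/
theorem corr [Module.Finite K V] (h : Dat A 2 m) {a b : (R K V)ˣ} (ha : a ∈ Lf A) (hb : b ∈ Lf A)
    (hab : An (a : R K V) b) {u : (R K V)ˣ} (hu : u ∈ Lf A) :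
    ∃ w ∈ Lf A, (w = 1 ∨ w = a ∨ w = b ∨ w = a * b) ∧ Cm (a : R K V) ((u * w : (R K V)ˣ) : R K V) ∧
      Cm (b : R K V) ((u * w : (R K V)ˣ) : R K V) := by
  rcases h.dich ha hu with h1 | h1 <;> rcases h.dich hb hu with h2 | h2
  · exact ⟨1, one_mem _, Or.inl rfl, by rwa [mul_one], by rwa [mul_one]⟩
  · refine ⟨a, ha, Or.inr (Or.inl rfl), ?_, ?_⟩
    · rw [Units.val_mul]; exact h1.mul Cm.self
    · rw [Units.val_mul]; exact h2.mul hab.symm
  · refine ⟨b, hb, Or.inr (Or.inr (Or.inl rfl)), ?_, ?_⟩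
    · rw [Units.val_mul]; exact h1.mul hab
    · rw [Units.val_mul]; exact h2.mul Cm.self
  · refine ⟨a * b, mul_mem ha hb, Or.inr (Or.inr (Or.inr rfl)), ?_, ?_⟩
    · rw [Units.val_mul, Units.val_mul]; exact h1.mul (Cm.self.mul_an hab)
    · rw [Units.val_mul, Units.val_mul]; exact h2.mul (hab.symm.mul_cm Cm.self)

/-- a nonscalar lift commuting with `a`, `b` -/
theorem exists_eta [Finite K] [Module.Finite K V] (h : Dat A 2 m) (hm : 2 ≤ m) {a b : (R K V)ˣ} (ha : a ∈ Lf A)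
    (hb : b ∈ Lf A) (hab : An (a : R K V) b) : ∃ η ∈ Lf A, (¬ ∃ s : K, (η : R K V) = s • (1 : R K V)) ∧
      Cm (a : R K V) η ∧ Cm (b : R K V) η := by
  classical
  haveI : Finite (R K V) := finite_R
  by_contra hcon
  push Not at hcon
  -- every lift is a multiple of `1, a, b, ab`
  have h1 : ∀ f ∈ A, f ∈ ({1, (cj K V a)⁻¹, (cj K V b)⁻¹, (cj K V (a * b))⁻¹} : Finset (Equiv.Perm (R K V))) := by
    intro f hf
    obtain ⟨u, rfl⟩ := h.hIN hf
    obtain ⟨w, hw, hw4, hw1, hw2⟩ := h.corr ha hb hab (u := u) hf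
    by_cases hs : ∃ s : K, ((u * w : (R K V)ˣ) : R K V) = s • (1 : R K V)
    · obtain ⟨s, hs⟩ := hs
      have h2 := cj_eq_one' hs
      rw [map_mul] at h2
      have h3 := eq_inv_of_mul_eq_one_left h2
      rw [h3]
      rcases hw4 with rfl | rfl | rfl | rfl
      · simp
      · simp
      · simp
      · simp
    · exfalso
      push Not at hs
      exact hcon (u * w) (mul_mem hf hw) hs hw1 hw2
  have h2 : Nat.card A ≤ 4 := by
    haveI : Fintype A := Fintype.ofFinite A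
    rw [Nat.card_eq_fintype_card, ← Finset.card_univ]
    have h3 : (Finset.univ : Finset A).map ⟨fun x : A => (x : Equiv.Perm (R K V)), Subtype.val_injective⟩ ⊆
        ({1, (cj K V a)⁻¹, (cj K V b)⁻¹, (cj K V (a * b))⁻¹} : Finset (Equiv.Perm (R K V))) := by
      intro x hx
      rw [Finset.mem_map] at hx
      obtain ⟨y, -, rfl⟩ := hx
      exact h1 y y.2
    have h4 := Finset.card_le_card h3
    rw [Finset.card_map] at h4
    exact h4.trans Finset.card_le_four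
  rw [h.hcard] at h2
  have h3 : 2 ^ 4 ≤ 2 ^ (2 * m) := Nat.pow_le_pow_right (by norm_num) (by omega)
  omega

/-- the elements `a`, `b`, `c`, `η`, `ζ` -/
theorem exists_abc [Finite K] [Module.Finite K V] (h : Dat A 2 m) (hm : 2 ≤ m) :
    ∃ a b c : (R K V)ˣ, Nor a b A ∧ c ∈ Lf A ∧ An (a : R K V) c ∧ Cm (b : R K V) c ∧ cj K V b ≠ cj K V c ∧
      (∃ D : K, (b : R K V) * b = D • (1 : R K V) ∧ ∀ σ : K →+* K, σ D = D → ∀ x, σ x = x) ∧
      (∃ D : K, D ≠ 0 ∧ (c : R K V) * c = D • (1 : R K V) ∧ ∀ σ : K →+* K, σ D ≠ -D) ∧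
      ∃ η ∈ Lf A, ∃ ζ ∈ Lf A, Cm (a : R K V) η ∧ Cm (b : R K V) η ∧ Cm (a : R K V) ζ ∧ Cm (b : R K V) ζ ∧
        An (η : R K V) ζ := by
  haveI := h.nontriv
  have h2 := h.two_ne
  obtain ⟨κ, hκ⟩ := IsCyclic.exists_generator (α := Kˣ)
  have hκ0 : (κ : K) ≠ 0 := κ.ne_zero
  obtain ⟨a, ha, hans, haa⟩ := h.exists_a hm
  obtain ⟨b0, hb0, hb0a⟩ := h.exists_an ha hans
  obtain ⟨s, hs0, hs⟩ := h.sq_sc hb0
  have hb : ∃ b ∈ Lf A, An (a : R K V) b ∧ ∃ D : K, (b : R K V) * b = D • (1 : R K V) ∧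
      ∀ σ : K →+* K, σ D = D → ∀ x, σ x = x := by
    obtain ⟨c, hc0, hc⟩ := exists_scale hκ hs0
    rcases hc with hc | hc
    · obtain ⟨b, hb⟩ := exists_smul_unit b0 (mul_ne_zero hκ0 hc0)
      refine ⟨b, smul_mem_Lf hb hb0, ?_, (κ : K) * κ, ?_, ?_⟩
      · rw [hb]; exact hb0a.symm.smul _
      · rw [hb, smul_mul_smul_comm, hs, smul_smul]
        congr 1
        calc (κ : K) * c * (κ * c) * s = κ * κ * (c * c * s) := by ring
          _ = κ * κ := by rw [hc, mul_one]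
      · intro σ hσ
        rw [map_mul] at hσ
        rcases mul_self_eq_mul_self_iff.1 hσ with h3 | h3
        · exact sig_id hκ σ h3
        · exact absurd h3 (sig_neg hκ h2 σ)
    · obtain ⟨b, hb⟩ := exists_smul_unit b0 hc0
      refine ⟨b, smul_mem_Lf hb hb0, ?_, κ, ?_, fun σ hσ => sig_id hκ σ hσ⟩
      · rw [hb]; exact hb0a.symm.smul _
      · rw [hb, smul_mul_smul_comm, hs, smul_smul, hc]
  obtain ⟨b, hbA, hab, hD⟩ := hb
  obtain ⟨η, hη, hηns, haη, hbη⟩ := h.exists_eta hm ha hbA hab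
  -- `ζ`
  obtain ⟨ζ0, hζ0, hζη⟩ := h.exists_an hη hηns
  obtain ⟨w, hw, hw4, hw1, hw2⟩ := h.corr ha hbA hab hζ0
  have hwη : Cm (w : R K V) (η : R K V) := by
    rcases hw4 with rfl | rfl | rfl | rfl
    · exact (Cm.one (x := (η : R K V))).symm
    · exact haη
    · exact hbη
    · rw [Units.val_mul]; exact ((haη.symm).mul hbη.symm).symm
  have hζ : An (η : R K V) ((ζ0 * w : (R K V)ˣ) : R K V) := by
    rw [Units.val_mul]
    exact hζη.symm.mul_cm hwη.symm
  -- `c`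
  have hbηA : b * η ∈ Lf A := mul_mem hbA hη
  obtain ⟨t, ht0, ht⟩ := h.sq_sc hbηA
  obtain ⟨d, hd0, hd⟩ := exists_scale hκ ht0
  obtain ⟨c, hc⟩ := exists_smul_unit (b * η) hd0
  refine ⟨a, b, c, ⟨ha, hbA, haa, hab⟩, smul_mem_Lf hc hbηA, ?_, ?_, ?_, hD, ⟨d * d * t, ?_, ?_, ?_⟩,
    η, hη, ζ0 * w, mul_mem hζ0 hw, haη, hbη, hw1, hw2, hζ⟩
  · rw [hc, Units.val_mul]; exact (hab.mul_cm haη).smul _
  · rw [hc, Units.val_mul]; exact ((Cm.self (x := (b : R K V))).mul hbη).smul _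
  · rw [cj_eq_of' hc, map_mul]
    intro h3
    apply hηns
    exact cj_eq_one (left_eq_mul.1 h3)
  · exact mul_ne_zero (mul_ne_zero hd0 hd0) ht0
  · rw [hc, smul_mul_smul_comm, ht, smul_smul]
  · intro σ hσ
    rcases hd with hd | hd
    · rw [hd, map_one] at hσ
      exact h2 (by linear_combination hσ)
    · rw [hd] at hσ
      exact sig_neg hκ h2 σ hσ

end Dat

end Cfsg.Agent.H716.FC
end
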