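import Cfsg.Agent.H716.FC.TwoFin
set_option linter.all false

/-!
# S5764, extraspecial type normalizers, `r = 2`, `n ≥ 4` (helper716)
-/

set_option autoImplicit false

namespace Cfsg.Agent.H716.FC
open Cfsg.Agent.H198.FC Module

universe u v

variable {K : Type u} [Field K] {V : Type v} [AddCommGroup V] [Module K V]

theorem det_one_add (h2 : (2 : K) ≠ 0) {a : (R K V)ˣ} {Z : R K V} (ha : An (a : R K V) Z) (hZ : Z * Z = 0) :
    LinearMap.det (1 + Z) = 1 := by
  have e1 : (1 + (2⁻¹ : K) • Z) * (1 + (2⁻¹ : K) • Z) = 1 + Z := by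
    rw [add_mul, mul_add, mul_add, smul_mul_smul_comm, hZ]
    simp only [mul_one, one_mul, smul_zero, add_zero]
    rw [add_assoc, ← add_smul]
    have : (2⁻¹ : K) + 2⁻¹ = 1 := by field_simp; norm_num
    rw [this, one_smul]
  have e2 : (1 + (2⁻¹ : K) • Z) * (1 - (2⁻¹ : K) • Z) = 1 := by
    rw [add_mul, mul_sub, mul_sub, smul_mul_smul_comm, hZ]
    simp
  have e3 : (1 - (2⁻¹ : K) • Z) = a * (1 + (2⁻¹ : K) • Z) * ((a⁻¹ : (R K V)ˣ) : R K V) := by
    rw [mul_add, mul_smul_comm, ha, mul_one, add_mul, Units.mul_inv, smul_neg, neg_mul, smul_mul_assoc, mul_assoc,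
      Units.mul_inv, mul_one, sub_eq_add_neg]
  have e4 : LinearMap.det (1 - (2⁻¹ : K) • Z) = LinearMap.det (1 + (2⁻¹ : K) • Z) := by
    rw [e3, map_mul, map_mul, mul_comm, ← mul_assoc, ← map_mul, Units.inv_mul, map_one, one_mul]
  rw [← e1, map_mul]
  nth_rewrite 2 [← e4]
  rw [← map_mul, e2, map_one]

namespace Dat

variable {A : Subgroup (Equiv.Perm (R K V))} {m : ℕ}

/-- elements of `RA` centralizing `A`, `r = 2` -/
theorem exists_rho [Module.Finite K V] (h : Dat A 2 m) {f : Equiv.Perm (R K V)} (hf : f ∈ RA K V)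
    (hfA : ∀ g ∈ A, f * g = g * f) {u : (R K V)ˣ} (hu : u ∈ Lf A) : ∃ ρ : K, ρ ≠ 0 ∧ f u = ρ • (u : R K V) := by
  haveI := h.nontriv
  have hf1 := RA_one hf
  have key : ∃ ρ : K, f u = ρ • (u : R K V) := by
    rcases hf.2 with hm | hm
    · exact lam_pos hm hf1 (hfA _ hu)
    · obtain ⟨l, hl⟩ := lam_neg hm hf1 (hfA _ hu)
      obtain ⟨s, hs0, hs⟩ := h.sq_sc hu
      refine ⟨l * s⁻¹, ?_⟩
      have e1 : ((u⁻¹ : (R K V)ˣ) : R K V) = s⁻¹ • (u : R K V) := by
        have e2 : ((u⁻¹ : (R K V)ˣ) : R K V) * ((u : R K V) * u) = u := by rw [← mul_assoc, Units.inv_mul, one_mul]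
        rw [hs, mul_smul_comm, mul_one] at e2
        conv_rhs => rw [← e2]
        rw [smul_smul, inv_mul_cancel₀ hs0, one_smul]
      rw [hl, e1, smul_smul]
  obtain ⟨ρ, hρ⟩ := key
  refine ⟨ρ, ?_, hρ⟩
  rintro rfl
  rw [zero_smul, ← RA_zero hf] at hρ
  exact u.ne_zero (f.injective hρ)

theorem rho_sq [Module.Finite K V] (h : Dat A 2 m) {f : Equiv.Perm (R K V)} (hf : f ∈ RA K V) {σ : K →+* K}
    (hσ : ∀ (s : K) (X : R K V), f (s • X) = σ s • f X) {u : (R K V)ˣ} {ρ D : K} (hρ : f u = ρ • (u : R K V))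
    (hD : (u : R K V) * u = D • (1 : R K V)) : ρ * ρ * D = σ D := by
  haveI := h.nontriv
  have h1 : f ((u : R K V) * u) = f u * f u := by
    rcases hf.2 with hm | hm
    · exact hm _ _
    · exact hm _ _
  rw [hD, hσ, RA_one hf, hρ, smul_mul_smul_comm, hD, smul_smul] at h1
  exact (smul_inj_unit (V := V) (x := 1) h1).symm

/-- **the unipotent element for `r = 2`, `n ≥ 4`** -/
theorem c6two [Finite K] [Module.Finite K V] {S : Subgroup (Equiv.Perm (R K V))} (hS : S ≤ RA K V)
    (hC : C6Data S A 2 m) (hm : 2 ≤ m) :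
    ∃ x : (R K V)ˣ, LinearMap.det (x : R K V) = 1 ∧
      ∀ f ∈ S, (∀ g ∈ A, f * g = g * f) → cj K V x * f * (cj K V x)⁻¹ ∈ S → f = 1 := by
  classical
  have h : Dat A 2 m := Dat.of hC
  have hnorm : ∀ g ∈ S, ∀ f ∈ A, g * f * g⁻¹ ∈ A := hC.2.2.2.2.2.2.2.2.2.1
  haveI := h.nontriv
  haveI : Finite (R K V) := finite_R
  haveI : Fintype A := Fintype.ofFinite A
  have h2 := h.two_ne
  have hn := h.n_ne_zero
  obtain ⟨a, b, c, hN, hc, hac, hbc, hbc', ⟨Db, hDb, hDb'⟩, ⟨Dc, hDc0, hDc, hDc'⟩, η, hη, ζ, hζ, haη, hbη, haζ, hbζ,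
    hηζ⟩ := h.exists_abc hm
  have hba := hN.hab.symm
  -- representatives
  obtain ⟨y0, hy0⟩ := h.exists_rep
  let βb : A := ⟨cj K V b, hN.hb⟩
  let βc : A := ⟨cj K V c, hc⟩
  have hβ : βb ≠ βc := fun hh => hbc' (congrArg (fun x : A => (x : Equiv.Perm (R K V))) hh)
  let y : A → (R K V)ˣ := Function.update (Function.update y0 βb b) βc c
  have hyb : y βb = b := by
    simp only [y]
    rw [Function.update_of_ne hβ, Function.update_self]
  have hyc : y βc = c := Function.update_self _ _ _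
  have hy : ∀ α : A, cj K V (y α) = α := by
    intro α
    by_cases h3 : α = βc
    · rw [h3, hyc]
    by_cases h4 : α = βb
    · rw [h4, hyb]
    simp only [y]
    rw [Function.update_of_ne h3, Function.update_of_ne h4, hy0]
  have hyA : ∀ α : A, y α ∈ Lf A := fun α => rep_mem hy α
  let T : Finset A := Finset.univ.filter fun α => An (a : R K V) (y α) ∧ Cm (b : R K V) (y α)
  have hT : ∀ α, α ∈ T ↔ An (a : R K V) (y α) ∧ Cm (b : R K V) (y α) := by
    intro α
    simp only [T, Finset.mem_filter, Finset.mem_univ, true_and]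
  have hbT : βb ∈ T := (hT _).2 ⟨by rw [hyb]; exact hN.hab, by rw [hyb]; exact Cm.self⟩
  have hcT : βc ∈ T := (hT _).2 ⟨by rw [hyc]; exact hac, by rw [hyc]; exact hbc⟩
  set W : R K V := ∑ α ∈ T, (y α : R K V) with hW
  have haW : An (a : R K V) W := An.sum T fun α hα => ((hT α).1 hα).1
  have hbW : Cm (b : R K V) W := Cm.sum T fun α hα => ((hT α).1 hα).2
  have htr : ∀ (ρ : A → K) (α : A), α ∈ T →
      LinearMap.trace K V ((∑ β ∈ T, ρ β • (y β : R K V)) * (((y α)⁻¹ : (R K V)ˣ) : R K V)) = finrank K V * ρ α := by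
    intro ρ α hα
    rw [Finset.sum_mul, map_sum, Finset.sum_eq_single α]
    · rw [smul_mul_assoc, map_smul, h.trace_rep hy, if_pos rfl, smul_eq_mul, mul_comm]
    · intro β _ hβ
      rw [smul_mul_assoc, map_smul, h.trace_rep hy, if_neg (Ne.symm hβ), smul_zero]
    · intro h3
      exact absurd hα h3
  have htrW : ∀ α ∈ T, LinearMap.trace K V (W * (((y α)⁻¹ : (R K V)ˣ) : R K V)) = finrank K V := by
    intro α hα
    have h3 := htr (fun _ => 1) α hα
    simp only [one_smul, mul_one] at h3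
    exact h3
  set Z : R K V := (1 + (a : R K V)) * W with hZ
  have e0 : W * (a : R K V) = -(a * W) := by rw [haW, neg_neg]
  have hZZ : Z * Z = 0 := by
    have e1 : W * (1 + (a : R K V)) = (1 - (a : R K V)) * W := by
      rw [mul_add, e0, mul_one, sub_mul, one_mul, sub_eq_add_neg]
    have e2 : (1 + (a : R K V)) * (1 - (a : R K V)) = 0 := by
      rw [add_mul, mul_sub, mul_sub, hN.haa]; simp
    calc Z * Z = (1 + (a : R K V)) * (W * (1 + (a : R K V))) * W := by rw [hZ]; simp only [mul_assoc]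
      _ = (1 + (a : R K V)) * (1 - (a : R K V)) * W * W := by rw [e1]; simp only [mul_assoc]
      _ = 0 := by rw [e2]; simp
  have haZ : An (a : R K V) Z := by
    have : Cm (a : R K V) (1 + (a : R K V)) := by
      unfold Cm; rw [mul_add, add_mul, mul_one, one_mul]
    exact this.mul_an haW
  have e3 : (1 + Z) * (1 - Z) = 1 := by rw [add_mul, mul_sub, mul_sub, hZZ]; simp
  have e4 : (1 - Z) * (1 + Z) = 1 := by rw [sub_mul, mul_add, mul_add, hZZ]; simp
  let x : (R K V)ˣ := ⟨1 + Z, 1 - Z, e3, e4⟩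
  refine ⟨x, det_one_add h2 haZ hZZ, ?_⟩
  intro f hfS hfA hfx
  have hf := hS hfS
  have hf1 := RA_one hf
  obtain ⟨σ, hσ⟩ := exists_sig hf
  have hρ : ∀ α : A, ∃ ρ : K, ρ ≠ 0 ∧ f (y α) = ρ • (y α : R K V) := fun α => h.exists_rho hf hfA (hyA α)
  choose ρ hρ0 hρ using hρ
  obtain ⟨δ, hδ0, hδ⟩ := h.exists_rho hf hfA hN.ha
  have hδ1 : δ = 1 ∨ δ = -1 := by
    have h3 := h.rho_sq hf hσ hδ (D := 1) (by rw [hN.haa, one_smul])
    rw [mul_one, map_one] at h3
    exact mul_self_eq_one_iff.1 h3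
  have hfsum : ∀ s : Finset A, f (∑ α ∈ s, (y α : R K V)) = ∑ α ∈ s, ρ α • (y α : R K V) := by
    intro s
    induction s using Finset.induction_on with
    | empty => rw [Finset.sum_empty, Finset.sum_empty, RA_zero hf]
    | insert α s hα ih => rw [Finset.sum_insert hα, Finset.sum_insert hα, hf.1, ih, hρ]
  have hfW : f W = ∑ α ∈ T, ρ α • (y α : R K V) := hfsum T
  have haW' : An (a : R K V) (f W) := by rw [hfW]; exact An.sum T fun α hα => ((hT α).1 hα).1.smul _
  have hbW' : Cm (b : R K V) (f W) := by rw [hfW]; exact Cm.sum T fun α hα => ((hT α).1 hα).2.smul _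
  have htrW' : ∀ α ∈ T, LinearMap.trace K V (f W * (((y α)⁻¹ : (R K V)ˣ) : R K V)) = finrank K V * ρ α := by
    intro α hα
    rw [hfW]
    exact htr ρ α hα
  have e0' : f W * (a : R K V) = -(a * f W) := by rw [haW', neg_neg]
  have hd : cj K V x * f * (cj K V x)⁻¹ * f⁻¹ ∈ S := mul_mem hfx (inv_mem hfS)
  have hfsub : ∀ X Y : R K V, f (X - Y) = f X - f Y := by
    intro X Y
    rw [eq_sub_iff_add_eq, ← hf.1, sub_add_cancel]
  have hfx1 : f (x : R K V) = 1 + f Z := by
    change f (1 + Z) = _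
    rw [hf.1, hf1]
  have hfx2 : f ((x⁻¹ : (R K V)ˣ) : R K V) = 1 - f Z := by
    change f (1 - Z) = _
    rw [hfsub, hf1]
  have hf1a : f (1 + (a : R K V)) = 1 + δ • (a : R K V) := by rw [hf.1, hf1, hδ]
  have hci : (cj K V x)⁻¹ = cj K V x⁻¹ := (map_inv _ _).symm
  -- the squares
  have hρc : ρ βc ^ 2 ≠ -1 := by
    intro h3
    have h4 := h.rho_sq hf hσ (u := c) (ρ := ρ βc) (by rw [← hyc]; exact hρ βc) hDc
    apply hDc' σ
    rw [← h4, ← sq, h3]
    ring
  rcases hf.2 with hmul | hmul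
  · -- automorphisms
    have hfZ : f Z = (1 + δ • (a : R K V)) * f W := by rw [hZ, hmul, hf1a]
    let z : (R K V)ˣ := ⟨1 + f Z, 1 - f Z, by
      rw [← hfx1, ← hfx2, ← hmul, Units.mul_inv, hf1], by
      rw [← hfx1, ← hfx2, ← hmul, Units.inv_mul, hf1]⟩
    have hg : cj K V (x * z⁻¹) = cj K V x * f * (cj K V x)⁻¹ * f⁻¹ := by
      apply Equiv.ext
      intro Y
      obtain ⟨X, rfl⟩ := f.surjective Y
      rw [hci]
      change ((x * z⁻¹ : (R K V)ˣ) : R K V) * f X * (((x * z⁻¹)⁻¹ : (R K V)ˣ) : R K V) =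
        x * f ((cj K V x⁻¹) ((f⁻¹ : Equiv.Perm (R K V)) (f X))) * ((x⁻¹ : (R K V)ˣ) : R K V)
      rw [show (f⁻¹ : Equiv.Perm (R K V)) (f X) = X from f.symm_apply_apply X, cj_apply, hmul, hmul, inv_inv, hfx1,
        hfx2, mul_inv_rev, inv_inv, Units.val_mul, Units.val_mul]
      simp only [mul_assoc]
      rfl
    have hgn : ∀ α ∈ A, cj K V (x * z⁻¹) * α * (cj K V (x * z⁻¹))⁻¹ ∈ A := by
      intro α hα
      rw [hg]
      exact hnorm _ hd α hα
    have hgv : ((x * z⁻¹ : (R K V)ˣ) : R K V) = (1 + Z) * (1 - f Z) := rfl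
    rcases hδ1 with hδ1 | hδ1
    · -- `f a = a`
      rw [hδ1, one_smul] at hfZ hδ
      have hgW : ((x * z⁻¹ : (R K V)ˣ) : R K V) = 1 + (1 + a) * (W - f W) := by
        rw [hgv, hfZ, hZ]
        have e1 : (1 + (a : R K V)) * W * ((1 + (a : R K V)) * f W) = 0 := by
          have e1 : W * (1 + (a : R K V)) = (1 - (a : R K V)) * W := by
            rw [mul_add, e0, mul_one, sub_mul, one_mul, sub_eq_add_neg]
          have e2 : (1 + (a : R K V)) * (1 - (a : R K V)) = 0 := by
            rw [add_mul, mul_sub, mul_sub, hN.haa]; simp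
          calc (1 + (a : R K V)) * W * ((1 + (a : R K V)) * f W) =
              (1 + (a : R K V)) * (W * (1 + (a : R K V))) * f W := by simp only [mul_assoc]
            _ = (1 + (a : R K V)) * (1 - (a : R K V)) * W * f W := by rw [e1]; simp only [mul_assoc]
            _ = 0 := by rw [e2]; simp
        rw [mul_sub, mul_one, add_mul (1 : R K V) ((1 + (a : R K V)) * W), one_mul, e1, mul_sub]
        abel
      have hρ1 : ∀ α ∈ T, ρ α = 1 := by
        intro α hα
        have h3 := h.lemA hN hgn (W := W - f W) (by unfold An at *; rw [mul_sub, haW, haW', sub_mul]; abel)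
          (by unfold Cm at *; rw [mul_sub, hbW, hbW', sub_mul]) hgW (hyA α) ((hT α).1 hα).1 ((hT α).1 hα).2
        rw [sub_mul, map_sub, htrW α hα, htrW' α hα] at h3
        have h4 : (finrank K V : K) * (1 - ρ α) = 0 := by linear_combination h3
        rcases mul_eq_zero.1 h4 with h5 | h5
        · exact absurd h5 hn
        · linear_combination -h5
      have hfb : f b = b := by
        have := hρ βb
        rwa [hyb, hρ1 βb hbT, one_smul] at this
      have hid : ∀ s, σ s = s := by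
        apply hDb'
        have := h.rho_sq hf hσ (u := b) (ρ := 1) (by rw [hfb, one_smul]) hDb
        rw [← this]; ring
      have hfT : ∀ u ∈ Lf A, An (a : R K V) u → Cm (b : R K V) u → f u = u := by
        intro u hu hau hbu
        obtain ⟨s, hs⟩ := exists_rep_smul hy hu
        have hs0 : s ≠ 0 := by
          rintro rfl
          rw [zero_smul] at hs
          exact u.ne_zero hs
        have hsi : (y ⟨cj K V u, hu⟩ : R K V) = s⁻¹ • (u : R K V) := by
          rw [hs, smul_smul, inv_mul_cancel₀ hs0, one_smul]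
        have hα : (⟨cj K V u, hu⟩ : A) ∈ T := (hT _).2 ⟨by rw [hsi]; exact hau.smul _, by rw [hsi]; exact hbu.smul _⟩
        rw [hs, hσ, hid, hρ, hρ1 _ hα, one_smul]
      have hfA' : ∀ u ∈ Lf A, f u = u := by
        intro u hu
        obtain ⟨w, hw, hw4, hw1, hw2⟩ := h.corr hN.ha hN.hb hN.hab hu
        have hfw : f w = w := by
          rcases hw4 with rfl | rfl | rfl | rfl
          · exact hf1
          · exact hδ
          · exact hfb
          · rw [Units.val_mul, hmul, hδ, hfb]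
        have h3 := hfT (u * w * b) (mul_mem (mul_mem hu hw) hN.hb)
          (by rw [Units.val_mul]; exact hw1.mul_an hN.hab) (by rw [Units.val_mul]; exact hw2.mul Cm.self)
        rw [Units.val_mul, Units.val_mul, hmul, hmul, hfw, hfb] at h3
        have h4 := congrArg (fun X => X * ((b⁻¹ : (R K V)ˣ) : R K V) * ((w⁻¹ : (R K V)ˣ) : R K V)) h3
        simpa [mul_assoc] using h4
      apply Equiv.ext
      intro X
      have hX : X ∈ Submodule.span K {X : R K V | ∃ x : (R K V)ˣ, (x : R K V) = X ∧ cj K V x ∈ A} := by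
        rw [h.hspan]; trivial
      change f X = X
      induction hX using Submodule.span_induction with
      | mem Y hY =>
        obtain ⟨u, rfl, hu⟩ := hY
        exact hfA' u hu
      | zero => exact RA_zero hf
      | add X Y _ _ hX hY => rw [hf.1, hX, hY]
      | smul s X _ hX => rw [hσ, hid, hX]
    · -- `f a = -a`
      exfalso
      rw [hδ1, neg_smul, one_smul, ← sub_eq_add_neg] at hfZ
      refine h.lemB hN hgn haW hbW haW' hbW' (by rw [hgv, hfZ, hZ]) (u := b) (c := c) hN.hb hN.hab Cm.self hc hac hbc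
        hbc' (s := ρ βb) (t := ρ βc) ?_ ?_ ?_ ?_ (hρ0 βc) hρc
      · have := htrW βb hbT; rwa [hyb] at this
      · have := htrW' βb hbT; rwa [hyb] at this
      · have := htrW βc hcT; rwa [hyc] at this
      · have := htrW' βc hcT; rwa [hyc] at this
  · -- anti-automorphisms
    exfalso
    have hfZ : f Z = (1 - δ • (a : R K V)) * f W := by
      rw [hZ, hmul, hf1a, mul_add, mul_one, mul_smul_comm, e0', sub_mul, one_mul, smul_neg, smul_mul_assoc,
        sub_eq_add_neg]
    let z : (R K V)ˣ := ⟨1 + f Z, 1 - f Z, by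
      rw [← hfx1, ← hfx2, ← hmul, Units.inv_mul, hf1], by
      rw [← hfx1, ← hfx2, ← hmul, Units.mul_inv, hf1]⟩
    have hg : cj K V (x * z) = cj K V x * f * (cj K V x)⁻¹ * f⁻¹ := by
      apply Equiv.ext
      intro Y
      obtain ⟨X, rfl⟩ := f.surjective Y
      rw [hci]
      change ((x * z : (R K V)ˣ) : R K V) * f X * (((x * z)⁻¹ : (R K V)ˣ) : R K V) =
        x * f ((cj K V x⁻¹) ((f⁻¹ : Equiv.Perm (R K V)) (f X))) * ((x⁻¹ : (R K V)ˣ) : R K V)
      rw [show (f⁻¹ : Equiv.Perm (R K V)) (f X) = X from f.symm_apply_apply X, cj_apply, hmul, hmul, inv_inv, hfx1,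
        hfx2, mul_inv_rev, Units.val_mul, Units.val_mul]
      simp only [mul_assoc]
      rfl
    have hgn : ∀ α ∈ A, cj K V (x * z) * α * (cj K V (x * z))⁻¹ ∈ A := by
      intro α hα
      rw [hg]
      exact hnorm _ hd α hα
    have hgv : ((x * z : (R K V)ˣ) : R K V) = (1 + Z) * (1 + f Z) := rfl
    rcases hδ1 with hδ1 | hδ1
    · -- `f a = a`
      rw [hδ1, one_smul] at hfZ
      refine h.lemB hN hgn haW hbW (W' := -f W) (by unfold An at *; rw [mul_neg, haW', neg_mul])
        (by unfold Cm at *; rw [mul_neg, hbW', neg_mul]) (by rw [hgv, hfZ, hZ, mul_neg, sub_neg_eq_add])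
        (u := b) (c := c) hN.hb hN.hab Cm.self hc hac hbc
        hbc' (s := -ρ βb) (t := -ρ βc) ?_ ?_ ?_ ?_ (neg_ne_zero.2 (hρ0 βc)) (by rw [neg_sq]; exact hρc)
      · have := htrW βb hbT; rwa [hyb] at this
      · have := htrW' βb hbT; rw [hyb] at this; rw [neg_mul, map_neg, this]; ring
      · have := htrW βc hcT; rwa [hyc] at this
      · have := htrW' βc hcT; rw [hyc] at this; rw [neg_mul, map_neg, this]; ring
    · -- `f a = -a`
      rw [hδ1, neg_smul, one_smul, sub_neg_eq_add] at hfZ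
      have hgW : ((x * z : (R K V)ˣ) : R K V) = 1 + (1 + a) * (W + f W) := by
        rw [hgv, hfZ, hZ]
        have e1 : (1 + (a : R K V)) * W * ((1 + (a : R K V)) * f W) = 0 := by
          have e1 : W * (1 + (a : R K V)) = (1 - (a : R K V)) * W := by
            rw [mul_add, e0, mul_one, sub_mul, one_mul, sub_eq_add_neg]
          have e2 : (1 + (a : R K V)) * (1 - (a : R K V)) = 0 := by
            rw [add_mul, mul_sub, mul_sub, hN.haa]; simp
          calc (1 + (a : R K V)) * W * ((1 + (a : R K V)) * f W) =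
              (1 + (a : R K V)) * (W * (1 + (a : R K V))) * f W := by simp only [mul_assoc]
            _ = (1 + (a : R K V)) * (1 - (a : R K V)) * W * f W := by rw [e1]; simp only [mul_assoc]
            _ = 0 := by rw [e2]; simp
        rw [mul_add (1 + (1 + (a : R K V)) * W), mul_one, add_mul (1 : R K V) ((1 + (a : R K V)) * W), one_mul, e1,
          mul_add (1 + (a : R K V)) W]
        abel
      have hρ1 : ∀ α ∈ T, ρ α = -1 := by
        intro α hα
        have h3 := h.lemA hN hgn (W := W + f W) (by unfold An at *; rw [mul_add, haW, haW', add_mul]; abel)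
          (by unfold Cm at *; rw [mul_add, hbW, hbW', add_mul]) hgW (hyA α) ((hT α).1 hα).1 ((hT α).1 hα).2
        rw [add_mul, map_add, htrW α hα, htrW' α hα] at h3
        have h4 : (finrank K V : K) * (1 + ρ α) = 0 := by linear_combination h3
        rcases mul_eq_zero.1 h4 with h5 | h5
        · exact absurd h5 hn
        · linear_combination h5
      have hfb : f b = -b := by
        have := hρ βb
        rwa [hyb, hρ1 βb hbT, neg_smul, one_smul] at this
      have hid : ∀ s, σ s = s := by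
        apply hDb'
        have := h.rho_sq hf hσ (u := b) (ρ := -1) (by rw [hfb, neg_smul, one_smul]) hDb
        rw [← this]; ring
      have hfT : ∀ u ∈ Lf A, An (a : R K V) u → Cm (b : R K V) u → f u = -u := by
        intro u hu hau hbu
        obtain ⟨s, hs⟩ := exists_rep_smul hy hu
        have hs0 : s ≠ 0 := by
          rintro rfl
          rw [zero_smul] at hs
          exact u.ne_zero hs
        have hsi : (y ⟨cj K V u, hu⟩ : R K V) = s⁻¹ • (u : R K V) := by
          rw [hs, smul_smul, inv_mul_cancel₀ hs0, one_smul]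
        have hα : (⟨cj K V u, hu⟩ : A) ∈ T := (hT _).2 ⟨by rw [hsi]; exact hau.smul _, by rw [hsi]; exact hbu.smul _⟩
        rw [hs, hσ, hid, hρ, hρ1 _ hα, neg_smul, one_smul, smul_neg]
      have hfC : ∀ u ∈ Lf A, Cm (a : R K V) u → Cm (b : R K V) u → f u = u := by
        intro u hu hau hbu
        have h3 := hfT (b * u) (mul_mem hN.hb hu) (by rw [Units.val_mul]; exact hN.hab.mul_cm hau)
          (by rw [Units.val_mul]; exact (Cm.self (x := (b : R K V))).mul hbu)
        rw [Units.val_mul, hmul, hfb, hbu, mul_neg, neg_inj] at h3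
        have h4 := congrArg (fun X => X * ((b⁻¹ : (R K V)ˣ) : R K V)) h3
        simpa [mul_assoc] using h4
      have h3 := hfC (η * ζ) (mul_mem hη hζ) (by rw [Units.val_mul]; exact haη.mul haζ)
        (by rw [Units.val_mul]; exact hbη.mul hbζ)
      rw [Units.val_mul, hmul, hfC η hη haη hbη, hfC ζ hζ haζ hbζ, hηζ] at h3
      have h4 : (2 : K) • ((ζ * η : (R K V)ˣ) : R K V) = 0 := by
        rw [two_smul, Units.val_mul]
        nth_rewrite 1 [h3]
        rw [neg_add_cancel]
      exact h2 (smul_eq_zero_unit h4)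

end Dat

end Cfsg.Agent.H716.FC
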